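/-
Sylow-local bounds for the kernel of a stem extension.
-/
import Mathlib
import Cfsg.Agent.Lib.SchurSmall
import Cfsg.Agent.Lib.StSL.Small

set_option autoImplicit false

namespace CfsgLib.StemSylow

open Subgroup
open scoped commutatorElement

universe u v

variable {G : Type v} [Group G]

/-- A prime power order element and a normalizing one outside span a larger prime power. -/
theorem pow_succ_dvd_card [Finite G] {p i j : ℕ} [Fact p.Prime] {x y : G} (hx : orderOf x = p ^ i) (hy : orderOf y = p ^ j)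
    (hn : y * x * y⁻¹ ∈ zpowers x) (hout : y ∉ zpowers x) : p ^ (i + 1) ∣ Nat.card (closure ({x, y} : Set G)) := by
  have hN : zpowers y ≤ normalizer (zpowers x : Set G) := by
    have hle : (zpowers x).map (MulAut.conj y).toMonoidHom ≤ zpowers x := by
      rw [MonoidHom.map_zpowers, zpowers_le]; exact hn
    rw [zpowers_le, mem_normalizer_iff_map_conj_eq]
    exact eq_of_le_of_card_ge hle (le_of_eq (card_map_of_injective (MulAut.conj y).injective).symm)
  have hX : IsPGroup p (zpowers x) := IsPGroup.of_card (n := i) (by rw [Nat.card_zpowers, hx])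
  have hY : IsPGroup p (zpowers y) := IsPGroup.of_card (n := j) (by rw [Nat.card_zpowers, hy])
  have hP := hX.to_sup_of_normal_left' hY hN
  have he : closure ({x, y} : Set G) = zpowers x ⊔ zpowers y := by
    rw [Set.insert_eq, Subgroup.closure_union, zpowers_eq_closure, zpowers_eq_closure]
  rw [he]
  obtain ⟨k, hk⟩ := IsPGroup.iff_card.mp hP
  have hlt : Nat.card (zpowers x) < Nat.card (zpowers x ⊔ zpowers y : Subgroup G) := by
    by_contra h
    have := eq_of_le_of_card_ge (le_sup_left : zpowers x ≤ zpowers x ⊔ zpowers y) (not_lt.mp h)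
    exact hout (this ▸ mem_sup_right (mem_zpowers y))
  rw [Nat.card_zpowers, hx, hk] at hlt
  rw [hk]
  exact pow_dvd_pow p ((Nat.pow_lt_pow_iff_right (Fact.out : p.Prime).one_lt).mp hlt)

variable {Γ : Type u} [Group Γ] [Finite Γ] {σ : Γ →* G}

theorem comap_eq {X : Set Γ} : (closure (σ '' X)).comap σ = closure X ⊔ σ.ker := by
  rw [← MonoidHom.map_closure, comap_map_eq]

/-- Lifts that commute give an exponent bound. -/
theorem pow_index_eq_one_of_commute (hσ : Cfsg.IsStemExtension σ) {X : Set Γ}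
    (hX : ∀ a ∈ X, ∀ b ∈ X, Commute a b) {z : Γ} (hz : z ∈ σ.ker) :
    z ^ (closure (σ '' X)).index = 1 := by
  obtain ⟨h, hm⟩ := CfsgLib.StSL.pow_index_mem hσ (closure (σ '' X)) hz
  have hab : commutator ((closure (σ '' X)).comap σ) = ⊥ := by
    have hle : (closure (σ '' X)).comap σ ≤ centralizer ((closure (σ '' X)).comap σ : Set Γ) := by
      rw [comap_eq]
      have hgen : ∀ a ∈ X ∪ (σ.ker : Set Γ), ∀ b ∈ X ∪ (σ.ker : Set Γ), a * b = b * a := by
        intro a ha b hb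
        rcases ha with ha | ha
        · rcases hb with hb | hb
          · exact (hX a ha b hb).eq
          · exact mem_center_iff.mp (hσ.2.1 hb) a
        · exact (mem_center_iff.mp (hσ.2.1 ha) b).symm
      have e : closure X ⊔ σ.ker = closure (X ∪ (σ.ker : Set Γ)) := by
        rw [Subgroup.closure_union, Subgroup.closure_eq]
      rw [e, closure_le, centralizer_closure]
      intro a ha
      exact mem_centralizer_iff.mpr fun b hb => hgen b hb a ha
    rw [commutator_def, commutator_eq_bot_iff_le_centralizer]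
    rintro ⟨x, hx⟩ -
    exact mem_centralizer_iff.mpr fun ⟨y, hy⟩ _ => Subtype.ext (mem_centralizer_iff.mp (hle hx) y hy)
  rw [hab, mem_bot] at hm
  exact congrArg Subtype.val hm

/-- A commutator centralised by the first entry is killed by its period. -/
theorem comm_pow_eq_one {X Y : Γ} (hc : Commute X ⁅X, Y⁆) {n : ℕ} (hn : Commute (X ^ n) Y) : ⁅X, Y⁆ ^ n = 1 := by
  have e : X * Y * X⁻¹ = ⁅X, Y⁆ * Y := by rw [commutatorElement_def]; group
  have hk : ∀ m : ℕ, X ^ m * Y * (X ^ m)⁻¹ = ⁅X, Y⁆ ^ m * Y := by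
    intro m
    induction m with
    | zero => simp
    | succ m ih =>
      have hun : Commute X (⁅X, Y⁆ ^ m) := hc.pow_right m
      calc X ^ (m + 1) * Y * (X ^ (m + 1))⁻¹ = X * (X ^ m * Y * (X ^ m)⁻¹) * X⁻¹ := by rw [pow_succ']; group
        _ = X * ⁅X, Y⁆ ^ m * (Y * X⁻¹) := by rw [ih]; group
        _ = ⁅X, Y⁆ ^ m * (X * Y * X⁻¹) := by rw [hun.eq]; group
        _ = ⁅X, Y⁆ ^ (m + 1) * Y := by rw [e, pow_succ, mul_assoc]
  have := hk n
  rw [hn.eq, mul_inv_cancel_right] at this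
  exact mul_eq_right.mp this.symm

/-- An odd pair with a twisting element has commuting lifts. -/
theorem commute_lifts_of_twist (hσ : Cfsg.IsStemExtension σ) {x y t : G} (hx : x ^ 3 = 1) (hxy : Commute x y)
    (htx : t * x * t⁻¹ = x) (hty : t * y * t⁻¹ = y⁻¹) {X Y : Γ} (hX : σ X = x) (hY : σ Y = y) : Commute X Y := by
  obtain ⟨T, hT⟩ := hσ.1 t
  set u := ⁅X, Y⁆ with hu
  have huk : u ∈ σ.ker := by
    rw [MonoidHom.mem_ker, hu, map_commutatorElement, hX, hY, commutatorElement_eq_one_iff_commute]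
    exact hxy
  have hc : ∀ g, g * u = u * g := fun g => mem_center_iff.mp (hσ.2.1 huk) g
  have h1 : T * u * T⁻¹ = u := by rw [hc T, mul_inv_cancel_right]
  have h2 : ⁅T * X * T⁻¹, T * Y * T⁻¹⁆ = ⁅X, Y⁻¹⁆ :=
    CfsgLib.StSL.comm_congr hσ.2.1 (by rw [map_mul, map_mul, map_inv, hT, hX, htx])
      (by rw [map_mul, map_mul, map_inv, map_inv, hT, hY, hty])
  have h3 : ⁅X, Y⁻¹⁆ = u⁻¹ := by
    have e : X * Y * X⁻¹ = u * Y := by rw [hu, commutatorElement_def]; group
    calc ⁅X, Y⁻¹⁆ = (X * Y * X⁻¹)⁻¹ * Y := by rw [commutatorElement_def]; group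
      _ = u⁻¹ := by rw [e, mul_inv_rev, mul_assoc, (show Commute Y u from hc Y).inv_right.symm.eq, inv_mul_cancel_left]
  have hsq : u = u⁻¹ := by
    calc u = T * u * T⁻¹ := h1.symm
      _ = ⁅T * X * T⁻¹, T * Y * T⁻¹⁆ := by rw [hu, commutatorElement_def, commutatorElement_def]; group
      _ = u⁻¹ := by rw [h2, h3]
  have hcube : u ^ 3 = 1 := by
    refine comm_pow_eq_one (hc X) ?_
    have hX3 : X ^ 3 ∈ σ.ker := by rw [MonoidHom.mem_ker, map_pow, hX, hx]
    exact (mem_center_iff.mp (hσ.2.1 hX3) Y).symm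
  have hu1 : u = 1 := by
    have h4 : u * u = 1 := by nth_rewrite 2 [hsq]; exact mul_inv_cancel u
    calc u = u ^ 3 * (u * u)⁻¹ := by group
      _ = 1 := by rw [hcube, h4]; group
  exact commutatorElement_eq_one_iff_commute.mp hu1

/-- An odd pair with a twisting element gives an exponent bound. -/
theorem pow_index_eq_one_of_twist (hσ : Cfsg.IsStemExtension σ) {x y t : G} {p : ℕ} (hp : p = 3)
    (hx : x ^ p = 1) (hxy : Commute x y) (htx : t * x * t⁻¹ = x) (hty : t * y * t⁻¹ = y⁻¹) {z : Γ} (hz : z ∈ σ.ker) :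
    z ^ (closure ({x, y} : Set G)).index = 1 := by
  subst hp
  obtain ⟨X, hX⟩ := hσ.1 x
  obtain ⟨Y, hY⟩ := hσ.1 y
  have hXY := commute_lifts_of_twist hσ hx hxy htx hty hX hY
  have := pow_index_eq_one_of_commute hσ (X := {X, Y}) (by
    rintro a (rfl | rfl) b (rfl | rfl)
    exacts [Commute.refl _, hXY, hXY.symm, Commute.refl _]) hz
  rwa [Set.image_pair, hX, hY] at this

/-- An extraspecial group of order `27` and an element inverting its generators kill three-torsion. -/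
theorem pow_index_eq_one_of_heisenberg (hσ : Cfsg.IsStemExtension σ) {a b c t : G} (ha : a ^ 3 = 1)
    (hcd : ⁅a, b⁆ = c) (hca : Commute c a) (hcb : Commute c b) (hc1 : orderOf c = 3)
    (htc : t * c * t⁻¹ = c) (hta : t * a * t⁻¹ = a⁻¹) (htb : t * b * t⁻¹ = b⁻¹) {z : Γ} (hz : z ∈ σ.ker) :
    z ^ (closure ({a, b} : Set G)).index = 1 := by
  obtain ⟨A, hA⟩ := hσ.1 a
  obtain ⟨B, hB⟩ := hσ.1 b
  set w := ⁅A, B⁆ with hw
  have hσw : σ w = c := by rw [hw, map_commutatorElement, hA, hB, hcd]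
  have hc3 : c ^ 3 = 1 := by rw [← hc1]; exact pow_orderOf_eq_one c
  have hwA : Commute w A := commute_lifts_of_twist hσ hc3 hca htc hta hσw hA
  have hwB : Commute w B := commute_lifts_of_twist hσ hc3 hcb htc htb hσw hB
  have hw3 : w ^ 3 = 1 := by
    refine comm_pow_eq_one hwA.symm ?_
    have hA3 : A ^ 3 ∈ σ.ker := by rw [MonoidHom.mem_ker, map_pow, hA, ha]
    exact (mem_center_iff.mp (hσ.2.1 hA3) B).symm
  set P := closure ({a, b} : Set G) with hP
  set H := P.comap σ with hH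
  have hgenH : H = closure {A, B} ⊔ σ.ker := by
    rw [hH, hP, ← comap_eq, Set.image_pair, hA, hB]
  have hAH : A ∈ H := hgenH ▸ mem_sup_left (subset_closure (Or.inl rfl))
  have hBH : B ∈ H := hgenH ▸ mem_sup_left (subset_closure (Or.inr rfl))
  have hkH : σ.ker ≤ H := hgenH ▸ le_sup_right
  have hwH : w ∈ H := mul_mem (mul_mem (mul_mem hAH hBH) (inv_mem hAH)) (inv_mem hBH)
  have hgen : closure ({⟨A, hAH⟩, ⟨B, hBH⟩} : Set H) ⊔ σ.ker.subgroupOf H = ⊤ := by
    refine map_injective H.subtype_injective ?_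
    rw [Subgroup.map_sup, MonoidHom.map_closure, Set.image_pair, map_subgroupOf_eq_of_le hkH, ← MonoidHom.range_eq_map,
      range_subtype]
    exact hgenH.symm
  have hcomm : commutator H ≤ zpowers (⟨w, hwH⟩ : H) := by
    refine CfsgLib.SchurSmall.commutator_le_zpowers (K := σ.ker.subgroupOf H) ?_ hgen ?_ ?_ ?_
    · intro x hx
      exact mem_center_iff.mpr fun g => Subtype.ext (mem_center_iff.mp (hσ.2.1 hx) g)
    · refine mem_zpowers_iff.mpr ⟨-1, Subtype.ext ?_⟩
      show w ^ (-1 : ℤ) = ⁅B, A⁆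
      rw [zpow_neg_one, hw, commutatorElement_inv]
    · exact mem_zpowers_iff.mpr ⟨1, Subtype.ext (by
        rw [zpow_one]; show w = A * w * A⁻¹; rw [← hwA.eq, mul_inv_cancel_right])⟩
    · exact mem_zpowers_iff.mpr ⟨1, Subtype.ext (by
        rw [zpow_one]; show w = B * w * B⁻¹; rw [← hwB.eq, mul_inv_cancel_right])⟩
  obtain ⟨hmem, hm⟩ := CfsgLib.StSL.pow_index_mem hσ P hz
  obtain ⟨k, hk⟩ := mem_zpowers_iff.mp (hcomm hm)
  have hk' : w ^ k = z ^ P.index := congrArg Subtype.val hk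
  have h3 : (3 : ℤ) ∣ k := by
    have h := congrArg σ hk'
    rw [map_zpow, hσw, map_pow, MonoidHom.mem_ker.mp hz, one_pow, ← orderOf_dvd_iff_zpow_eq_one, hc1] at h
    exact_mod_cast h
  obtain ⟨l, rfl⟩ := h3
  rw [← hk', zpow_mul, show (3 : ℤ) = ((3 : ℕ) : ℤ) from rfl, zpow_natCast, hw3, one_zpow]

/-- Semidihedral subgroups of order sixteen kill two-torsion. -/
theorem pow_index_eq_one_of_semidihedral (hσ : Cfsg.IsStemExtension σ) {a b : G} (ha : orderOf a = 8) (hb : b * b = 1)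
    (hab : b * a * b⁻¹ = a ^ 3) {z : Γ} (hz : z ∈ σ.ker) :
    z ^ (closure ({a, b} : Set G)).index = 1 := by
  obtain ⟨A, hA⟩ := hσ.1 a
  obtain ⟨B, hB⟩ := hσ.1 b
  set P := closure ({a, b} : Set G) with hP
  set w := (A ^ 3)⁻¹ * (B * A * B⁻¹) with hw
  have hwk : w ∈ σ.ker := by
    rw [MonoidHom.mem_ker, hw, map_mul, map_inv, map_pow, map_mul, map_mul, map_inv, hA, hB, hab, inv_mul_cancel]
  have hwc : ∀ g, Commute g w := fun g => mem_center_iff.mp (hσ.2.1 hwk) g
  have hBA : B * A * B⁻¹ = A ^ 3 * w := by rw [hw, mul_inv_cancel_left]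
  set c := A ^ 2 * w with hc
  have hconj : ∀ n : ℕ, B * A ^ n * B⁻¹ = A ^ (3 * n) * w ^ n := fun n => by
    rw [← MulAut.conj_apply, map_pow, MulAut.conj_apply, hBA, (hwc _).mul_pow, ← pow_mul]
  have hBc : B * c * B⁻¹ = c ^ 3 := by
    calc B * c * B⁻¹ = (B * A ^ 2 * B⁻¹) * (B * w * B⁻¹) := by rw [hc]; group
      _ = A ^ (3 * 2) * w ^ 2 * w := by rw [hconj, (hwc B).eq, mul_inv_cancel_right]
      _ = c ^ 3 := by rw [hc, (hwc _).mul_pow, ← pow_mul, mul_assoc, ← pow_succ]
  have hB2 : B * B ∈ σ.ker := by rw [MonoidHom.mem_ker, map_mul, hB, hb]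
  have h8 : c ^ 4 = 1 := by
    have e : B * B * A * (B * B)⁻¹ = A := by
      rw [show B * B * A = A * (B * B) from ((mem_center_iff.mp (hσ.2.1 hB2) A)).symm, mul_inv_cancel_right]
    have e2 : B * B * A * (B * B)⁻¹ = A ^ 9 * w ^ 4 := by
      calc B * B * A * (B * B)⁻¹ = B * (B * A * B⁻¹) * B⁻¹ := by group
        _ = B * A ^ 3 * B⁻¹ * (B * w * B⁻¹) := by rw [hBA]; group
        _ = A ^ (3 * 3) * w ^ 3 * w := by rw [hconj, (hwc B).eq, mul_inv_cancel_right]
        _ = A ^ 9 * w ^ 4 := by rw [mul_assoc, ← pow_succ]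
    rw [e, pow_succ' A 8, mul_assoc, left_eq_mul] at e2
    rw [hc, (hwc _).mul_pow, ← pow_mul]
    exact e2
  set H := P.comap σ with hH
  have hgenH : H = closure {A, B} ⊔ σ.ker := by
    rw [hH, hP, ← comap_eq, Set.image_pair, hA, hB]
  have hAH : A ∈ H := hgenH ▸ mem_sup_left (subset_closure (Or.inl rfl))
  have hBH : B ∈ H := hgenH ▸ mem_sup_left (subset_closure (Or.inr rfl))
  have hkH : σ.ker ≤ H := hgenH ▸ le_sup_right
  have hcH : c ∈ H := mul_mem (pow_mem hAH 2) (hkH hwk)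
  have hgen : closure ({⟨A, hAH⟩, ⟨B, hBH⟩} : Set H) ⊔ σ.ker.subgroupOf H = ⊤ := by
    refine map_injective H.subtype_injective ?_
    rw [Subgroup.map_sup, MonoidHom.map_closure, Set.image_pair, map_subgroupOf_eq_of_le hkH, ← MonoidHom.range_eq_map,
      range_subtype]
    exact hgenH.symm
  have hcomm : commutator H ≤ zpowers (⟨c, hcH⟩ : H) := by
    refine CfsgLib.SchurSmall.commutator_le_zpowers (K := σ.ker.subgroupOf H) ?_ hgen ?_ ?_ ?_
    · intro x hx
      exact mem_center_iff.mpr fun g => Subtype.ext (mem_center_iff.mp (hσ.2.1 hx) g)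
    · have : ⁅B, A⁆ = c := by
        rw [commutatorElement_def, hBA, hc, mul_assoc, ← (hwc A⁻¹).eq, ← mul_assoc]; group
      exact mem_zpowers_iff.mpr ⟨1, Subtype.ext (by rw [zpow_one]; exact this.symm)⟩
    · have hAc : Commute A c := ((Commute.refl A).pow_right 2).mul_right (hwc A)
      exact mem_zpowers_iff.mpr ⟨1, Subtype.ext (by rw [zpow_one]; show c = A * c * A⁻¹; rw [hAc.eq, mul_inv_cancel_right])⟩
    · exact mem_zpowers_iff.mpr ⟨3, Subtype.ext (by
        show c ^ (3 : ℤ) = B * c * B⁻¹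
        rw [hBc]; norm_cast)⟩
  obtain ⟨hmem, hm⟩ := CfsgLib.StSL.pow_index_mem hσ P hz
  obtain ⟨k, hk⟩ := mem_zpowers_iff.mp (hcomm hm)
  have hk' : c ^ k = z ^ P.index := congrArg Subtype.val hk
  have hσc : σ c = a ^ (2 : ℤ) := by
    rw [hc, map_mul, MonoidHom.mem_ker.mp hwk, mul_one, map_pow, hA]; norm_cast
  have h4 : (4 : ℤ) ∣ k := by
    have h := congrArg σ hk'
    rw [map_zpow, hσc, map_pow, MonoidHom.mem_ker.mp hz, one_pow, ← zpow_mul, ← orderOf_dvd_iff_zpow_eq_one, ha] at h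
    omega
  obtain ⟨l, rfl⟩ := h4
  rw [← hk', zpow_mul, show (4 : ℤ) = ((4 : ℕ) : ℤ) from rfl, zpow_natCast, h8, one_zpow]

end CfsgLib.StemSylow
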