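/-
The order of J1 and its trivial multiplier.
-/
import Mathlib
import Cfsg.Agent.Lib.J1.CentEquiv
import Cfsg.Agent.Lib.StemSylow.Basic

set_option autoImplicit false
set_option maxRecDepth 8000

namespace CfsgLib.StemSylow.JankoOne

open Cfsg.Spor Subgroup
open scoped commutatorElement
open CfsgLib.J1 hiding rr_mem

/-- Code of the element `r i * h k`. -/
def el (i k : ℕ) : ℕ := mulN (rr i) (hh k)

def fC : ℕ := el 104 267
def tC : ℕ := hh 2
def uC : ℕ := mulN (mulN fC tC) (powN fC 6)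
def wC : ℕ := mulN (mulN fC uC) (powN fC 6)

/-- Representatives of the odd prime orders. -/
def oddData : List (ℕ × ℕ × ℕ) := [(3, 105, 436), (5, 32, 261), (7, 14, 399), (11, 68, 582), (19, 1, 456)]

theorem rel_checked : powN fC 7 = oneN ∧ powN tC 2 = oneN ∧ tC ≠ oneN ∧ mulN tC uC = mulN uC tC ∧
    mulN tC wC = mulN wC tC ∧ mulN uC wC = mulN wC uC ∧ mulN (mulN fC wC) (powN fC 6) = mulN tC uC ∧
    [oneN, tC, uC, mulN tC uC, wC].Nodup ∧
    (oddData.all fun d => powN (el d.2.1 d.2.2) d.1 == oneN && el d.2.1 d.2.2 != oneN) = true := by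
  decide +kernel

attribute [local irreducible] hh rr mulN

theorem exists_el (i k : ℕ) : ∃ g : ↥Cfsg.Spor.J1, eN (g : GL (Fin 7) (ZMod 11)) = el i k := by
  obtain ⟨g, hg, he⟩ := exists_val (e := (0, i, k))
  exact ⟨⟨g, hg⟩, he⟩

theorem eN_eq {g h : ↥Cfsg.Spor.J1} (e : eN (g : GL (Fin 7) (ZMod 11)) = eN (h : GL (Fin 7) (ZMod 11))) : g = h :=
  Subtype.ext (eN_injective e)

theorem eN_coe_pow (g : ↥Cfsg.Spor.J1) (n : ℕ) :
    eN ((g ^ n : ↥Cfsg.Spor.J1) : GL (Fin 7) (ZMod 11)) = powN (eN (g : GL (Fin 7) (ZMod 11))) n := by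
  rw [SubgroupClass.coe_pow, eN_pow]

theorem eN_coe_mul (g h : ↥Cfsg.Spor.J1) :
    eN ((g * h : ↥Cfsg.Spor.J1) : GL (Fin 7) (ZMod 11)) =
      mulN (eN (g : GL (Fin 7) (ZMod 11))) (eN (h : GL (Fin 7) (ZMod 11))) := by
  rw [Subgroup.coe_mul, eN_mul]

theorem eN_coe_one : eN ((1 : ↥Cfsg.Spor.J1) : GL (Fin 7) (ZMod 11)) = oneN := by
  rw [OneMemClass.coe_one, eN_one]

theorem conj_code {f x : ↥Cfsg.Spor.J1} {a b : ℕ} (hf : eN (f : GL (Fin 7) (ZMod 11)) = a)
    (hx : eN (x : GL (Fin 7) (ZMod 11)) = b) (h7 : f ^ 7 = 1) :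
    eN ((f * x * f⁻¹ : ↥Cfsg.Spor.J1) : GL (Fin 7) (ZMod 11)) = mulN (mulN a b) (powN a 6) := by
  rw [show f⁻¹ = f ^ 6 from inv_eq_of_mul_eq_one_left (by rw [← pow_succ]; exact h7), eN_coe_mul, eN_coe_mul,
    eN_coe_pow, hf, hx]

theorem finite_and_le : Finite ↥Cfsg.Spor.J1 ∧ Nat.card ↥Cfsg.Spor.J1 ≤ 175560 := by
  classical
  have hex : ∀ g : ↥Cfsg.Spor.J1, ∃ p : Fin 266 × Fin 660, eN (g : GL (Fin 7) (ZMod 11)) = el p.1 p.2 := by
    intro g
    obtain ⟨r, h, i, hi, hr, hh', hg⟩ := exists_coset g.2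
    obtain ⟨k, hk⟩ := exists_hh hh'
    refine ⟨(⟨i, hi⟩, ⟨k % 660, Nat.mod_lt _ (Nat.succ_pos 659)⟩), ?_⟩
    rw [el, hg, eN_mul, hr, hk]
    congr 1
    rw [hh, hh, Nat.mod_mod]
  choose F hF using hex
  have hinj : Function.Injective F := fun a b h => eN_eq (by rw [hF, hF, h])
  exact ⟨Finite.of_injective F hinj, (Nat.card_le_card_of_injective F hinj).trans (by simp)⟩

/-- Commuting elements of order two span a 2-group. -/
theorem isPGroup_closure_two {G : Type*} [Group G] {X : Set G} (h2 : ∀ x ∈ X, x * x = 1)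
    (hc : ∀ x ∈ X, ∀ y ∈ X, Commute x y) : IsPGroup 2 (closure X) := by
  rintro ⟨g, hg⟩
  refine ⟨1, Subtype.ext ?_⟩
  show g ^ 2 ^ 1 = 1
  rw [pow_one, pow_two]
  have hcomm : ∀ a ∈ closure X, ∀ b ∈ closure X, Commute a b := by
    have hle : closure X ≤ centralizer (closure X : Set G) := by
      rw [closure_le, centralizer_closure]
      exact fun a ha => mem_centralizer_iff.mpr fun b hb => hc b hb a ha
    exact fun a ha b hb => mem_centralizer_iff.mp (hle hb) a ha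
  induction hg using closure_induction with
  | mem x hx => exact h2 x hx
  | one => exact one_mul 1
  | mul a b ha hb iha ihb =>
    rw [mul_assoc, ← mul_assoc b a b, ← (hcomm a ha b hb).eq, mul_assoc a b b, ihb, mul_one, iha]
  | inv a _ iha => rw [← mul_inv_rev, iha, inv_one]

theorem data : ∃ (t u w f : ↥Cfsg.Spor.J1), f * t * f⁻¹ = u ∧ f * u * f⁻¹ = w ∧ f * w * f⁻¹ = t * u ∧
    Commute t u ∧ Commute t w ∧ Commute u w ∧ 2 ^ 3 ∣ Nat.card (Subgroup.closure ({t, u, w} : Set ↥Cfsg.Spor.J1)) := by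
  classical
  haveI := finite_and_le.1
  haveI : Fact (Nat.Prime 2) := ⟨Nat.prime_two⟩
  obtain ⟨c7, c2, c1, ctu, ctw, cuw, cfw, cnd, -⟩ := rel_checked
  obtain ⟨f, hf⟩ := exists_el 104 267
  obtain ⟨g0, hg0, hge⟩ := hh_mem 2
  set t : ↥Cfsg.Spor.J1 := ⟨g0, Hsub_le_J1 hg0⟩
  have ht : eN (t : GL (Fin 7) (ZMod 11)) = tC := hge
  have h7 : f ^ 7 = 1 := eN_eq (by rw [eN_coe_pow, hf, eN_coe_one]; exact c7)
  have ht2 : t * t = 1 := by
    rw [← pow_two]; exact eN_eq (by rw [eN_coe_pow, ht, eN_coe_one]; exact c2)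
  set u := f * t * f⁻¹ with hu0
  set w := f * u * f⁻¹ with hw0
  have hu : eN (u : GL (Fin 7) (ZMod 11)) = uC := conj_code hf ht h7
  have hw : eN (w : GL (Fin 7) (ZMod 11)) = wC := conj_code hf hu h7
  have hfw : f * w * f⁻¹ = t * u := eN_eq (by rw [conj_code hf hw h7, eN_coe_mul t u, ht, hu]; exact cfw)
  have htu : Commute t u := eN_eq (by rw [eN_coe_mul t u, eN_coe_mul u t, ht, hu]; exact ctu)
  have htw : Commute t w := eN_eq (by rw [eN_coe_mul t w, eN_coe_mul w t, ht, hw]; exact ctw)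
  have huw : Commute u w := eN_eq (by rw [eN_coe_mul u w, eN_coe_mul w u, hu, hw]; exact cuw)
  have hu2 : u * u = 1 := by rw [hu0, conj_mul, ht2, mul_one, mul_inv_cancel]
  have hw2 : w * w = 1 := by rw [hw0, conj_mul, hu2, mul_one, mul_inv_cancel]
  refine ⟨t, u, w, f, hu0.symm, hw0.symm, hfw, htu, htw, huw, ?_⟩
  set P := Subgroup.closure ({t, u, w} : Set ↥Cfsg.Spor.J1)
  have hP : IsPGroup 2 P := isPGroup_closure_two
    (by rintro x (rfl | rfl | rfl); exacts [ht2, hu2, hw2])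
    (by
      rintro x (rfl | rfl | rfl) y (rfl | rfl | rfl)
      exacts [Commute.refl _, htu, htw, htu.symm, Commute.refl _, huw, htw.symm, huw.symm, Commute.refl _])
  obtain ⟨k, hk⟩ := IsPGroup.iff_card.mp hP
  let L : List P := [1, ⟨t, subset_closure (by simp)⟩, ⟨u, subset_closure (by simp)⟩,
    ⟨t * u, mul_mem (subset_closure (by simp)) (subset_closure (by simp))⟩, ⟨w, subset_closure (by simp)⟩]
  have hL : L.Nodup := by
    refine List.Nodup.of_map (fun x : P => eN ((x : ↥Cfsg.Spor.J1) : GL (Fin 7) (ZMod 11))) ?_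
    simp only [L, List.map_cons, List.map_nil, OneMemClass.coe_one, eN_one, ht, hu, hw, eN_coe_mul]
    exact cnd
  have h5 : 5 ≤ Nat.card P := by
    haveI := Fintype.ofFinite P
    rw [Nat.card_eq_fintype_card]
    exact hL.length_le_card
  have hk3 : 3 ≤ k := by
    by_contra h
    have := Nat.pow_le_pow_right (show 1 ≤ 2 by norm_num) (show k ≤ 2 by omega)
    omega
  rw [hk]
  exact pow_dvd_pow 2 hk3

theorem exists_odd {p : ℕ} (hp : p ∈ ([3, 5, 7, 11, 19] : List ℕ)) : ∃ g : ↥Cfsg.Spor.J1, orderOf g = p := by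
  classical
  haveI := finite_and_le.1
  obtain ⟨d, hd, rfl⟩ : ∃ d ∈ oddData, d.1 = p := by
    simp only [List.mem_cons, List.not_mem_nil, or_false] at hp
    rcases hp with rfl | rfl | rfl | rfl | rfl <;> simp [oddData]
  have h := List.all_eq_true.mp rel_checked.2.2.2.2.2.2.2.2 d hd
  simp only [Bool.and_eq_true, beq_iff_eq, bne_iff_ne] at h
  obtain ⟨g, hg⟩ := exists_el d.2.1 d.2.2
  refine ⟨g, ?_⟩
  have hprime : d.1.Prime := by
    simp only [List.mem_cons, List.not_mem_nil, or_false] at hp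
    rcases hp with e | e | e | e | e <;> rw [e] <;> norm_num
  haveI := Fact.mk hprime
  exact orderOf_eq_prime (eN_eq (by rw [eN_coe_pow, hg, eN_coe_one]; exact h.1))
    (fun e => h.2 (by rw [← hg, e, eN_coe_one]))

/-- The order of `J1`. -/
theorem card_J1 : Nat.card ↥Cfsg.Spor.J1 = 175560 := by
  haveI := finite_and_le.1
  obtain ⟨t, u, w, f, -, -, -, -, -, -, h8⟩ := data
  have hd8 : 8 ∣ Nat.card ↥Cfsg.Spor.J1 := h8.trans (card_subgroup_dvd_card _)
  have hdp : ∀ p ∈ ([3, 5, 7, 11, 19] : List ℕ), p ∣ Nat.card ↥Cfsg.Spor.J1 := fun p hp => by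
    obtain ⟨g, hg⟩ := exists_odd hp
    exact hg ▸ orderOf_dvd_natCard g
  have hdvd : 8 * 3 * 5 * 7 * 11 * 19 ∣ Nat.card ↥Cfsg.Spor.J1 :=
    Nat.Coprime.mul_dvd_of_dvd_of_dvd (by norm_num) (Nat.Coprime.mul_dvd_of_dvd_of_dvd (by norm_num)
      (Nat.Coprime.mul_dvd_of_dvd_of_dvd (by norm_num) (Nat.Coprime.mul_dvd_of_dvd_of_dvd (by norm_num)
        (Nat.Coprime.mul_dvd_of_dvd_of_dvd (by norm_num) hd8 (hdp 3 (by simp))) (hdp 5 (by simp))) (hdp 7 (by simp)))
      (hdp 11 (by simp))) (hdp 19 (by simp))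
  exact le_antisymm finite_and_le.2 (Nat.le_of_dvd Nat.card_pos hdvd)

theorem trivial : Cfsg.HasCyclicSchurMultiplier ↥Cfsg.Spor.J1 1 := by
  classical
  haveI := finite_and_le.1
  refine CfsgLib.SchurSmall.trivial_multiplier fun Γ _ _ σ hσ => ?_
  obtain ⟨t, u, w, f, hft, hfu, hfw, htu, htw, huw, h8⟩ := data
  obtain ⟨T, hT⟩ := hσ.1 t
  obtain ⟨F, hF⟩ := hσ.1 f
  set U := F * T * F⁻¹ with hUdef
  set W := F * U * F⁻¹ with hWdef
  have hU : σ U = u := by rw [hUdef, map_mul, map_mul, map_inv, hF, hT, hft]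
  have hW : σ W = w := by rw [hWdef, map_mul, map_mul, map_inv, hF, hU, hfu]
  have hFW : σ (F * W * F⁻¹) = σ (T * U) := by rw [map_mul, map_mul, map_inv, hF, hW, hfw, map_mul, hT, hU]
  have hker : ∀ {x y : ↥Cfsg.Spor.J1} {X Y : Γ}, σ X = x → σ Y = y → Commute x y → ⁅X, Y⁆ ∈ σ.ker := by
    intro x y X Y hX hY h
    rw [MonoidHom.mem_ker, map_commutatorElement, hX, hY, commutatorElement_eq_one_iff_commute]
    exact h
  set a := ⁅T, U⁆ with hadef
  set b := ⁅T, W⁆ with hbdef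
  set c := ⁅U, W⁆ with hcdef
  have hcen : ∀ z ∈ σ.ker, ∀ g : Γ, g * z * g⁻¹ = z := fun z hz g => by
    rw [mem_center_iff.mp (hσ.2.1 hz) g, mul_inv_cancel_right]
  have ha := hker hT hU htu
  have hb := hker hT hW htw
  have hc := hker hU hW huw
  have hcj : ∀ X Y : Γ, F * ⁅X, Y⁆ * F⁻¹ = ⁅F * X * F⁻¹, F * Y * F⁻¹⁆ := fun X Y => by
    simp only [commutatorElement_def]; group
  have e1 : a = c := by rw [← hcen a ha F, hadef, hcj, ← hUdef, ← hWdef]
  have e2 : b = a⁻¹ := by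
    rw [← hcen b hb F, hbdef, hcj, ← hUdef, CfsgLib.StSL.comm_congr hσ.2.1 rfl hFW, hadef]
    simp only [commutatorElement_def]; group
  have e3 : c = b⁻¹ * c⁻¹ := by
    calc c = ⁅W, T * U⁆ := by
          rw [← hcen c hc F, hcdef, hcj, ← hWdef, CfsgLib.StSL.comm_congr hσ.2.1 rfl hFW]
      _ = b⁻¹ * (T * c⁻¹ * T⁻¹) := by rw [hbdef, hcdef]; simp only [commutatorElement_def]; group
      _ = b⁻¹ * c⁻¹ := by rw [hcen _ (inv_mem hc) T]
  rw [e2, inv_inv, ← e1, mul_inv_cancel] at e3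
  have hc1 : c = 1 := e1.symm.trans e3
  have hb1 : b = 1 := by rw [e2, e3, inv_one]
  have hX : ∀ p ∈ ({T, U, W} : Set Γ), ∀ q ∈ ({T, U, W} : Set Γ), Commute p q := by
    have kTU : Commute T U := commutatorElement_eq_one_iff_commute.mp e3
    have kTW : Commute T W := commutatorElement_eq_one_iff_commute.mp hb1
    have kUW : Commute U W := commutatorElement_eq_one_iff_commute.mp hc1
    rintro p (rfl | rfl | rfl) q (rfl | rfl | rfl)
    exacts [Commute.refl _, kTU, kTW, kTU.symm, Commute.refl _, kUW, kTW.symm, kUW.symm, Commute.refl _]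
  have hidx : ∀ (P : Subgroup ↥Cfsg.Spor.J1) (m i : ℕ), m ∣ Nat.card P → m * i = 175560 → P.index ∣ i := by
    intro P m i hm hmi
    have hd := P.card_mul_index
    rw [card_J1] at hd
    have hpos : 0 < m := Nat.pos_of_ne_zero fun h => by rw [h, zero_mul] at hmi; norm_num at hmi
    obtain ⟨d, hd'⟩ := hm
    exact ⟨d, Nat.eq_of_mul_eq_mul_left hpos (by rw [hmi, ← hd, hd']; ring)⟩
  rw [eq_bot_iff]
  intro z hz
  rw [Subgroup.mem_bot, ← orderOf_eq_one_iff]
  have d2 : orderOf z ∣ 21945 := by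
    have h := pow_index_eq_one_of_commute hσ hX hz
    rw [Set.image_insert_eq, Set.image_pair, hT, hU, hW] at h
    exact (orderOf_dvd_of_pow_eq_one h).trans (hidx _ (2 ^ 3) 21945 h8 (by norm_num))
  have dp : ∀ p ∈ ([3, 5, 7, 11, 19] : List ℕ), ∀ i, p * i = 175560 → orderOf z ∣ i := by
    intro p hp i hi
    obtain ⟨g, hg⟩ := exists_odd hp
    exact (orderOf_dvd_of_pow_eq_one (CfsgLib.StSL.pow_index_eq_one_of_cyclic hσ g hz)).trans
      (hidx _ p i (by rw [Nat.card_zpowers, hg]) hi)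
  have := Nat.dvd_gcd d2 (Nat.dvd_gcd (dp 3 (by simp) 58520 (by norm_num)) (Nat.dvd_gcd
    (dp 5 (by simp) 35112 (by norm_num)) (Nat.dvd_gcd (dp 7 (by simp) 25080 (by norm_num))
      (Nat.dvd_gcd (dp 11 (by simp) 15960 (by norm_num)) (dp 19 (by simp) 9240 (by norm_num))))))
  exact Nat.eq_one_of_dvd_one (this.trans (by norm_num))

end CfsgLib.StemSylow.JankoOne
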