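/-
Two-parts of stem extension kernels, from a polycyclic collector and fusion equations.

A certificate lists relations of a polycyclic 2-group `P ≤ G` and conjugation facts inside `P`.  In a
stem extension with kernel of exponent two each of them holds up to an unknown kernel element; every
equation between collected words makes a product of unknowns trivial.  When those products rewrite
every relation of `P` to an exact one, `P` lifts and transfer kills the kernel at odd index.
-/
import Mathlib
import Cfsg.Agent.Lib.SchurSmall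
import Cfsg.Agent.Lib.StSL.Small

set_option autoImplicit false
set_option linter.style.haveILetI false
set_option linter.unusedSectionVars false

namespace CfsgLib.StemSylow.Collect

open Subgroup
open scoped commutatorElement

universe u v

/-- An equation between collected words. -/
inductive Eqn
  | conj (v1 v2 : List ℕ)
  | ins (pre w post : List ℕ)

/-- The certificate: facts `(t, q, p)` say that `t q t⁻¹ = p`. -/
structure Cert where
  n : ℕ
  fuel : ℕ
  facts : List (ℕ × List ℕ × List ℕ)
  eqs : List Eqn
  s : List ℕ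
  combos : List (List ℕ)

namespace Cert

variable (C : Cert)

def fact (m : ℕ) : ℕ × List ℕ × List ℕ := C.facts.getD m (0, [], [])

/-- The position of the relation rewriting `j i`, for `i ≤ j`. -/
def rel (i j : ℕ) : ℕ := i * C.n - i * (i - 1) / 2 + (j - i)

/-- The fact is the relation rewriting `j i`. -/
def isRel (i j m : ℕ) : Bool :=
  Nat.blt m C.facts.length && Nat.beq (C.fact m).1 0 && decide ((C.fact m).2.1 = [j, i])

/-- Collection: the first argument is a reversed normal word. -/
def collect : ℕ → List ℕ → List ℕ → Option (List ℕ × ℕ)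
  | 0, _, _ => none
  | _ + 1, x, [] => some (x, 0)
  | k + 1, [], i :: w => collect k [i] w
  | k + 1, j :: x, i :: w =>
    if Nat.blt j i then collect k (i :: j :: x) w
    else if C.isRel i j (C.rel i j) then
      (collect k x ((C.fact (C.rel i j)).2.2 ++ w)).map fun r => (r.1, r.2 ^^^ 2 ^ C.rel i j)
    else none

def xs (l : List ℕ) : ℕ := l.foldr (fun m a => 2 ^ m ^^^ a) 0

def qcat : List ℕ → List ℕ
  | [] => []
  | m :: l => (C.fact m).2.1 ++ qcat l

def pcat : List ℕ → List ℕ
  | [] => []
  | m :: l => (C.fact m).2.2 ++ pcat l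

/-- The facts all have the same conjugating element. -/
def sameT (t : ℕ) (l : List ℕ) : Bool :=
  l.all fun m => Nat.blt m C.facts.length && Nat.beq (C.fact m).1 t

/-- The form of an equation. -/
def form : Eqn → Option ℕ
  | .conj v1 v2 =>
    match C.collect C.fuel [] (C.qcat v1), C.collect C.fuel [] (C.qcat v2), C.collect C.fuel [] (C.pcat v1),
      C.collect C.fuel [] (C.pcat v2) with
    | some (y1, f1), some (y2, f2), some (z1, h1), some (z2, h2) =>
      if decide (y1 = y2) && decide (z1 = z2) && C.sameT (C.fact (v1.getD 0 0)).1 v1 &&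
          C.sameT (C.fact (v1.getD 0 0)).1 v2 then
        some ((f1 ^^^ h1 ^^^ xs v1) ^^^ (f2 ^^^ h2 ^^^ xs v2))
      else none
    | _, _, _, _ => none
  | .ins pre w post =>
    match C.collect C.fuel [] w with
    | some (y, f) =>
      match C.collect C.fuel [] (pre ++ w ++ post), C.collect C.fuel [] (pre ++ y.reverse ++ post) with
      | some (a1, f1), some (a2, f2) => if a1 = a2 then some (f1 ^^^ (f2 ^^^ f)) else none
      | _, _ => none
    | none => none

def eqn (k : ℕ) : Eqn := C.eqs.getD k (.ins [] [] [])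

/-- The sum of the forms of some equations. -/
def comb : List ℕ → Option ℕ
  | [] => some 0
  | k :: l =>
    match C.form (C.eqn k), comb l with
    | some a, some b => some (a ^^^ b)
    | _, _ => none

def sv (k : ℕ) : ℕ := C.s.getD k 0

def sx (l : List ℕ) : ℕ := l.foldr (fun k a => C.sv k ^^^ a) 0

/-- The form of a relation after correcting the lifts. -/
def target (i j : ℕ) : ℕ := 2 ^ C.rel i j ^^^ C.sx [j, i] ^^^ C.sx (C.fact (C.rel i j)).2.2

/-- The right side has the polycyclic shape. -/
def shape (i j : ℕ) : List ℕ → Bool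
  | [] => Nat.beq j i
  | a :: l => l.all (fun x => Nat.blt i x && Nat.blt x C.n) &&
      if Nat.beq j i then Nat.blt i a && Nat.blt a C.n else Nat.beq a i

def relOK (i j : ℕ) : Bool :=
  C.isRel i j (C.rel i j) && shape C i j (C.fact (C.rel i j)).2.2 &&
    decide (C.comb (C.combos.getD (C.rel i j) []) = some (C.target i j))

def check : Bool :=
  (List.range C.n).all fun i => (List.range C.n).all fun j => Nat.blt j i || C.relOK i j

end Cert

section Word

variable {M : Type*} [Monoid M]

def ev (g : ℕ → M) (l : List ℕ) : M := (l.map g).prod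

theorem ev_append (g : ℕ → M) (a b : List ℕ) : ev g (a ++ b) = ev g a * ev g b := by
  simp [ev]

theorem ev_cons (g : ℕ → M) (a : ℕ) (b : List ℕ) : ev g (a :: b) = g a * ev g b := by
  simp [ev]

theorem ev_nil (g : ℕ → M) : ev g [] = 1 := rfl

end Word

theorem map_ev {A B : Type*} [Monoid A] [Monoid B] (f : A →* B) (g : ℕ → A) (l : List ℕ) :
    f (ev g l) = ev (fun k => f (g k)) l := by
  simp [ev, map_list_prod, List.map_map, Function.comp_def]

section Forms

variable {Γ : Type*} [Group Γ]

/-- The product of the unknowns selected by a form. -/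
def zz (E : ℕ → Γ) : ℕ → ℕ → Γ
  | 0, _ => 1
  | N + 1, f => zz E N f * if f.testBit N then E N else 1

variable {E : ℕ → Γ} (hc : ∀ m g, Commute (E m) g) (h2 : ∀ m, E m * E m = 1)

include hc in
theorem zz_comm (N f : ℕ) (g : Γ) : Commute (zz E N f) g := by
  induction N with
  | zero => exact Commute.one_left g
  | succ N ih =>
    refine Commute.mul_left ih ?_
    split
    exacts [hc N g, Commute.one_left g]

include hc h2 in
theorem zz_xor (N a b : ℕ) : zz E N (a ^^^ b) = zz E N a * zz E N b := by
  induction N with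
  | zero => simp [zz]
  | succ N ih =>
    simp only [zz, ih, Nat.testBit_xor]
    rw [(zz_comm hc N b _).symm.mul_mul_mul_comm]
    congr 1
    cases a.testBit N <;> cases b.testBit N <;> simp [h2]

theorem zz_zero (N : ℕ) : zz E N 0 = 1 := by
  induction N with
  | zero => rfl
  | succ N ih => simp [zz, ih]

theorem zz_two_pow {N m : ℕ} (hm : m < N) : zz E N (2 ^ m) = E m := by
  have hlow : ∀ K ≤ m, zz E K (2 ^ m) = 1 := by
    intro K hK
    induction K with
    | zero => rfl
    | succ K ih => simp [zz, ih (by omega), Nat.testBit_two_pow, show ¬m = K by omega]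
  induction N with
  | zero => omega
  | succ N ih =>
    rcases Nat.lt_succ_iff_lt_or_eq.mp hm with h | rfl
    · simp [zz, ih h, Nat.testBit_two_pow, show ¬m = N by omega]
    · simp [zz, hlow m le_rfl, Nat.testBit_two_pow]

include hc h2 in
theorem zz_self (N a : ℕ) : zz E N a * zz E N a = 1 := by
  rw [← zz_xor hc h2, Nat.xor_self, zz_zero]

end Forms

/-- Adjoining a normalising element whose square lies inside at most doubles the order. -/
theorem card_double {Γ : Type*} [Group Γ] [Finite Γ] (N : Subgroup Γ) {g : Γ}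
    (hconj : ∀ a ∈ N, g⁻¹ * a * g ∈ N) (hsq : g * g ∈ N) {S : Set Γ} (hS : ∀ x ∈ S, x ∈ N ∨ x = g) :
    Nat.card (closure S) ≤ 2 * Nat.card N := by
  let K : Submonoid Γ :=
    { carrier := {x | x ∈ N ∨ g⁻¹ * x ∈ N}
      one_mem' := Or.inl (one_mem N)
      mul_mem' := by
        rintro x y (hx | hx) (hy | hy)
        · exact Or.inl (mul_mem hx hy)
        · refine Or.inr ?_
          have := mul_mem (hconj x hx) hy
          rwa [show g⁻¹ * x * g * (g⁻¹ * y) = g⁻¹ * (x * y) by group] at this
        · refine Or.inr ?_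
          have := mul_mem hx hy
          rwa [show g⁻¹ * x * y = g⁻¹ * (x * y) by group] at this
        · refine Or.inl ?_
          have := mul_mem hsq (mul_mem (hconj _ hx) hy)
          rwa [show g * g * (g⁻¹ * (g⁻¹ * x) * g * (g⁻¹ * y)) = x * y by group] at this }
  let K' : Subgroup Γ :=
    { K with
      inv_mem' := fun {x} hx => by
        have h : x⁻¹ = x ^ (orderOf x - 1) :=
          inv_eq_of_mul_eq_one_right (by rw [← pow_succ', Nat.sub_add_cancel (orderOf_pos x), pow_orderOf_eq_one])
        show x⁻¹ ∈ K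
        exact h ▸ Submonoid.pow_mem K hx _ }
  have hle : closure S ≤ K' := by
    rw [closure_le]
    intro x hx
    rcases hS x hx with h | h
    · exact Or.inl h
    · exact Or.inr (by rw [h, inv_mul_cancel]; exact one_mem N)
  have hsurj : Function.Surjective fun p : Bool × N =>
      (⟨if p.1 then g * p.2 else (p.2 : Γ), by
        cases p.1
        · exact Or.inl p.2.2
        · exact Or.inr (by simp)⟩ : K') := by
    rintro ⟨x, hx | hx⟩
    · exact ⟨(false, ⟨x, hx⟩), rfl⟩
    · exact ⟨(true, ⟨g⁻¹ * x, hx⟩), Subtype.ext (by simp)⟩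
  calc Nat.card (closure S) ≤ Nat.card K' := card_le_of_le hle
    _ ≤ Nat.card (Bool × N) := Nat.card_le_card_of_surjective _ hsurj
    _ = 2 * Nat.card N := by simp [Nat.card_prod]

section Sound

variable (C : Cert) {Γ : Type*} [Group Γ] (Gl Tl : ℕ → Γ) {E : ℕ → Γ}

/-- A fact, lifted. -/
def FactAt (m : ℕ) : Prop :=
  Tl (C.fact m).1 * ev Gl (C.fact m).2.1 * (Tl (C.fact m).1)⁻¹ = ev Gl (C.fact m).2.2 * E m

variable {Gl Tl} (hc : ∀ m g, Commute (E m) g) (h2 : ∀ m, E m * E m = 1) (hT : Tl 0 = 1)
  (hf : ∀ m, FactAt C Gl Tl (E := E) m)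

include hc h2 hT hf

theorem collect_sound : ∀ k x w y f, C.collect k x w = some (y, f) →
    ev Gl (x.reverse ++ w) = ev Gl y.reverse * zz E C.facts.length f := by
  intro k
  induction k with
  | zero => intro x w y f h; simp [Cert.collect] at h
  | succ k ih =>
    intro x w y f h
    match x, w with
    | x, [] =>
      simp [Cert.collect] at h
      obtain ⟨rfl, rfl⟩ := h
      simp [zz_zero]
    | [], i :: w =>
      simp only [Cert.collect] at h
      simpa using ih _ _ _ _ h
    | j :: x, i :: w =>
      simp only [Cert.collect] at h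
      split at h
      · simpa using ih _ _ _ _ h
      · split at h
        · rename_i hr
          simp only [Option.map_eq_some_iff, Prod.mk.injEq] at h
          obtain ⟨⟨y', f'⟩, hy, rfl, rfl⟩ := h
          simp only [Cert.isRel, Bool.and_eq_true, decide_eq_true_eq, Nat.blt_eq] at hr
          obtain ⟨⟨hlt, h0⟩, hq⟩ := hr
          have h0' := Nat.eq_of_beq_eq_true h0
          have hm := hf (C.rel i j)
          rw [FactAt, h0', hT, inv_one, mul_one, one_mul, hq] at hm
          have hy' := ih _ _ _ _ hy
          rw [ev_append, ev_append] at hy'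
          calc ev Gl ((j :: x).reverse ++ i :: w)
              = ev Gl x.reverse * ev Gl [j, i] * ev Gl w := by
                rw [List.reverse_cons, List.append_assoc, ev_append, List.singleton_append, ev_cons, ev_cons, ev_cons,
                  ev_cons, ev_nil]
                simp only [mul_one, mul_assoc]
            _ = ev Gl x.reverse * (ev Gl (C.fact (C.rel i j)).2.2 * ev Gl w) * E (C.rel i j) := by
                rw [hm]; simp only [mul_assoc]; rw [(hc _ (ev Gl w)).eq]
            _ = _ := by
                rw [hy', zz_xor hc h2, zz_two_pow hlt, mul_assoc]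
        · simp at h

theorem conj_sound (t : ℕ) : ∀ l, C.sameT t l = true →
    Tl t * ev Gl (C.qcat l) * (Tl t)⁻¹ = ev Gl (C.pcat l) * zz E C.facts.length (Cert.xs l) := by
  intro l
  induction l with
  | nil => intro _; simp [Cert.qcat, Cert.pcat, Cert.xs, ev_nil, zz_zero]
  | cons m l ih =>
    intro h
    simp only [Cert.sameT, List.all_cons, Bool.and_eq_true, Nat.blt_eq] at h
    obtain ⟨⟨hlt, ht⟩, hl⟩ := h
    have hm := hf m
    rw [FactAt, Nat.eq_of_beq_eq_true ht] at hm
    have := ih hl
    simp only [Cert.qcat, Cert.pcat, ev_append]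
    rw [show Cert.xs (m :: l) = 2 ^ m ^^^ Cert.xs l from rfl, zz_xor hc h2, zz_two_pow hlt]
    calc Tl t * (ev Gl (C.fact m).2.1 * ev Gl (C.qcat l)) * (Tl t)⁻¹
        = (Tl t * ev Gl (C.fact m).2.1 * (Tl t)⁻¹) * (Tl t * ev Gl (C.qcat l) * (Tl t)⁻¹) := by group
      _ = ev Gl (C.fact m).2.2 * (E m * ev Gl (C.pcat l)) * zz E C.facts.length (Cert.xs l) := by
        rw [hm, this]; simp only [mul_assoc]
      _ = _ := by rw [(hc m _).eq]; simp only [mul_assoc]

theorem form_sound (e : Eqn) (a : ℕ) (h : C.form e = some a) : zz E C.facts.length a = 1 := by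
  have hs := collect_sound C hc h2 hT hf C.fuel []
  simp only [List.reverse_nil, List.nil_append] at hs
  set N := C.facts.length
  cases e with
  | conj v1 v2 =>
    simp only [Cert.form] at h
    split at h
    · rename_i y1 f1 y2 f2 z1 g1 z2 g2 e1 e2 e3 e4
      split at h
      · rename_i hh
        simp only [Bool.and_eq_true, decide_eq_true_eq] at hh
        obtain ⟨⟨⟨rfl, rfl⟩, ht1⟩, ht2⟩ := hh
        obtain rfl : _ = a := by simpa using h
        set t := (C.fact (v1.getD 0 0)).1
        have key : ∀ v f g, C.collect C.fuel [] (C.qcat v) = some (y1, f) →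
            C.collect C.fuel [] (C.pcat v) = some (z1, g) → C.sameT t v = true →
            Tl t * ev Gl y1.reverse * (Tl t)⁻¹ = ev Gl z1.reverse * zz E N (f ^^^ g ^^^ Cert.xs v) := by
          intro v f g hq hp hv
          have hh := conj_sound C hc h2 hT hf t v hv
          rw [hs _ _ _ hq, hs _ _ _ hp] at hh
          have e : Tl t * (ev Gl y1.reverse * zz E N f) * (Tl t)⁻¹ =
              Tl t * ev Gl y1.reverse * (Tl t)⁻¹ * zz E N f := by
            rw [← mul_assoc, mul_assoc, (zz_comm hc N f _).eq, ← mul_assoc]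
          rw [e, mul_assoc (ev Gl z1.reverse), ← zz_xor hc h2] at hh
          calc Tl t * ev Gl y1.reverse * (Tl t)⁻¹
              = Tl t * ev Gl y1.reverse * (Tl t)⁻¹ * zz E N f * zz E N f := by
                rw [mul_assoc _ (zz E N f) (zz E N f), zz_self hc h2, mul_one]
            _ = _ := by rw [hh, mul_assoc, ← zz_xor hc h2, Nat.xor_comm, Nat.xor_assoc]
        have heq := (key v1 f1 g1 e1 e3 ht1).symm.trans (key v2 f2 g2 e2 e4 ht2)
        rw [zz_xor hc h2, mul_left_cancel heq, zz_self hc h2]
      · simp at h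
    · simp at h
  | ins pre w post =>
    simp only [Cert.form] at h
    split at h
    · rename_i y f ey
      split at h
      · rename_i a1 f1 a2 f2 e1 e2
        split at h
        · rename_i heq
          subst heq
          obtain rfl : _ = a := by simpa using h
          have k1 := hs _ _ _ e1
          have k2 := hs _ _ _ e2
          rw [ev_append, ev_append, hs _ _ _ ey, ← mul_assoc, mul_assoc _ (zz E N f),
            (zz_comm hc N f _).eq, ← mul_assoc] at k1
          rw [ev_append, ev_append] at k2
          rw [k2, mul_assoc, ← zz_xor hc h2] at k1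
          rw [zz_xor hc h2, ← mul_left_cancel k1, zz_self hc h2]
        · simp at h
      · simp at h
    · simp at h

theorem comb_sound : ∀ l a, C.comb l = some a → zz E C.facts.length a = 1 := by
  intro l
  induction l with
  | nil => intro a h; obtain rfl : (0 : ℕ) = a := by simpa [Cert.comb] using h
           exact zz_zero _
  | cons k l ih =>
    intro a h
    simp only [Cert.comb] at h
    split at h
    · rename_i b c eb ec
      obtain rfl : _ = a := by simpa using h
      rw [zz_xor hc h2, form_sound C hc h2 hT hf _ _ eb, ih _ ec, one_mul]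
    · simp at h

omit hT hf in
theorem ev_twist (l : List ℕ) :
    ev (fun k => Gl k * zz E C.facts.length (C.sv k)) l = ev Gl l * zz E C.facts.length (C.sx l) := by
  induction l with
  | nil => simp [ev_nil, Cert.sx, zz_zero]
  | cons k l ih =>
    rw [ev_cons, ev_cons, ih, show C.sx (k :: l) = C.sv k ^^^ C.sx l from rfl, zz_xor hc h2,
      (zz_comm hc _ (C.sv k) _).mul_mul_mul_comm]

/-- The corrected lifts satisfy the relations exactly. -/
theorem rel_sound {i j : ℕ} (h : C.relOK i j = true) :
    ev (fun k => Gl k * zz E C.facts.length (C.sv k)) [j, i] =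
      ev (fun k => Gl k * zz E C.facts.length (C.sv k)) (C.fact (C.rel i j)).2.2 := by
  simp only [Cert.relOK, Cert.isRel, Bool.and_eq_true, decide_eq_true_eq, Nat.blt_eq] at h
  obtain ⟨⟨⟨⟨hlt, h0⟩, hq⟩, -⟩, hcb⟩ := h
  have hm := hf (C.rel i j)
  rw [FactAt, Nat.eq_of_beq_eq_true h0, hT, inv_one, mul_one, one_mul, hq] at hm
  have ht := comb_sound C hc h2 hT hf _ _ hcb
  rw [Cert.target, zz_xor hc h2, zz_xor hc h2, zz_two_pow hlt] at ht
  rw [ev_twist C hc h2, ev_twist C hc h2, hm, mul_assoc]
  refine congrArg (ev Gl _ * ·) ?_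
  exact (mul_right_cancel (b := zz E C.facts.length (C.sx (C.fact (C.rel i j)).2.2))
    (by rw [ht, zz_self hc h2]))

/-- The corrected lifts generate a group of order at most `2 ^ n`. -/
theorem card_lift [Finite Γ] (h : C.check = true) :
    Nat.card (closure ((fun k => Gl k * zz E C.facts.length (C.sv k)) '' {k | k < C.n})) ≤ 2 ^ C.n := by
  set G' := fun k => Gl k * zz E C.facts.length (C.sv k)
  have hk : ∀ d ≤ C.n, Nat.card (closure (G' '' {k | C.n - d ≤ k ∧ k < C.n})) ≤ 2 ^ d := by
    intro d hd
    induction d with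
    | zero =>
      rw [show {k | C.n - 0 ≤ k ∧ k < C.n} = (∅ : Set ℕ) by ext k; simp, Set.image_empty, Subgroup.closure_empty,
        Subgroup.card_bot, pow_zero]
    | succ d ih =>
      set i := C.n - (d + 1)
      set N := closure (G' '' {k | C.n - d ≤ k ∧ k < C.n})
      have hrel : ∀ j, i ≤ j → j < C.n → C.relOK i j = true := by
        intro j hij hj
        simp only [Cert.check, List.all_eq_true, List.mem_range, Bool.or_eq_true, Nat.blt_eq] at h
        exact (h i (by omega) j hj).resolve_left (by omega)
      have hin : ∀ x, i < x → x < C.n → G' x ∈ N := fun x h1 h2 =>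
        subset_closure ⟨x, ⟨by omega, h2⟩, rfl⟩
      have hev : ∀ l : List ℕ, (∀ x ∈ l, i < x ∧ x < C.n) → ev G' l ∈ N := fun l hl =>
        list_prod_mem (fun y hy => by
          obtain ⟨x, hx, rfl⟩ := List.mem_map.mp hy
          exact hin x (hl x hx).1 (hl x hx).2)
      have hshape : ∀ j, i ≤ j → j < C.n → C.shape i j (C.fact (C.rel i j)).2.2 = true := fun j a b => by
        have := hrel j a b
        simp only [Cert.relOK, Bool.and_eq_true] at this
        exact this.1.2
      have hsq : G' i * G' i ∈ N := by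
        have e := rel_sound C hc h2 hT hf (hrel i le_rfl (by omega))
        rw [ev_cons, ev_cons, ev_nil, mul_one] at e
        show G' i * G' i ∈ N
        rw [e]
        refine hev _ fun x hx => ?_
        have := hshape i le_rfl (by omega)
        cases hp : (C.fact (C.rel i i)).2.2 with
        | nil => simp [hp] at hx
        | cons a l =>
          rw [hp] at this hx
          simp only [Cert.shape, Bool.and_eq_true, List.all_eq_true, Nat.blt_eq] at this
          rw [if_pos (Nat.beq_refl i)] at this
          simp only [Bool.and_eq_true, Nat.blt_eq] at this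
          rcases List.mem_cons.mp hx with rfl | hx
          exacts [this.2, this.1 x hx]
      have hconj : ∀ a ∈ N, (G' i)⁻¹ * a * G' i ∈ N := by
        intro a ha
        induction ha using closure_induction with
        | mem y hy =>
          obtain ⟨j, ⟨hj1, hj2⟩, rfl⟩ := hy
          have e := rel_sound C hc h2 hT hf (hrel j (by omega) hj2)
          rw [ev_cons, ev_cons, ev_nil, mul_one] at e
          have := hshape j (by omega) hj2
          have hne : Nat.beq j i = false := by
            rw [← Bool.not_eq_true]; intro hb; have := Nat.eq_of_beq_eq_true hb; omega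
          cases hp : (C.fact (C.rel i j)).2.2 with
          | nil => rw [hp] at this; simp [Cert.shape, hne] at this
          | cons a l =>
            rw [hp] at this e
            simp only [Cert.shape, Bool.and_eq_true, List.all_eq_true, Nat.blt_eq, hne] at this
            obtain ⟨hl, ha⟩ := this
            obtain rfl : a = i := Nat.eq_of_beq_eq_true (by simpa using ha)
            rw [mul_assoc, show G' j * G' i = G' i * ev G' l from e.trans (ev_cons _ _ _), inv_mul_cancel_left]
            exact hev l hl
        | one => simp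
        | mul x y _ _ hx hy =>
          rw [show (G' i)⁻¹ * (x * y) * G' i = ((G' i)⁻¹ * x * G' i) * ((G' i)⁻¹ * y * G' i) by group]
          exact mul_mem hx hy
        | inv x _ hx =>
          rw [show (G' i)⁻¹ * x⁻¹ * G' i = ((G' i)⁻¹ * x * G' i)⁻¹ by group]
          exact inv_mem hx
      have := card_double N hconj hsq (S := G' '' {k | i ≤ k ∧ k < C.n}) (by
        rintro _ ⟨k, ⟨hk1, hk2⟩, rfl⟩
        rcases Nat.lt_or_eq_of_le hk1 with hlt | heq
        · exact Or.inl (hin k hlt hk2)
        · exact Or.inr (by rw [heq]))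
      calc _ ≤ 2 * Nat.card N := this
        _ ≤ 2 * 2 ^ d := Nat.mul_le_mul_left _ (ih (by omega))
        _ = 2 ^ (d + 1) := by ring
  simpa using hk C.n le_rfl

end Sound

/-- The certificate splits the preimage of `P`, so transfer kills an exponent two kernel. -/
theorem pow_index_eq_one {G : Type v} [Group G] {Γ : Type u} [Group Γ] [Finite Γ] {σ : Γ →* G}
    (hσ : Cfsg.IsStemExtension σ) (hexp : ∀ z ∈ σ.ker, z * z = 1) (C : Cert) (hC : C.check = true)
    (g t : ℕ → G) (ht : t 0 = 1)
    (hfacts : ∀ m < C.facts.length, t (C.fact m).1 * ev g (C.fact m).2.1 * (t (C.fact m).1)⁻¹ = ev g (C.fact m).2.2)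
    (hcard : 2 ^ C.n ≤ Nat.card (closure (g '' {k | k < C.n}))) {z : Γ} (hz : z ∈ σ.ker) :
    z ^ (closure (g '' {k | k < C.n})).index = 1 := by
  classical
  haveI : Finite G := Finite.of_surjective σ hσ.1
  let Gl : ℕ → Γ := fun k => Function.surjInv hσ.1 (g k)
  let Tl : ℕ → Γ := fun k => if k = 0 then 1 else Function.surjInv hσ.1 (t k)
  let E : ℕ → Γ := fun m => (ev Gl (C.fact m).2.2)⁻¹ *
    (Tl (C.fact m).1 * ev Gl (C.fact m).2.1 * (Tl (C.fact m).1)⁻¹)
  have hG : ∀ k, σ (Gl k) = g k := fun k => Function.surjInv_eq hσ.1 _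
  have hTl : ∀ k, σ (Tl k) = t k := fun k => by
    by_cases hk : k = 0
    · simp [Tl, hk, ht]
    · simp [Tl, hk, Function.surjInv_eq hσ.1]
  have hev : ∀ l, σ (ev Gl l) = ev g l := fun l => by rw [map_ev]; simp only [hG]
  have hE : ∀ m, E m ∈ σ.ker := by
    intro m
    rw [MonoidHom.mem_ker]
    simp only [E, map_mul, map_inv, hev, hTl]
    by_cases hm : m < C.facts.length
    · rw [hfacts m hm, inv_mul_cancel]
    · have hd : C.fact m = (0, [], []) := List.getD_eq_default _ _ (not_lt.mp hm)
      simp [hd, ev_nil, ht]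
  have hc : ∀ m x, Commute (E m) x := fun m x => (mem_center_iff.mp (hσ.2.1 (hE m)) x).symm
  have h2 : ∀ m, E m * E m = 1 := fun m => hexp _ (hE m)
  have hf : ∀ m, FactAt C Gl Tl (E := E) m := fun m => (mul_inv_cancel_left _ _).symm
  set G' := fun k => Gl k * zz E C.facts.length (C.sv k)
  have hle := card_lift C hc h2 (by simp [Tl]) hf hC
  set L := closure (G' '' {k | k < C.n}) with hL
  set P := closure (g '' {k | k < C.n}) with hP
  have hzk : ∀ N f, zz E N f ∈ σ.ker := by
    intro N f
    induction N with
    | zero => exact one_mem _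
    | succ N ih => refine mul_mem ih ?_; split; exacts [hE N, one_mem _]
  have hG' : ∀ k, σ (G' k) = g k := fun k => by simp [G', hG, MonoidHom.mem_ker.mp (hzk _ _)]
  have hmap : L.map σ = P := by
    rw [hL, hP, MonoidHom.map_closure, Set.image_image]; simp only [hG']
  have hinj : ∀ x ∈ L, σ x = 1 → x = 1 := by
    have hsurj : Function.Surjective fun x : L => (⟨σ x, hmap ▸ mem_map_of_mem σ x.2⟩ : P) := by
      rintro ⟨y, hy⟩
      rw [← hmap] at hy
      obtain ⟨x, hx, rfl⟩ := hy
      exact ⟨⟨x, hx⟩, rfl⟩
    have hb := (Nat.bijective_iff_surjective_and_card _).mpr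
      ⟨hsurj, le_antisymm (hle.trans hcard) (Nat.card_le_card_of_surjective _ hsurj)⟩
    intro x hx h1
    have := @hb.1 ⟨x, hx⟩ ⟨1, one_mem L⟩ (Subtype.ext (by simp [h1]))
    exact congrArg Subtype.val this
  obtain ⟨hmem, hcm⟩ := CfsgLib.StSL.pow_index_mem hσ P hz
  have hcom : commutator (P.comap σ) ≤ L.subgroupOf (P.comap σ) := by
    rw [_root_.commutator_def, commutator_le]
    rintro ⟨a, ha⟩ - ⟨b, hb⟩ -
    have hdec : ∀ a ∈ P.comap σ, ∃ l ∈ L, σ a = σ l := by
      intro a ha
      rw [mem_comap, ← hmap] at ha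
      obtain ⟨l, hl, he⟩ := ha
      exact ⟨l, hl, he.symm⟩
    obtain ⟨la, hla, ea⟩ := hdec a ha
    obtain ⟨lb, hlb, eb⟩ := hdec b hb
    rw [mem_subgroupOf]
    show ⁅a, b⁆ ∈ L
    rw [CfsgLib.StSL.comm_congr hσ.2.1 ea eb]
    exact mul_mem (mul_mem (mul_mem hla hlb) (inv_mem hla)) (inv_mem hlb)
  exact hinj _ (mem_subgroupOf.mp (hcom hcm)) (MonoidHom.mem_ker.mp (pow_mem hz _))

/-- Killing the squares of the kernel reduces the two-part to exponent two. -/
theorem sq_surjective {G : Type v} [Group G] {Γ : Type u} [Group Γ] [Finite Γ] {σ : Γ →* G}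
    (hσ : Cfsg.IsStemExtension σ)
    (h : ∀ (Δ : Type u) [Group Δ] [Finite Δ] (τ : Δ →* G), Cfsg.IsStemExtension τ →
      (∀ z ∈ τ.ker, z * z = 1) → τ.ker = ⊥) {z : Γ} (hz : z ∈ σ.ker) : ∃ y ∈ σ.ker, y * y = z := by
  let S : Subgroup Γ :=
    { carrier := {x | ∃ y ∈ σ.ker, y * y = x}
      one_mem' := ⟨1, one_mem _, mul_one 1⟩
      mul_mem' := by
        rintro _ _ ⟨a, ha, rfl⟩ ⟨b, hb, rfl⟩
        exact ⟨a * b, mul_mem ha hb, (show Commute b a from (mem_center_iff.mp (hσ.2.1 hb) a).symm).mul_mul_mul_comm a b⟩
      inv_mem' := by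
        rintro _ ⟨a, ha, rfl⟩
        exact ⟨a⁻¹, inv_mem ha, by group⟩ }
  have hSk : S ≤ σ.ker := by rintro _ ⟨a, ha, rfl⟩; exact mul_mem ha ha
  haveI : S.Normal := ⟨fun x hx g => by
    rw [mem_center_iff.mp (hσ.2.1 (hSk hx)) g, mul_inv_cancel_right]; exact hx⟩
  set τ := QuotientGroup.lift S σ hSk with hτ
  have hmk : ∀ x, τ (QuotientGroup.mk' S x) = σ x := fun x => QuotientGroup.lift_mk' S hSk x
  have hlift : ∀ d ∈ τ.ker, ∃ x ∈ σ.ker, QuotientGroup.mk' S x = d := by
    intro d hd
    obtain ⟨x, rfl⟩ := QuotientGroup.mk'_surjective S d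
    exact ⟨x, by rwa [MonoidHom.mem_ker, hmk] at hd, rfl⟩
  have hst : Cfsg.IsStemExtension τ := by
    refine ⟨fun y => ?_, fun d hd => ?_, fun d hd => ?_⟩
    · obtain ⟨x, rfl⟩ := hσ.1 y
      exact ⟨QuotientGroup.mk' S x, hmk x⟩
    · obtain ⟨x, hx, rfl⟩ := hlift d hd
      rw [mem_center_iff]
      intro g
      obtain ⟨g, rfl⟩ := QuotientGroup.mk'_surjective S g
      rw [← map_mul, ← map_mul, mem_center_iff.mp (hσ.2.1 hx) g]
    · obtain ⟨x, hx, rfl⟩ := hlift d hd
      have hm := mem_map_of_mem (QuotientGroup.mk' S) (hσ.2.2 hx)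
      rw [_root_.commutator_def, map_commutator, map_top_of_surjective _ (QuotientGroup.mk'_surjective S)] at hm
      exact hm
  have hker := h _ τ hst fun d hd => by
    obtain ⟨x, hx, rfl⟩ := hlift d hd
    rw [← map_mul, QuotientGroup.mk'_apply, QuotientGroup.eq_one_iff]
    exact ⟨x, hx, rfl⟩
  have h1 : QuotientGroup.mk' S z ∈ τ.ker := by rw [MonoidHom.mem_ker, hmk]; exact hz
  rw [hker, mem_bot, QuotientGroup.mk'_apply, QuotientGroup.eq_one_iff] at h1
  exact h1

/-- A surjective squaring map makes two-power torsion trivial. -/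
theorem eq_one_of_sq_surjective {G : Type v} [Group G] {Γ : Type u} [Group Γ] [Finite Γ] {σ : Γ →* G}
    (hs : ∀ z ∈ σ.ker, ∃ y ∈ σ.ker, y * y = z) :
    ∀ k : ℕ, ∀ z ∈ σ.ker, z ^ (2 ^ k) = 1 → z = 1 := by
  let f : σ.ker → σ.ker := fun y => y * y
  have hinj : Function.Injective f :=
    Finite.injective_iff_surjective.mpr fun z => by
      obtain ⟨y, hy, e⟩ := hs z z.2
      exact ⟨⟨y, hy⟩, Subtype.ext e⟩
  intro k
  induction k with
  | zero => intro z _ h; simpa using h
  | succ k ih =>
    intro z hz h
    have h' : z * z = 1 := ih _ (mul_mem hz hz) (by rw [← sq, ← pow_mul, ← pow_succ']; exact h)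
    exact congrArg Subtype.val (@hinj ⟨z, hz⟩ 1 (Subtype.ext (by simpa [f] using h')))

end CfsgLib.StemSylow.Collect
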