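/-
The collector of `StemSylow/Collect.lean` with unknowns of exponent `q`: it bounds a kernel by one element.

Every relation of the Sylow group becomes exact up to powers of one kernel element `w`, so transfer
puts the images of the kernel inside `⟨w⟩`.
-/
import Mathlib
import Cfsg.Agent.Lib.StemSylow.Collect

set_option autoImplicit false
set_option linter.style.haveILetI false
set_option linter.unusedSectionVars false

namespace CfsgLib.StemSylow.CollectMod

open Subgroup CfsgLib.StemSylow.Collect
open scoped commutatorElement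

universe u v

/-- The certificate; `phi` is the form of the surviving element, `r` its exponent. -/
structure Cert where
  n : ℕ
  q : ℕ
  r : ℕ
  fuel : ℕ
  facts : List (ℕ × List ℕ × List ℕ)
  eqs : List Eqn
  s : List (List ℤ)
  phi : List ℤ
  combos : List (List (ℕ × ℤ) × ℤ)
  rphi : List (ℕ × ℤ)

namespace Cert

variable (C : Cert)

def fact (m : ℕ) : ℕ × List ℕ × List ℕ := C.facts.getD m (0, [], [])

def rel (i j : ℕ) : ℕ := i * C.n - i * (i - 1) / 2 + (j - i)

def isRel (i j m : ℕ) : Bool :=
  Nat.blt m C.facts.length && Nat.beq (C.fact m).1 0 && decide ((C.fact m).2.1 = [j, i])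

/-- The form of a single unknown. -/
def unit (m : ℕ) : ℕ → ℤ := fun k => if k = m then 1 else 0

/-- Collection: the first argument is a reversed normal word. -/
def collect : ℕ → List ℕ → List ℕ → Option (List ℕ × (ℕ → ℤ))
  | 0, _, _ => none
  | _ + 1, x, [] => some (x, fun _ => 0)
  | k + 1, [], i :: w => collect k [i] w
  | k + 1, j :: x, i :: w =>
    if Nat.blt j i then collect k (i :: j :: x) w
    else if C.isRel i j (C.rel i j) then
      (collect k x ((C.fact (C.rel i j)).2.2 ++ w)).map fun r => (r.1, r.2 + unit (C.rel i j))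
    else none

def xs (l : List ℕ) : ℕ → ℤ := l.foldr (fun m a => unit m + a) (fun _ => 0)

def qcat : List ℕ → List ℕ
  | [] => []
  | m :: l => (C.fact m).2.1 ++ qcat l

def pcat : List ℕ → List ℕ
  | [] => []
  | m :: l => (C.fact m).2.2 ++ pcat l

def sameT (t : ℕ) (l : List ℕ) : Bool :=
  l.all fun m => Nat.blt m C.facts.length && Nat.beq (C.fact m).1 t

/-- The form of an equation. -/
def form : Eqn → Option (ℕ → ℤ)
  | .conj v1 v2 =>
    match C.collect C.fuel [] (C.qcat v1), C.collect C.fuel [] (C.qcat v2), C.collect C.fuel [] (C.pcat v1),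
      C.collect C.fuel [] (C.pcat v2) with
    | some (y1, f1), some (y2, f2), some (z1, h1), some (z2, h2) =>
      if decide (y1 = y2) && decide (z1 = z2) && C.sameT (C.fact (v1.getD 0 0)).1 v1 &&
          C.sameT (C.fact (v1.getD 0 0)).1 v2 then
        some ((h1 + xs v1 - f1) - (h2 + xs v2 - f2))
      else none
    | _, _, _, _ => none
  | .ins pre w post =>
    match C.collect C.fuel [] w with
    | some (y, f) =>
      match C.collect C.fuel [] (pre ++ w ++ post), C.collect C.fuel [] (pre ++ y.reverse ++ post) with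
      | some (a1, f1), some (a2, f2) => if a1 = a2 then some (f1 - (f2 + f)) else none
      | _, _ => none
    | none => none

def eqn (k : ℕ) : Eqn := C.eqs.getD k (.ins [] [] [])

/-- A combination of equations. -/
def comb : List (ℕ × ℤ) → Option (ℕ → ℤ)
  | [] => some fun _ => 0
  | (k, c) :: l =>
    match C.form (C.eqn k), comb l with
    | some a, some b => some fun m => c * a m + b m
    | _, _ => none

def sv (k : ℕ) : ℕ → ℤ := fun m => (C.s.getD k []).getD m 0

def ph : ℕ → ℤ := fun m => C.phi.getD m 0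

def sx (l : List ℕ) : ℕ → ℤ := l.foldr (fun k a => C.sv k + a) (fun _ => 0)

/-- Congruence modulo `q` on all unknowns. -/
def same (f g : ℕ → ℤ) : Bool :=
  (List.range C.facts.length).all fun m => decide ((f m - g m) % (C.q : ℤ) = 0)

def target (i j : ℕ) : ℕ → ℤ :=
  unit (C.rel i j) + C.sx [j, i] - C.sx (C.fact (C.rel i j)).2.2

def shape (i j : ℕ) : List ℕ → Bool
  | [] => Nat.beq j i
  | a :: l => l.all (fun x => Nat.blt i x && Nat.blt x C.n) &&
      if Nat.beq j i then Nat.blt i a && Nat.blt a C.n else Nat.beq a i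

def relOK (i j : ℕ) : Bool :=
  C.isRel i j (C.rel i j) && shape C i j (C.fact (C.rel i j)).2.2 &&
    match C.comb (C.combos.getD (C.rel i j) ([], 0)).1 with
    | some f => C.same (C.target i j) fun m => f m + (C.combos.getD (C.rel i j) ([], 0)).2 * C.ph m
    | none => false

def check : Bool :=
  ((List.range C.n).all fun i => (List.range C.n).all fun j => Nat.blt j i || C.relOK i j) &&
    match C.comb C.rphi with
    | some f => C.same f fun m => (C.r : ℤ) * C.ph m
    | none => false

end Cert

section Forms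

variable {Γ : Type*} [Group Γ]

/-- The product of powers of the unknowns given by a form. -/
def zz (E : ℕ → Γ) : ℕ → (ℕ → ℤ) → Γ
  | 0, _ => 1
  | N + 1, f => zz E N f * E N ^ f N

variable {E : ℕ → Γ} (hc : ∀ m g, Commute (E m) g)

include hc in
theorem zz_comm (N : ℕ) (f : ℕ → ℤ) (g : Γ) : Commute (zz E N f) g := by
  induction N with
  | zero => exact Commute.one_left g
  | succ N ih => exact ih.mul_left ((hc N g).zpow_left _)

include hc in
theorem zz_add (N : ℕ) (f g : ℕ → ℤ) : zz E N (f + g) = zz E N f * zz E N g := by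
  induction N with
  | zero => simp [zz]
  | succ N ih =>
    simp only [zz, ih, Pi.add_apply, zpow_add]
    exact (zz_comm hc N g _).mul_mul_mul_comm _ _

theorem zz_zero (N : ℕ) : zz E N (fun _ => 0) = 1 := by
  induction N with
  | zero => rfl
  | succ N ih => simp [zz, ih]

include hc in
theorem zz_neg (N : ℕ) (f : ℕ → ℤ) : zz E N (-f) = (zz E N f)⁻¹ := by
  refine eq_inv_of_mul_eq_one_left ?_
  rw [← zz_add hc, neg_add_cancel]
  exact zz_zero N

include hc in
theorem zz_sub (N : ℕ) (f g : ℕ → ℤ) : zz E N (f - g) = zz E N f * (zz E N g)⁻¹ := by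
  rw [sub_eq_add_neg, zz_add hc, zz_neg hc]

include hc in
theorem zz_smul (N : ℕ) (c : ℤ) (f : ℕ → ℤ) : zz E N (fun m => c * f m) = zz E N f ^ c := by
  induction N with
  | zero => simp [zz]
  | succ N ih =>
    simp only [zz, ih]
    rw [Commute.mul_zpow (zz_comm hc N f _), ← zpow_mul, mul_comm c]

theorem zz_unit {N m : ℕ} (hm : m < N) : zz E N (Cert.unit m) = E m := by
  have hlow : ∀ K ≤ m, zz E K (Cert.unit m) = 1 := by
    intro K hK
    induction K with
    | zero => rfl
    | succ K ih => simp [zz, ih (by omega), Cert.unit, show ¬K = m by omega]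
  induction N with
  | zero => omega
  | succ N ih =>
    rcases Nat.lt_succ_iff_lt_or_eq.mp hm with h | rfl
    · simp [zz, ih h, Cert.unit, show ¬N = m by omega]
    · simp [zz, hlow m le_rfl, Cert.unit]

theorem zz_congr {q : ℕ} (hq : ∀ m, E m ^ q = 1) {N : ℕ} {f g : ℕ → ℤ}
    (h : ∀ m < N, (f m - g m) % (q : ℤ) = 0) : zz E N f = zz E N g := by
  induction N with
  | zero => rfl
  | succ N ih =>
    simp only [zz, ih fun m hm => h m (by omega)]
    refine congrArg _ ?_
    obtain ⟨d, hd⟩ := Int.dvd_of_emod_eq_zero (h N (by omega))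
    rw [show f N = g N + (q : ℤ) * d by omega, zpow_add, zpow_mul, zpow_natCast, hq, one_zpow, mul_one]

end Forms

section Sound

variable (C : Cert) {Γ : Type*} [Group Γ] (Gl Tl : ℕ → Γ) {E : ℕ → Γ}

/-- A fact, lifted. -/
def FactAt (m : ℕ) : Prop :=
  Tl (C.fact m).1 * ev Gl (C.fact m).2.1 * (Tl (C.fact m).1)⁻¹ = ev Gl (C.fact m).2.2 * E m

variable {Gl Tl} (hc : ∀ m g, Commute (E m) g) (hq : ∀ m, E m ^ C.q = 1) (hT : Tl 0 = 1)
  (hf : ∀ m, FactAt C Gl Tl (E := E) m)

include hc hT hf

theorem collect_sound : ∀ k x w y f, C.collect k x w = some (y, f) →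
    ev Gl (x.reverse ++ w) = ev Gl y.reverse * zz E C.facts.length f := by
  intro k
  induction k with
  | zero => intro x w y f h; simp [Cert.collect] at h
  | succ k ih =>
    intro x w y f h
    match x, w with
    | x, [] =>
      simp [Cert.collect] at h
      obtain ⟨rfl, rfl⟩ := h
      simp [zz_zero]
    | [], i :: w =>
      simp only [Cert.collect] at h
      simpa using ih _ _ _ _ h
    | j :: x, i :: w =>
      simp only [Cert.collect] at h
      split at h
      · simpa using ih _ _ _ _ h
      · split at h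
        · rename_i hr
          simp only [Option.map_eq_some_iff, Prod.mk.injEq] at h
          obtain ⟨⟨y', f'⟩, hy, rfl, rfl⟩ := h
          simp only [Cert.isRel, Bool.and_eq_true, decide_eq_true_eq, Nat.blt_eq] at hr
          obtain ⟨⟨hlt, h0⟩, hq⟩ := hr
          have h0' := Nat.eq_of_beq_eq_true h0
          have hm := hf (C.rel i j)
          rw [FactAt, h0', hT, inv_one, mul_one, one_mul, hq] at hm
          have hy' := ih _ _ _ _ hy
          rw [ev_append, ev_append] at hy'
          calc ev Gl ((j :: x).reverse ++ i :: w)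
              = ev Gl x.reverse * ev Gl [j, i] * ev Gl w := by
                rw [List.reverse_cons, List.append_assoc, ev_append, List.singleton_append, ev_cons, ev_cons, ev_cons,
                  ev_cons, ev_nil]
                simp only [mul_one, mul_assoc]
            _ = ev Gl x.reverse * (ev Gl (C.fact (C.rel i j)).2.2 * ev Gl w) * E (C.rel i j) := by
                rw [hm]; simp only [mul_assoc]; rw [(hc _ (ev Gl w)).eq]
            _ = _ := by
                rw [hy', zz_add hc, zz_unit hlt, mul_assoc]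
        · simp at h

theorem conj_sound (t : ℕ) : ∀ l, C.sameT t l = true →
    Tl t * ev Gl (C.qcat l) * (Tl t)⁻¹ = ev Gl (C.pcat l) * zz E C.facts.length (Cert.xs l) := by
  intro l
  induction l with
  | nil => intro _; simp [Cert.qcat, Cert.pcat, Cert.xs, ev_nil, zz_zero]
  | cons m l ih =>
    intro h
    simp only [Cert.sameT, List.all_cons, Bool.and_eq_true, Nat.blt_eq] at h
    obtain ⟨⟨hlt, ht⟩, hl⟩ := h
    have hm := hf m
    rw [FactAt, Nat.eq_of_beq_eq_true ht] at hm
    have := ih hl
    simp only [Cert.qcat, Cert.pcat, ev_append]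
    rw [show Cert.xs (m :: l) = Cert.unit m + Cert.xs l from rfl, zz_add hc, zz_unit hlt]
    calc Tl t * (ev Gl (C.fact m).2.1 * ev Gl (C.qcat l)) * (Tl t)⁻¹
        = (Tl t * ev Gl (C.fact m).2.1 * (Tl t)⁻¹) * (Tl t * ev Gl (C.qcat l) * (Tl t)⁻¹) := by group
      _ = ev Gl (C.fact m).2.2 * (E m * ev Gl (C.pcat l)) * zz E C.facts.length (Cert.xs l) := by
        rw [hm, this]; simp only [mul_assoc]
      _ = _ := by rw [(hc m _).eq]; simp only [mul_assoc]

theorem form_sound (e : Eqn) (a : ℕ → ℤ) (h : C.form e = some a) : zz E C.facts.length a = 1 := by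
  have hs := collect_sound C hc hT hf C.fuel []
  simp only [List.reverse_nil, List.nil_append] at hs
  set N := C.facts.length
  cases e with
  | conj v1 v2 =>
    simp only [Cert.form] at h
    split at h
    · rename_i y1 f1 y2 f2 z1 g1 z2 g2 e1 e2 e3 e4
      split at h
      · rename_i hh
        simp only [Bool.and_eq_true, decide_eq_true_eq] at hh
        obtain ⟨⟨⟨rfl, rfl⟩, ht1⟩, ht2⟩ := hh
        obtain rfl : _ = a := Option.some.inj h
        set t := (C.fact (v1.getD 0 0)).1
        have key : ∀ v f g, C.collect C.fuel [] (C.qcat v) = some (y1, f) →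
            C.collect C.fuel [] (C.pcat v) = some (z1, g) → C.sameT t v = true →
            Tl t * ev Gl y1.reverse * (Tl t)⁻¹ = ev Gl z1.reverse * zz E N (g + Cert.xs v - f) := by
          intro v f g hq hp hv
          have hh := conj_sound C hc hT hf t v hv
          rw [hs _ _ _ hq, hs _ _ _ hp] at hh
          have e : Tl t * (ev Gl y1.reverse * zz E N f) * (Tl t)⁻¹ =
              Tl t * ev Gl y1.reverse * (Tl t)⁻¹ * zz E N f := by
            rw [← mul_assoc, mul_assoc, (zz_comm hc N f _).eq, ← mul_assoc]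
          rw [e, mul_assoc (ev Gl z1.reverse), ← zz_add hc] at hh
          rw [zz_sub hc, ← mul_assoc, ← hh, mul_inv_cancel_right]
        have heq := (key v1 f1 g1 e1 e3 ht1).symm.trans (key v2 f2 g2 e2 e4 ht2)
        rw [zz_sub hc, mul_left_cancel heq, mul_inv_cancel]
      · simp at h
    · simp at h
  | ins pre w post =>
    simp only [Cert.form] at h
    split at h
    · rename_i y f ey
      split at h
      · rename_i a1 f1 a2 f2 e1 e2
        split at h
        · rename_i heq
          subst heq
          obtain rfl : _ = a := Option.some.inj h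
          have k1 := hs _ _ _ e1
          have k2 := hs _ _ _ e2
          rw [ev_append, ev_append, hs _ _ _ ey, ← mul_assoc, mul_assoc _ (zz E N f),
            (zz_comm hc N f _).eq, ← mul_assoc] at k1
          rw [ev_append, ev_append] at k2
          rw [k2, mul_assoc, ← zz_add hc] at k1
          rw [zz_sub hc, ← mul_left_cancel k1, mul_inv_cancel]
        · simp at h
      · simp at h
    · simp at h

theorem comb_sound : ∀ l a, C.comb l = some a → zz E C.facts.length a = 1 := by
  intro l
  induction l with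
  | nil => intro a h; obtain rfl : (fun _ => (0 : ℤ)) = a := Option.some.inj h
           exact zz_zero _
  | cons k l ih =>
    obtain ⟨k, c⟩ := k
    intro a h
    simp only [Cert.comb] at h
    split at h
    · rename_i b d eb ed
      obtain rfl : _ = a := Option.some.inj h
      rw [show (fun m => c * b m + d m) = (fun m => c * b m) + d from rfl, zz_add hc, zz_smul hc,
        form_sound C hc hT hf _ _ eb, ih _ ed, one_zpow, one_mul]
    · simp at h

omit hT hf in
theorem ev_twist (l : List ℕ) :
    ev (fun k => Gl k * zz E C.facts.length (C.sv k)) l = ev Gl l * zz E C.facts.length (C.sx l) := by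
  induction l with
  | nil => simp [ev_nil, Cert.sx, zz_zero]
  | cons k l ih =>
    rw [ev_cons, ev_cons, ih, show C.sx (k :: l) = C.sv k + C.sx l from rfl, zz_add hc,
      (zz_comm hc _ (C.sv k) _).mul_mul_mul_comm]

include hq

/-- The surviving element has exponent `r`. -/
theorem phi_pow (h : C.check = true) : zz E C.facts.length C.ph ^ C.r = 1 := by
  simp only [Cert.check, Bool.and_eq_true] at h
  obtain ⟨-, h⟩ := h
  split at h
  · rename_i f ef
    simp only [Cert.same, List.all_eq_true, List.mem_range, decide_eq_true_eq] at h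
    rw [← zpow_natCast, ← zz_smul hc, ← zz_congr hq h, comb_sound C hc hT hf _ _ ef]
  · simp at h

/-- The corrected lifts satisfy the relations up to the surviving element. -/
theorem rel_sound {i j : ℕ} (h : C.relOK i j = true) : ∃ a : ℤ,
    ev (fun k => Gl k * zz E C.facts.length (C.sv k)) [j, i] =
      ev (fun k => Gl k * zz E C.facts.length (C.sv k)) (C.fact (C.rel i j)).2.2 *
        zz E C.facts.length C.ph ^ a := by
  simp only [Cert.relOK, Cert.isRel, Bool.and_eq_true, decide_eq_true_eq, Nat.blt_eq] at h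
  obtain ⟨⟨⟨⟨hlt, h0⟩, hj⟩, -⟩, hcb⟩ := h
  split at hcb
  · rename_i f ef
    set a := (C.combos.getD (C.rel i j) ([], 0)).2
    simp only [Cert.same, List.all_eq_true, List.mem_range, decide_eq_true_eq] at hcb
    have hm := hf (C.rel i j)
    rw [FactAt, Nat.eq_of_beq_eq_true h0, hT, inv_one, mul_one, one_mul, hj] at hm
    have ht : zz E C.facts.length (C.target i j) = zz E C.facts.length C.ph ^ a := by
      rw [zz_congr hq hcb, show (fun m => f m + a * C.ph m) = f + fun m => a * C.ph m from rfl, zz_add hc,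
        comb_sound C hc hT hf _ _ ef, one_mul, zz_smul hc]
    rw [Cert.target, zz_sub hc, zz_add hc, zz_unit hlt] at ht
    refine ⟨a, ?_⟩
    rw [ev_twist C hc, ev_twist C hc, hm, ← ht, mul_assoc, mul_assoc]
    refine congrArg (ev Gl _ * ·) ?_
    set s := zz E C.facts.length (C.sx (C.fact (C.rel i j)).2.2)
    rw [← (zz_comm hc C.facts.length (C.sx (C.fact (C.rel i j)).2.2) _).inv_left.eq, mul_inv_cancel_left]
  · simp at hcb

/-- The corrected lifts and the surviving element generate a group of order at most `2 ^ n` times its order. -/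
theorem card_lift [Finite Γ] (h : C.check = true) :
    Nat.card (closure ((fun k => Gl k * zz E C.facts.length (C.sv k)) '' {k | k < C.n} ∪
      {zz E C.facts.length C.ph})) ≤ 2 ^ C.n * orderOf (zz E C.facts.length C.ph) := by
  set G' := fun k => Gl k * zz E C.facts.length (C.sv k)
  set w := zz E C.facts.length C.ph
  have hk : ∀ d ≤ C.n, Nat.card (closure (G' '' {k | C.n - d ≤ k ∧ k < C.n} ∪ {w})) ≤ 2 ^ d * orderOf w := by
    intro d hd
    induction d with
    | zero =>
      rw [show {k | C.n - 0 ≤ k ∧ k < C.n} = (∅ : Set ℕ) by ext k; simp, Set.image_empty, Set.empty_union,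
        ← zpowers_eq_closure, Nat.card_zpowers, pow_zero, one_mul]
    | succ d ih =>
      set i := C.n - (d + 1)
      set N := closure (G' '' {k | C.n - d ≤ k ∧ k < C.n} ∪ {w})
      have hrel : ∀ j, i ≤ j → j < C.n → C.relOK i j = true := by
        intro j hij hj
        simp only [Cert.check, Bool.and_eq_true, List.all_eq_true, List.mem_range, Bool.or_eq_true, Nat.blt_eq] at h
        exact (h.1 i (by omega) j hj).resolve_left (by omega)
      have hin : ∀ x, i < x → x < C.n → G' x ∈ N := fun x h1 h2 =>
        subset_closure (Or.inl ⟨x, ⟨by omega, h2⟩, rfl⟩)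
      have hwN : w ∈ N := Subgroup.subset_closure (Set.mem_union_right _ rfl)
      have hw : ∀ a : ℤ, w ^ a ∈ N := fun a => zpow_mem hwN a
      have hev : ∀ l : List ℕ, (∀ x ∈ l, i < x ∧ x < C.n) → ev G' l ∈ N := fun l hl =>
        list_prod_mem (fun y hy => by
          obtain ⟨x, hx, rfl⟩ := List.mem_map.mp hy
          exact hin x (hl x hx).1 (hl x hx).2)
      have hshape : ∀ j, i ≤ j → j < C.n → C.shape i j (C.fact (C.rel i j)).2.2 = true := fun j a b => by
        have := hrel j a b
        simp only [Cert.relOK, Bool.and_eq_true] at this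
        exact this.1.2
      have hsq : G' i * G' i ∈ N := by
        obtain ⟨a, e⟩ := rel_sound C hc hq hT hf (hrel i le_rfl (by omega))
        rw [ev_cons, ev_cons, ev_nil, mul_one] at e
        show G' i * G' i ∈ N
        rw [e]
        refine mul_mem (hev _ fun x hx => ?_) (hw a)
        have := hshape i le_rfl (by omega)
        cases hp : (C.fact (C.rel i i)).2.2 with
        | nil => simp [hp] at hx
        | cons b l =>
          rw [hp] at this hx
          simp only [Cert.shape, Bool.and_eq_true, List.all_eq_true, Nat.blt_eq] at this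
          rw [if_pos (Nat.beq_refl i)] at this
          simp only [Bool.and_eq_true, Nat.blt_eq] at this
          rcases List.mem_cons.mp hx with rfl | hx
          exacts [this.2, this.1 x hx]
      have hconj : ∀ a ∈ N, (G' i)⁻¹ * a * G' i ∈ N := by
        intro a ha
        induction ha using closure_induction with
        | mem y hy =>
          rcases hy with ⟨j, ⟨hj1, hj2⟩, rfl⟩ | rfl
          · obtain ⟨a, e⟩ := rel_sound C hc hq hT hf (hrel j (by omega) hj2)
            rw [ev_cons, ev_cons, ev_nil, mul_one] at e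
            have := hshape j (by omega) hj2
            have hne : Nat.beq j i = false := by
              rw [← Bool.not_eq_true]; intro hb; have := Nat.eq_of_beq_eq_true hb; omega
            cases hp : (C.fact (C.rel i j)).2.2 with
            | nil => rw [hp] at this; simp [Cert.shape, hne] at this
            | cons b l =>
              rw [hp] at this e
              simp only [Cert.shape, Bool.and_eq_true, List.all_eq_true, Nat.blt_eq, hne] at this
              obtain ⟨hl, hb⟩ := this
              obtain rfl : b = i := Nat.eq_of_beq_eq_true (by simpa using hb)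
              rw [mul_assoc, show G' j * G' i = G' i * (ev G' l * w ^ a) from
                e.trans (by rw [ev_cons, mul_assoc]), inv_mul_cancel_left]
              exact mul_mem (hev l hl) (hw a)
          · rw [mul_assoc, (zz_comm hc _ _ (G' i)).eq, inv_mul_cancel_left]
            exact hwN
        | one => simp
        | mul x y _ _ hx hy =>
          rw [show (G' i)⁻¹ * (x * y) * G' i = ((G' i)⁻¹ * x * G' i) * ((G' i)⁻¹ * y * G' i) by group]
          exact mul_mem hx hy
        | inv x _ hx =>
          rw [show (G' i)⁻¹ * x⁻¹ * G' i = ((G' i)⁻¹ * x * G' i)⁻¹ by group]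
          exact inv_mem hx
      have := card_double N hconj hsq (S := G' '' {k | i ≤ k ∧ k < C.n} ∪ {w}) (by
        rintro _ (⟨k, ⟨hk1, hk2⟩, rfl⟩ | rfl)
        · rcases Nat.lt_or_eq_of_le hk1 with hlt | heq
          · exact Or.inl (hin k hlt hk2)
          · exact Or.inr (by rw [heq])
        · exact Or.inl hwN)
      calc _ ≤ 2 * Nat.card N := this
        _ ≤ 2 * (2 ^ d * orderOf w) := Nat.mul_le_mul_left _ (ih (by omega))
        _ = 2 ^ (d + 1) * orderOf w := by ring
  simpa using hk C.n le_rfl

end Sound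

/-- Transfer puts every kernel element into the group of the surviving element. -/
theorem pow_index_mem_zpowers {G : Type v} [Group G] {Γ : Type u} [Group Γ] [Finite Γ] {σ : Γ →* G}
    (hσ : Cfsg.IsStemExtension σ) (C : Cert) (hexp : ∀ z ∈ σ.ker, z ^ C.q = 1) (hC : C.check = true)
    (g t : ℕ → G) (ht : t 0 = 1)
    (hfacts : ∀ m < C.facts.length, t (C.fact m).1 * ev g (C.fact m).2.1 * (t (C.fact m).1)⁻¹ = ev g (C.fact m).2.2)
    (hcard : 2 ^ C.n ≤ Nat.card (closure (g '' {k | k < C.n}))) :
    ∃ w ∈ σ.ker, w ^ C.r = 1 ∧ ∀ z ∈ σ.ker, z ^ (closure (g '' {k | k < C.n})).index ∈ zpowers w := by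
  classical
  haveI : Finite G := Finite.of_surjective σ hσ.1
  let Gl : ℕ → Γ := fun k => Function.surjInv hσ.1 (g k)
  let Tl : ℕ → Γ := fun k => if k = 0 then 1 else Function.surjInv hσ.1 (t k)
  let E : ℕ → Γ := fun m => (ev Gl (C.fact m).2.2)⁻¹ *
    (Tl (C.fact m).1 * ev Gl (C.fact m).2.1 * (Tl (C.fact m).1)⁻¹)
  have hG : ∀ k, σ (Gl k) = g k := fun k => Function.surjInv_eq hσ.1 _
  have hTl : ∀ k, σ (Tl k) = t k := fun k => by
    by_cases hk : k = 0
    · simp [Tl, hk, ht]
    · simp [Tl, hk, Function.surjInv_eq hσ.1]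
  have hev : ∀ l, σ (ev Gl l) = ev g l := fun l => by rw [map_ev]; simp only [hG]
  have hE : ∀ m, E m ∈ σ.ker := by
    intro m
    rw [MonoidHom.mem_ker]
    simp only [E, map_mul, map_inv, hev, hTl]
    by_cases hm : m < C.facts.length
    · rw [hfacts m hm, inv_mul_cancel]
    · have hd : C.fact m = (0, [], []) := List.getD_eq_default _ _ (not_lt.mp hm)
      simp [hd, ev_nil, ht]
  have hc : ∀ m x, Commute (E m) x := fun m x => (mem_center_iff.mp (hσ.2.1 (hE m)) x).symm
  have hq : ∀ m, E m ^ C.q = 1 := fun m => hexp _ (hE m)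
  have hf : ∀ m, FactAt C Gl Tl (E := E) m := fun m => (mul_inv_cancel_left _ _).symm
  set G' := fun k => Gl k * zz E C.facts.length (C.sv k)
  set w := zz E C.facts.length C.ph with hw
  have hle := card_lift C hc hq (by simp [Tl]) hf hC
  set L := closure (G' '' {k | k < C.n} ∪ {w}) with hL
  set P := closure (g '' {k | k < C.n}) with hP
  have hzk : ∀ N f, zz E N f ∈ σ.ker := by
    intro N f
    induction N with
    | zero => exact one_mem _
    | succ N ih => exact mul_mem ih (zpow_mem (hE N) _)
  have hG' : ∀ k, σ (G' k) = g k := fun k => by simp [G', hG, MonoidHom.mem_ker.mp (hzk _ _)]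
  have hmap : L.map σ = P := by
    rw [hL, hP, MonoidHom.map_closure, Set.image_union, Set.image_singleton, MonoidHom.mem_ker.mp (hzk _ _),
      Set.image_image, Subgroup.closure_union, closure_singleton_one, sup_bot_eq]
    simp only [hG']
  let f : L →* P := (σ.comp L.subtype).codRestrict P fun x => hmap ▸ mem_map_of_mem σ x.2
  have hfs : Function.Surjective f := by
    rintro ⟨y, hy⟩
    rw [← hmap] at hy
    obtain ⟨x, hx, rfl⟩ := hy
    exact ⟨⟨x, hx⟩, rfl⟩
  have hker : f.ker = (zpowers w).subgroupOf L := by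
    refine (eq_of_le_of_card_ge ?_ ?_).symm
    · intro x hx
      obtain ⟨k, hk⟩ := mem_zpowers_iff.mp (mem_subgroupOf.mp hx)
      refine MonoidHom.mem_ker.mpr (Subtype.ext ?_)
      show σ (x : Γ) = 1
      rw [← hk, map_zpow, MonoidHom.mem_ker.mp (hzk _ _), one_zpow]
    · have hwL : zpowers w ≤ L := zpowers_le.mpr (subset_closure (Or.inr rfl))
      rw [Nat.card_congr (subgroupOfEquivOfLe hwL).toEquiv, Nat.card_zpowers]
      have h1 := f.ker.card_mul_index
      rw [index_ker, MonoidHom.range_eq_top.mpr hfs, card_top] at h1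
      refine Nat.le_of_mul_le_mul_right ?_ (Nat.card_pos (α := P))
      rw [h1, mul_comm]
      exact hle.trans (Nat.mul_le_mul_right _ hcard)
  refine ⟨w, hzk _ _, phi_pow C hc hq (by simp [Tl]) hf hC, fun z hz => ?_⟩
  obtain ⟨hmem, hcm⟩ := CfsgLib.StSL.pow_index_mem hσ P hz
  have hcom : commutator (P.comap σ) ≤ L.subgroupOf (P.comap σ) := by
    rw [_root_.commutator_def, commutator_le]
    rintro ⟨a, ha⟩ - ⟨b, hb⟩ -
    have hdec : ∀ a ∈ P.comap σ, ∃ l ∈ L, σ a = σ l := by
      intro a ha
      rw [mem_comap, ← hmap] at ha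
      obtain ⟨l, hl, he⟩ := ha
      exact ⟨l, hl, he.symm⟩
    obtain ⟨la, hla, ea⟩ := hdec a ha
    obtain ⟨lb, hlb, eb⟩ := hdec b hb
    rw [mem_subgroupOf]
    show ⁅a, b⁆ ∈ L
    rw [CfsgLib.StSL.comm_congr hσ.2.1 ea eb]
    exact mul_mem (mul_mem (mul_mem hla hlb) (inv_mem hla)) (inv_mem hlb)
  have hzL : z ^ P.index ∈ L := mem_subgroupOf.mp (hcom hcm)
  have : (⟨_, hzL⟩ : L) ∈ f.ker := MonoidHom.mem_ker.mpr (Subtype.ext (MonoidHom.mem_ker.mp (pow_mem hz _)))
  rw [hker] at this
  exact mem_subgroupOf.mp this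

/-- The `q`-th powers in the kernel can be divided out. -/
theorem mod_pow {G : Type v} [Group G] {Γ : Type u} [Group Γ] [Finite Γ] {σ : Γ →* G}
    (hσ : Cfsg.IsStemExtension σ) (q r : ℕ)
    (h : ∀ (Δ : Type u) [Group Δ] [Finite Δ] (τ : Δ →* G), Cfsg.IsStemExtension τ →
      (∀ z ∈ τ.ker, z ^ q = 1) → ∃ w ∈ τ.ker, w ^ r = 1 ∧ τ.ker ≤ zpowers w) :
    ∃ z₀ ∈ σ.ker, (∃ y ∈ σ.ker, z₀ ^ r = y ^ q) ∧ ∀ z ∈ σ.ker, ∃ k : ℤ, ∃ y ∈ σ.ker, z = z₀ ^ k * y ^ q := by
  let S : Subgroup Γ :=
    { carrier := {x | ∃ y ∈ σ.ker, y ^ q = x}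
      one_mem' := ⟨1, one_mem _, one_pow q⟩
      mul_mem' := by
        rintro _ _ ⟨a, ha, rfl⟩ ⟨b, hb, rfl⟩
        exact ⟨a * b, mul_mem ha hb, (show Commute a b from mem_center_iff.mp (hσ.2.1 hb) a).mul_pow q⟩
      inv_mem' := by
        rintro _ ⟨a, ha, rfl⟩
        exact ⟨a⁻¹, inv_mem ha, inv_pow a q⟩ }
  have hSk : S ≤ σ.ker := by rintro _ ⟨a, ha, rfl⟩; exact pow_mem ha q
  haveI : S.Normal := ⟨fun x hx g => by
    rw [mem_center_iff.mp (hσ.2.1 (hSk hx)) g, mul_inv_cancel_right]; exact hx⟩
  set τ := QuotientGroup.lift S σ hSk with hτ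
  have hmk : ∀ x, τ (QuotientGroup.mk' S x) = σ x := fun x => QuotientGroup.lift_mk' S hSk x
  have hlift : ∀ d ∈ τ.ker, ∃ x ∈ σ.ker, QuotientGroup.mk' S x = d := by
    intro d hd
    obtain ⟨x, rfl⟩ := QuotientGroup.mk'_surjective S d
    exact ⟨x, by rwa [MonoidHom.mem_ker, hmk] at hd, rfl⟩
  have hst : Cfsg.IsStemExtension τ := by
    refine ⟨fun y => ?_, fun d hd => ?_, fun d hd => ?_⟩
    · obtain ⟨x, rfl⟩ := hσ.1 y
      exact ⟨QuotientGroup.mk' S x, hmk x⟩
    · obtain ⟨x, hx, rfl⟩ := hlift d hd
      rw [mem_center_iff]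
      intro g
      obtain ⟨g, rfl⟩ := QuotientGroup.mk'_surjective S g
      rw [← map_mul, ← map_mul, mem_center_iff.mp (hσ.2.1 hx) g]
    · obtain ⟨x, hx, rfl⟩ := hlift d hd
      have hm := mem_map_of_mem (QuotientGroup.mk' S) (hσ.2.2 hx)
      rw [_root_.commutator_def, map_commutator, map_top_of_surjective _ (QuotientGroup.mk'_surjective S)] at hm
      exact hm
  obtain ⟨w, hw, hwr, hle⟩ := h _ τ hst fun d hd => by
    obtain ⟨x, hx, rfl⟩ := hlift d hd
    rw [← map_pow, QuotientGroup.mk'_apply, QuotientGroup.eq_one_iff]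
    exact ⟨x, hx, rfl⟩
  obtain ⟨z₀, hz₀, rfl⟩ := hlift w hw
  refine ⟨z₀, hz₀, ?_, fun z hz => ?_⟩
  · rw [← map_pow, QuotientGroup.mk'_apply, QuotientGroup.eq_one_iff] at hwr
    obtain ⟨y, hy, e⟩ := hwr
    exact ⟨y, hy, e.symm⟩
  · obtain ⟨k, hk⟩ := mem_zpowers_iff.mp (hle (x := QuotientGroup.mk' S z) (by rw [MonoidHom.mem_ker, hmk]; exact hz))
    rw [← map_zpow, QuotientGroup.mk'_apply, QuotientGroup.mk'_apply, QuotientGroup.eq] at hk
    obtain ⟨y, hy, e⟩ := hk
    exact ⟨k, y, hy, by rw [e, mul_inv_cancel_left]⟩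

end CfsgLib.StemSylow.CollectMod
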