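/-
The collector of `StemSylow/CollectMod.lean` for a prime `p`: a certificate that every relation of a polycyclic
`p`-group lifts exactly into a stem extension whose kernel has exponent `p`.
-/
import Mathlib
import Cfsg.Agent.Lib.StemSylow.CollectMod

set_option autoImplicit false
set_option linter.style.haveILetI false
set_option linter.unusedSectionVars false

namespace CfsgLib.StemSylow.CollectP

open Subgroup
open CfsgLib.StemSylow.Collect (ev ev_nil ev_cons ev_append map_ev Eqn)
open CfsgLib.StemSylow.CollectMod (zz zz_comm zz_add zz_zero zz_neg zz_sub zz_smul zz_unit zz_congr)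
open scoped commutatorElement

universe u v

/-- The certificate for the prime `p`. -/
structure Cert where
  n : ℕ
  p : ℕ
  fuel : ℕ
  facts : List (ℕ × List ℕ × List ℕ)
  eqs : List Eqn
  s : List (List ℤ)
  combos : List (List (ℕ × ℤ))

namespace Cert

variable (C : Cert)

def fact (m : ℕ) : ℕ × List ℕ × List ℕ := C.facts.getD m (0, [], [])

def rel (i j : ℕ) : ℕ := i * C.n - i * (i - 1) / 2 + (j - i)

/-- The left side of the relation at `(i, j)`. -/
def lhs (i j : ℕ) : List ℕ := if Nat.beq j i then List.replicate C.p i else [j, i]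

def isRel (i j m : ℕ) : Bool :=
  Nat.blt m C.facts.length && Nat.beq (C.fact m).1 0 && decide ((C.fact m).2.1 = C.lhs i j)

/-- The form of a single unknown. -/
abbrev unit (m : ℕ) : ℕ → ℤ := CollectMod.Cert.unit m

/-- Collection: the first argument is a reversed word with exponents below `p`. -/
def collect : ℕ → List ℕ → List ℕ → Option (List ℕ × (ℕ → ℤ))
  | 0, _, _ => none
  | _ + 1, x, [] => some (x, fun _ => 0)
  | k + 1, [], i :: w => collect k [i] w
  | k + 1, j :: x, i :: w =>
    if Nat.blt j i then collect k (i :: j :: x) w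
    else if Nat.beq j i then
      if decide ((j :: x).take (C.p - 1) = List.replicate (C.p - 1) i) then
        if C.isRel i i (C.rel i i) && Nat.blt 0 C.p then
          (collect k ((j :: x).drop (C.p - 1)) ((C.fact (C.rel i i)).2.2 ++ w)).map fun r =>
            (r.1, r.2 + unit (C.rel i i))
        else none
      else collect k (i :: j :: x) w
    else if C.isRel i j (C.rel i j) then
      (collect k x ((C.fact (C.rel i j)).2.2 ++ w)).map fun r => (r.1, r.2 + unit (C.rel i j))
    else none

def xs (l : List ℕ) : ℕ → ℤ := l.foldr (fun m a => unit m + a) (fun _ => 0)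

def qcat : List ℕ → List ℕ
  | [] => []
  | m :: l => (C.fact m).2.1 ++ qcat l

def pcat : List ℕ → List ℕ
  | [] => []
  | m :: l => (C.fact m).2.2 ++ pcat l

def sameT (t : ℕ) (l : List ℕ) : Bool :=
  l.all fun m => Nat.blt m C.facts.length && Nat.beq (C.fact m).1 t

/-- The form of an equation. -/
def form : Eqn → Option (ℕ → ℤ)
  | .conj v1 v2 =>
    match C.collect C.fuel [] (C.qcat v1), C.collect C.fuel [] (C.qcat v2), C.collect C.fuel [] (C.pcat v1),
      C.collect C.fuel [] (C.pcat v2) with
    | some (y1, f1), some (y2, f2), some (z1, h1), some (z2, h2) =>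
      if decide (y1 = y2) && decide (z1 = z2) && C.sameT (C.fact (v1.getD 0 0)).1 v1 &&
          C.sameT (C.fact (v1.getD 0 0)).1 v2 then
        some ((h1 + xs v1 - f1) - (h2 + xs v2 - f2))
      else none
    | _, _, _, _ => none
  | .ins pre w post =>
    match C.collect C.fuel [] w with
    | some (y, f) =>
      match C.collect C.fuel [] (pre ++ w ++ post), C.collect C.fuel [] (pre ++ y.reverse ++ post) with
      | some (a1, f1), some (a2, f2) => if a1 = a2 then some (f1 - (f2 + f)) else none
      | _, _ => none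
    | none => none

def eqn (k : ℕ) : Eqn := C.eqs.getD k (.ins [] [] [])

/-- A combination of equations. -/
def comb : List (ℕ × ℤ) → Option (ℕ → ℤ)
  | [] => some fun _ => 0
  | (k, c) :: l =>
    match C.form (C.eqn k), comb l with
    | some a, some b => some fun m => c * a m + b m
    | _, _ => none

def sv (k : ℕ) : ℕ → ℤ := fun m => (C.s.getD k []).getD m 0

def sx (l : List ℕ) : ℕ → ℤ := l.foldr (fun k a => C.sv k + a) (fun _ => 0)

/-- Congruence modulo `p` on all unknowns. -/
def same (f g : ℕ → ℤ) : Bool :=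
  (List.range C.facts.length).all fun m => decide ((f m - g m) % (C.p : ℤ) = 0)

def target (i j : ℕ) : ℕ → ℤ :=
  unit (C.rel i j) + C.sx (C.lhs i j) - C.sx (C.fact (C.rel i j)).2.2

def shape (i j : ℕ) : List ℕ → Bool
  | [] => Nat.beq j i
  | a :: l => l.all (fun x => Nat.blt i x && Nat.blt x C.n) &&
      if Nat.beq j i then Nat.blt i a && Nat.blt a C.n else Nat.beq a i

def relOK (i j : ℕ) : Bool :=
  C.isRel i j (C.rel i j) && shape C i j (C.fact (C.rel i j)).2.2 &&
    match C.comb (C.combos.getD (C.rel i j) []) with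
    | some f => C.same (C.target i j) f
    | none => false

def check : Bool :=
  Nat.blt 0 C.p && (List.range C.n).all fun i => (List.range C.n).all fun j => Nat.blt j i || C.relOK i j

end Cert

section Sound

variable (C : Cert) {Γ : Type*} [Group Γ] (Gl Tl : ℕ → Γ) {E : ℕ → Γ}

/-- A fact, lifted. -/
def FactAt (m : ℕ) : Prop :=
  Tl (C.fact m).1 * ev Gl (C.fact m).2.1 * (Tl (C.fact m).1)⁻¹ = ev Gl (C.fact m).2.2 * E m

variable {Gl Tl} (hc : ∀ m g, Commute (E m) g) (hq : ∀ m, E m ^ C.p = 1) (hT : Tl 0 = 1)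
  (hf : ∀ m, FactAt C Gl Tl (E := E) m)

include hc hT hf

/-- A relation, lifted. -/
theorem rel_at {i j : ℕ} (h : C.isRel i j (C.rel i j) = true) :
    C.rel i j < C.facts.length ∧ ev Gl (C.lhs i j) = ev Gl (C.fact (C.rel i j)).2.2 * E (C.rel i j) := by
  simp only [Cert.isRel, Bool.and_eq_true, decide_eq_true_eq, Nat.blt_eq] at h
  obtain ⟨⟨hlt, h0⟩, hl⟩ := h
  have hm := hf (C.rel i j)
  rw [FactAt, Nat.eq_of_beq_eq_true h0, hT, inv_one, mul_one, one_mul, hl] at hm
  exact ⟨hlt, hm⟩

/-- One rewriting step. -/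
theorem step_sound {i j : ℕ} (h : C.isRel i j (C.rel i j) = true) (a b : Γ) {y : Γ} {f : ℕ → ℤ}
    (hy : a * (ev Gl (C.fact (C.rel i j)).2.2 * b) = y * zz E C.facts.length f) :
    a * ev Gl (C.lhs i j) * b = y * zz E C.facts.length (f + Cert.unit (C.rel i j)) := by
  obtain ⟨hlt, e⟩ := rel_at C hc hT hf h
  rw [e, zz_add hc, zz_unit hlt]
  calc a * (ev Gl (C.fact (C.rel i j)).2.2 * E (C.rel i j)) * b
      = a * (ev Gl (C.fact (C.rel i j)).2.2 * b) * E (C.rel i j) := by
        simp only [mul_assoc]; rw [(hc _ b).eq]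
    _ = _ := by rw [hy, mul_assoc]

theorem collect_sound : ∀ k x w y f, C.collect k x w = some (y, f) →
    ev Gl (x.reverse ++ w) = ev Gl y.reverse * zz E C.facts.length f := by
  intro k
  induction k with
  | zero => intro x w y f h; simp [Cert.collect] at h
  | succ k ih =>
    intro x w y f h
    match x, w with
    | x, [] =>
      simp [Cert.collect] at h
      obtain ⟨rfl, rfl⟩ := h
      simp [zz_zero]
    | [], i :: w =>
      simp only [Cert.collect] at h
      simpa using ih _ _ _ _ h
    | j :: x, i :: w =>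
      simp only [Cert.collect] at h
      split at h
      · simpa using ih _ _ _ _ h
      · split at h
        · split at h
          · rename_i hji htake
            split at h
            · rename_i hr
              simp only [Option.map_eq_some_iff, Prod.mk.injEq] at h
              obtain ⟨⟨y', f'⟩, hy, rfl, rfl⟩ := h
              rw [Bool.and_eq_true, Nat.blt_eq] at hr
              have hy' := ih _ _ _ _ hy
              rw [ev_append, ev_append] at hy'
              have hs := step_sound C hc hT hf hr.1 (ev Gl ((j :: x).drop (C.p - 1)).reverse) (ev Gl w) hy'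
              refine Eq.trans ?_ hs
              have hl : C.lhs i i = List.replicate (C.p - 1) i ++ [i] := by
                rw [Cert.lhs, if_pos (Nat.beq_refl i), ← List.replicate_succ', Nat.sub_add_cancel hr.2]
              have hrev : (j :: x).reverse = ((j :: x).drop (C.p - 1)).reverse ++ List.replicate (C.p - 1) i := by
                conv_lhs => rw [← List.take_append_drop (C.p - 1) (j :: x), of_decide_eq_true htake]
                rw [List.reverse_append, List.reverse_replicate]
              rw [hl, hrev, show i :: w = [i] ++ w from rfl, ← List.append_assoc, List.append_assoc _ _ [i], ev_append,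
                ev_append]
            · simp at h
          · simpa using ih _ _ _ _ h
        · split at h
          · rename_i hji hr
            simp only [Option.map_eq_some_iff, Prod.mk.injEq] at h
            obtain ⟨⟨y', f'⟩, hy, rfl, rfl⟩ := h
            have hy' := ih _ _ _ _ hy
            rw [ev_append, ev_append] at hy'
            refine Eq.trans ?_ (step_sound C hc hT hf hr _ _ hy')
            rw [Cert.lhs, if_neg hji, List.reverse_cons, List.append_assoc, ev_append, List.singleton_append,
              ev_cons, ev_cons, ev_cons, ev_cons, ev_nil]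
            simp only [mul_one, mul_assoc]
          · simp at h

theorem conj_sound (t : ℕ) : ∀ l, C.sameT t l = true →
    Tl t * ev Gl (C.qcat l) * (Tl t)⁻¹ = ev Gl (C.pcat l) * zz E C.facts.length (Cert.xs l) := by
  intro l
  induction l with
  | nil => intro _; simp [Cert.qcat, Cert.pcat, Cert.xs, ev_nil, zz_zero]
  | cons m l ih =>
    intro h
    simp only [Cert.sameT, List.all_cons, Bool.and_eq_true, Nat.blt_eq] at h
    obtain ⟨⟨hlt, ht⟩, hl⟩ := h
    have hm := hf m
    rw [FactAt, Nat.eq_of_beq_eq_true ht] at hm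
    have := ih hl
    simp only [Cert.qcat, Cert.pcat, ev_append]
    rw [show Cert.xs (m :: l) = Cert.unit m + Cert.xs l from rfl, zz_add hc, zz_unit hlt]
    calc Tl t * (ev Gl (C.fact m).2.1 * ev Gl (C.qcat l)) * (Tl t)⁻¹
        = (Tl t * ev Gl (C.fact m).2.1 * (Tl t)⁻¹) * (Tl t * ev Gl (C.qcat l) * (Tl t)⁻¹) := by group
      _ = ev Gl (C.fact m).2.2 * (E m * ev Gl (C.pcat l)) * zz E C.facts.length (Cert.xs l) := by
        rw [hm, this]; simp only [mul_assoc]
      _ = _ := by rw [(hc m _).eq]; simp only [mul_assoc]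

theorem form_sound (e : Eqn) (a : ℕ → ℤ) (h : C.form e = some a) : zz E C.facts.length a = 1 := by
  have hs := collect_sound C hc hT hf C.fuel []
  simp only [List.reverse_nil, List.nil_append] at hs
  set N := C.facts.length
  cases e with
  | conj v1 v2 =>
    simp only [Cert.form] at h
    split at h
    · rename_i y1 f1 y2 f2 z1 g1 z2 g2 e1 e2 e3 e4
      split at h
      · rename_i hh
        simp only [Bool.and_eq_true, decide_eq_true_eq] at hh
        obtain ⟨⟨⟨rfl, rfl⟩, ht1⟩, ht2⟩ := hh
        obtain rfl : _ = a := Option.some.inj h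
        set t := (C.fact (v1.getD 0 0)).1
        have key : ∀ v f g, C.collect C.fuel [] (C.qcat v) = some (y1, f) →
            C.collect C.fuel [] (C.pcat v) = some (z1, g) → C.sameT t v = true →
            Tl t * ev Gl y1.reverse * (Tl t)⁻¹ = ev Gl z1.reverse * zz E N (g + Cert.xs v - f) := by
          intro v f g hq hp hv
          have hh := conj_sound C hc hT hf t v hv
          rw [hs _ _ _ hq, hs _ _ _ hp] at hh
          have e : Tl t * (ev Gl y1.reverse * zz E N f) * (Tl t)⁻¹ =
              Tl t * ev Gl y1.reverse * (Tl t)⁻¹ * zz E N f := by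
            rw [← mul_assoc, mul_assoc, (zz_comm hc N f _).eq, ← mul_assoc]
          rw [e, mul_assoc (ev Gl z1.reverse), ← zz_add hc] at hh
          rw [zz_sub hc, ← mul_assoc, ← hh, mul_inv_cancel_right]
        have heq := (key v1 f1 g1 e1 e3 ht1).symm.trans (key v2 f2 g2 e2 e4 ht2)
        rw [zz_sub hc, mul_left_cancel heq, mul_inv_cancel]
      · simp at h
    · simp at h
  | ins pre w post =>
    simp only [Cert.form] at h
    split at h
    · rename_i y f ey
      split at h
      · rename_i a1 f1 a2 f2 e1 e2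
        split at h
        · rename_i heq
          subst heq
          obtain rfl : _ = a := Option.some.inj h
          have k1 := hs _ _ _ e1
          have k2 := hs _ _ _ e2
          rw [ev_append, ev_append, hs _ _ _ ey, ← mul_assoc, mul_assoc _ (zz E N f),
            (zz_comm hc N f _).eq, ← mul_assoc] at k1
          rw [ev_append, ev_append] at k2
          rw [k2, mul_assoc, ← zz_add hc] at k1
          rw [zz_sub hc, ← mul_left_cancel k1, mul_inv_cancel]
        · simp at h
      · simp at h
    · simp at h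

theorem comb_sound : ∀ l a, C.comb l = some a → zz E C.facts.length a = 1 := by
  intro l
  induction l with
  | nil => intro a h; obtain rfl : (fun _ => (0 : ℤ)) = a := Option.some.inj h
           exact zz_zero _
  | cons k l ih =>
    obtain ⟨k, c⟩ := k
    intro a h
    simp only [Cert.comb] at h
    split at h
    · rename_i b d eb ed
      obtain rfl : _ = a := Option.some.inj h
      rw [show (fun m => c * b m + d m) = (fun m => c * b m) + d from rfl, zz_add hc, zz_smul hc,
        form_sound C hc hT hf _ _ eb, ih _ ed, one_zpow, one_mul]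
    · simp at h

omit hT hf in
theorem ev_twist (l : List ℕ) :
    ev (fun k => Gl k * zz E C.facts.length (C.sv k)) l = ev Gl l * zz E C.facts.length (C.sx l) := by
  induction l with
  | nil => simp [ev_nil, Cert.sx, zz_zero]
  | cons k l ih =>
    rw [ev_cons, ev_cons, ih, show C.sx (k :: l) = C.sv k + C.sx l from rfl, zz_add hc,
      (zz_comm hc _ (C.sv k) _).mul_mul_mul_comm]

include hq

/-- The corrected lifts satisfy the relations exactly. -/
theorem rel_sound {i j : ℕ} (h : C.relOK i j = true) :
    ev (fun k => Gl k * zz E C.facts.length (C.sv k)) (C.lhs i j) =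
      ev (fun k => Gl k * zz E C.facts.length (C.sv k)) (C.fact (C.rel i j)).2.2 := by
  simp only [Cert.relOK, Bool.and_eq_true] at h
  obtain ⟨⟨hr, -⟩, hcb⟩ := h
  obtain ⟨hlt, hm⟩ := rel_at C hc hT hf hr
  split at hcb
  · rename_i f ef
    simp only [Cert.same, List.all_eq_true, List.mem_range, decide_eq_true_eq] at hcb
    have ht : zz E C.facts.length (C.target i j) = 1 := by
      rw [zz_congr hq hcb, comb_sound C hc hT hf _ _ ef]
    rw [Cert.target, zz_sub hc, zz_add hc, zz_unit hlt, mul_inv_eq_one] at ht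
    rw [ev_twist C hc, ev_twist C hc, hm, ← ht, mul_assoc]
  · simp at hcb

end Sound

/-- Adjoining a normalising element whose `p`-th power lies inside multiplies the order by at most `p`. -/
theorem card_mul_p {Γ : Type*} [Group Γ] [Finite Γ] (N : Subgroup Γ) {g : Γ} {p : ℕ} (hp : 0 < p)
    (hconj : ∀ a ∈ N, g⁻¹ * a * g ∈ N) (hpow : g ^ p ∈ N) {S : Set Γ} (hS : ∀ x ∈ S, x ∈ N ∨ x = g) :
    Nat.card (closure S) ≤ p * Nat.card N := by
  have hc : ∀ (k : ℕ), ∀ a ∈ N, (g ^ k)⁻¹ * a * g ^ k ∈ N := by
    intro k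
    induction k with
    | zero => intro a ha; simpa using ha
    | succ k ih =>
      intro a ha
      have := hconj _ (ih a ha)
      rwa [show g⁻¹ * ((g ^ k)⁻¹ * a * g ^ k) * g = (g ^ (k + 1))⁻¹ * a * g ^ (k + 1) by rw [pow_succ]; group] at this
  have hmod : ∀ k : ℕ, ∃ c ∈ N, g ^ k = g ^ (k % p) * c := fun k =>
    ⟨(g ^ p) ^ (k / p), pow_mem hpow _, by rw [← pow_mul, ← pow_add, Nat.mod_add_div]⟩
  let M : Submonoid Γ :=
    { carrier := {x | ∃ k : ℕ, ∃ a ∈ N, x = g ^ k * a}
      one_mem' := ⟨0, 1, one_mem N, by simp⟩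
      mul_mem' := by
        rintro _ _ ⟨k, a, ha, rfl⟩ ⟨l, b, hb, rfl⟩
        exact ⟨k + l, (g ^ l)⁻¹ * a * g ^ l * b, mul_mem (hc l a ha) hb, by rw [pow_add]; group⟩ }
  let K : Subgroup Γ :=
    { M with
      inv_mem' := fun {x} hx => by
        have h : x⁻¹ = x ^ (orderOf x - 1) :=
          inv_eq_of_mul_eq_one_right (by rw [← pow_succ', Nat.sub_add_cancel (orderOf_pos x), pow_orderOf_eq_one])
        show x⁻¹ ∈ M
        exact h ▸ Submonoid.pow_mem M hx _ }
  have hle : closure S ≤ K := by
    rw [closure_le]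
    intro x hx
    rcases hS x hx with h | h
    · exact ⟨0, x, h, by simp⟩
    · exact ⟨1, 1, one_mem N, by simp [h]⟩
  have hsurj : Function.Surjective fun q : Fin p × N =>
      (⟨g ^ (q.1 : ℕ) * q.2, (q.1 : ℕ), q.2, q.2.2, rfl⟩ : K) := by
    rintro ⟨x, k, a, ha, rfl⟩
    obtain ⟨c, hcN, e⟩ := hmod k
    exact ⟨(⟨k % p, Nat.mod_lt _ hp⟩, ⟨c * a, mul_mem hcN ha⟩), Subtype.ext (by simp only; rw [e, mul_assoc])⟩
  calc Nat.card (closure S) ≤ Nat.card K := card_le_of_le hle
    _ ≤ Nat.card (Fin p × N) := Nat.card_le_card_of_surjective _ hsurj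
    _ = p * Nat.card N := by simp [Nat.card_prod]

/-- The corrected lifts generate a group of order at most `p ^ n`. -/
theorem card_lift (C : Cert) {Γ : Type*} [Group Γ] [Finite Γ] {Gl Tl : ℕ → Γ} {E : ℕ → Γ}
    (hc : ∀ m g, Commute (E m) g) (hq : ∀ m, E m ^ C.p = 1) (hT : Tl 0 = 1)
    (hf : ∀ m, FactAt C Gl Tl (E := E) m) (h : C.check = true) :
    Nat.card (closure ((fun k => Gl k * zz E C.facts.length (C.sv k)) '' {k | k < C.n})) ≤ C.p ^ C.n := by
  set G' := fun k => Gl k * zz E C.facts.length (C.sv k)
  simp only [Cert.check, Bool.and_eq_true, List.all_eq_true, List.mem_range, Bool.or_eq_true, Nat.blt_eq] at h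
  obtain ⟨hp, h⟩ := h
  have hk : ∀ d ≤ C.n, Nat.card (closure (G' '' {k | C.n - d ≤ k ∧ k < C.n})) ≤ C.p ^ d := by
    intro d hd
    induction d with
    | zero =>
      rw [show {k | C.n - 0 ≤ k ∧ k < C.n} = (∅ : Set ℕ) by ext k; simp, Set.image_empty, Subgroup.closure_empty,
        Subgroup.card_bot, pow_zero]
    | succ d ih =>
      set i := C.n - (d + 1)
      set N := closure (G' '' {k | C.n - d ≤ k ∧ k < C.n})
      have hrel : ∀ j, i ≤ j → j < C.n → C.relOK i j = true := fun j hij hj =>
        (h i (by omega) j hj).resolve_left (by omega)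
      have hin : ∀ x, i < x → x < C.n → G' x ∈ N := fun x h1 h2 =>
        subset_closure ⟨x, ⟨by omega, h2⟩, rfl⟩
      have hev : ∀ l : List ℕ, (∀ x ∈ l, i < x ∧ x < C.n) → ev G' l ∈ N := fun l hl =>
        list_prod_mem (fun y hy => by
          obtain ⟨x, hx, rfl⟩ := List.mem_map.mp hy
          exact hin x (hl x hx).1 (hl x hx).2)
      have hshape : ∀ j, i ≤ j → j < C.n → C.shape i j (C.fact (C.rel i j)).2.2 = true := fun j a b => by
        have := hrel j a b
        simp only [Cert.relOK, Bool.and_eq_true] at this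
        exact this.1.2
      have hpow : G' i ^ C.p ∈ N := by
        have e := rel_sound C hc hq hT hf (hrel i le_rfl (by omega))
        rw [Cert.lhs, if_pos (Nat.beq_refl i)] at e
        rw [show G' i ^ C.p = ev G' (List.replicate C.p i) by simp [ev, List.map_replicate], e]
        refine hev _ fun x hx => ?_
        have := hshape i le_rfl (by omega)
        cases hp' : (C.fact (C.rel i i)).2.2 with
        | nil => simp [hp'] at hx
        | cons b l =>
          rw [hp'] at this hx
          simp only [Cert.shape, Bool.and_eq_true, List.all_eq_true, Nat.blt_eq] at this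
          rw [if_pos (Nat.beq_refl i)] at this
          simp only [Bool.and_eq_true, Nat.blt_eq] at this
          rcases List.mem_cons.mp hx with rfl | hx
          exacts [this.2, this.1 x hx]
      have hconj : ∀ a ∈ N, (G' i)⁻¹ * a * G' i ∈ N := by
        intro a ha
        induction ha using closure_induction with
        | mem y hy =>
          obtain ⟨j, ⟨hj1, hj2⟩, rfl⟩ := hy
          have hne : Nat.beq j i = false := by
            rw [← Bool.not_eq_true]; intro hb; have := Nat.eq_of_beq_eq_true hb; omega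
          have e := rel_sound C hc hq hT hf (hrel j (by omega) hj2)
          rw [Cert.lhs, if_neg (by simp [hne]), ev_cons, ev_cons, ev_nil, mul_one] at e
          have := hshape j (by omega) hj2
          cases hp' : (C.fact (C.rel i j)).2.2 with
          | nil => rw [hp'] at this; simp [Cert.shape, hne] at this
          | cons b l =>
            rw [hp'] at this e
            simp only [Cert.shape, Bool.and_eq_true, List.all_eq_true, Nat.blt_eq, hne] at this
            obtain ⟨hl, hb⟩ := this
            obtain rfl : b = i := Nat.eq_of_beq_eq_true (by simpa using hb)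
            rw [mul_assoc, show G' j * G' i = G' i * ev G' l from e.trans (ev_cons _ _ _), inv_mul_cancel_left]
            exact hev l hl
        | one => simp
        | mul x y _ _ hx hy =>
          rw [show (G' i)⁻¹ * (x * y) * G' i = ((G' i)⁻¹ * x * G' i) * ((G' i)⁻¹ * y * G' i) by group]
          exact mul_mem hx hy
        | inv x _ hx =>
          rw [show (G' i)⁻¹ * x⁻¹ * G' i = ((G' i)⁻¹ * x * G' i)⁻¹ by group]
          exact inv_mem hx
      have := card_mul_p N hp hconj hpow (S := G' '' {k | i ≤ k ∧ k < C.n}) (by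
        rintro _ ⟨k, ⟨hk1, hk2⟩, rfl⟩
        rcases Nat.lt_or_eq_of_le hk1 with hlt | heq
        · exact Or.inl (hin k hlt hk2)
        · exact Or.inr (by rw [heq]))
      calc _ ≤ C.p * Nat.card N := this
        _ ≤ C.p * C.p ^ d := Nat.mul_le_mul_left _ (ih (by omega))
        _ = C.p ^ (d + 1) := by ring
  simpa using hk C.n le_rfl

/-- The certificate splits the preimage of `P`, so transfer kills an exponent `p` kernel at that index. -/
theorem pow_index_eq_one {G : Type v} [Group G] {Γ : Type u} [Group Γ] [Finite Γ] {σ : Γ →* G}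
    (hσ : Cfsg.IsStemExtension σ) (C : Cert) (hexp : ∀ z ∈ σ.ker, z ^ C.p = 1) (hC : C.check = true)
    (g t : ℕ → G) (ht : t 0 = 1)
    (hfacts : ∀ m < C.facts.length, t (C.fact m).1 * ev g (C.fact m).2.1 * (t (C.fact m).1)⁻¹ = ev g (C.fact m).2.2)
    (hcard : C.p ^ C.n ≤ Nat.card (closure (g '' {k | k < C.n}))) {z : Γ} (hz : z ∈ σ.ker) :
    z ^ (closure (g '' {k | k < C.n})).index = 1 := by
  classical
  haveI : Finite G := Finite.of_surjective σ hσ.1
  let Gl : ℕ → Γ := fun k => Function.surjInv hσ.1 (g k)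
  let Tl : ℕ → Γ := fun k => if k = 0 then 1 else Function.surjInv hσ.1 (t k)
  let E : ℕ → Γ := fun m => (ev Gl (C.fact m).2.2)⁻¹ *
    (Tl (C.fact m).1 * ev Gl (C.fact m).2.1 * (Tl (C.fact m).1)⁻¹)
  have hG : ∀ k, σ (Gl k) = g k := fun k => Function.surjInv_eq hσ.1 _
  have hTl : ∀ k, σ (Tl k) = t k := fun k => by
    by_cases hk : k = 0
    · simp [Tl, hk, ht]
    · simp [Tl, hk, Function.surjInv_eq hσ.1]
  have hev : ∀ l, σ (ev Gl l) = ev g l := fun l => by rw [map_ev]; simp only [hG]
  have hE : ∀ m, E m ∈ σ.ker := by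
    intro m
    rw [MonoidHom.mem_ker]
    simp only [E, map_mul, map_inv, hev, hTl]
    by_cases hm : m < C.facts.length
    · rw [hfacts m hm, inv_mul_cancel]
    · have hd : C.fact m = (0, [], []) := List.getD_eq_default _ _ (not_lt.mp hm)
      simp [hd, ev_nil, ht]
  have hc : ∀ m x, Commute (E m) x := fun m x => (mem_center_iff.mp (hσ.2.1 (hE m)) x).symm
  have h2 : ∀ m, E m ^ C.p = 1 := fun m => hexp _ (hE m)
  have hf : ∀ m, FactAt C Gl Tl (E := E) m := fun m => (mul_inv_cancel_left _ _).symm
  set G' := fun k => Gl k * zz E C.facts.length (C.sv k)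
  have hle := card_lift C hc h2 (by simp [Tl]) hf hC
  set L := closure (G' '' {k | k < C.n}) with hL
  set P := closure (g '' {k | k < C.n}) with hP
  have hzk : ∀ N f, zz E N f ∈ σ.ker := by
    intro N f
    induction N with
    | zero => exact one_mem _
    | succ N ih => exact mul_mem ih (zpow_mem (hE N) _)
  have hG' : ∀ k, σ (G' k) = g k := fun k => by simp [G', hG, MonoidHom.mem_ker.mp (hzk _ _)]
  have hmap : L.map σ = P := by
    rw [hL, hP, MonoidHom.map_closure, Set.image_image]; simp only [hG']
  have hinj : ∀ x ∈ L, σ x = 1 → x = 1 := by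
    have hsurj : Function.Surjective fun x : L => (⟨σ x, hmap ▸ mem_map_of_mem σ x.2⟩ : P) := by
      rintro ⟨y, hy⟩
      rw [← hmap] at hy
      obtain ⟨x, hx, rfl⟩ := hy
      exact ⟨⟨x, hx⟩, rfl⟩
    have hb := (Nat.bijective_iff_surjective_and_card _).mpr
      ⟨hsurj, le_antisymm (hle.trans hcard) (Nat.card_le_card_of_surjective _ hsurj)⟩
    intro x hx h1
    have := @hb.1 ⟨x, hx⟩ ⟨1, one_mem L⟩ (Subtype.ext (by simp [h1]))
    exact congrArg Subtype.val this
  obtain ⟨hmem, hcm⟩ := CfsgLib.StSL.pow_index_mem hσ P hz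
  have hcom : commutator (P.comap σ) ≤ L.subgroupOf (P.comap σ) := by
    rw [_root_.commutator_def, commutator_le]
    rintro ⟨a, ha⟩ - ⟨b, hb⟩ -
    have hdec : ∀ a ∈ P.comap σ, ∃ l ∈ L, σ a = σ l := by
      intro a ha
      rw [mem_comap, ← hmap] at ha
      obtain ⟨l, hl, he⟩ := ha
      exact ⟨l, hl, he.symm⟩
    obtain ⟨la, hla, ea⟩ := hdec a ha
    obtain ⟨lb, hlb, eb⟩ := hdec b hb
    rw [mem_subgroupOf]
    show ⁅a, b⁆ ∈ L
    rw [CfsgLib.StSL.comm_congr hσ.2.1 ea eb]
    exact mul_mem (mul_mem (mul_mem hla hlb) (inv_mem hla)) (inv_mem hlb)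
  exact hinj _ (mem_subgroupOf.mp (hcom hcm)) (MonoidHom.mem_ker.mp (pow_mem hz _))

/-- When the index is prime to `p`, an exponent `p` kernel is trivial, so the kernel has no `p`-torsion. -/
theorem no_torsion {G : Type v} [Group G] {Γ : Type u} [Group Γ] [Finite Γ] {σ : Γ →* G}
    (hσ : Cfsg.IsStemExtension σ) {p : ℕ} (hp : p.Prime)
    (h : ∀ (Δ : Type u) [Group Δ] [Finite Δ] (τ : Δ →* G), Cfsg.IsStemExtension τ →
      (∀ z ∈ τ.ker, z ^ p = 1) → τ.ker = ⊥) {z : Γ} (hz : z ∈ σ.ker) (hzp : z ^ p = 1) : z = 1 := by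
  obtain ⟨z₀, hz₀, ⟨w, hw, hwle⟩, hall⟩ := CollectMod.mod_pow hσ p 1 fun Δ _ _ τ hτ he => by
    refine ⟨1, one_mem _, one_pow _, ?_⟩
    rw [h Δ τ hτ he]
    exact bot_le
  have hsurj : ∀ x ∈ σ.ker, ∃ y ∈ σ.ker, x = y ^ p := by
    rw [pow_one] at hwle
    intro x hx
    obtain ⟨k, y, hy, e⟩ := hall x hx
    refine ⟨w ^ k * y, mul_mem (zpow_mem hw k) hy, ?_⟩
    have hc : Commute (w ^ k) y := mem_center_iff.mp (hσ.2.1 hy) _
    rw [hc.mul_pow, e, hwle, ← zpow_natCast (w ^ k), ← zpow_natCast w, ← zpow_mul, ← zpow_mul, mul_comm]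
  let f : σ.ker → σ.ker := fun y => y ^ p
  have hinj : Function.Injective f := Finite.injective_iff_surjective.mpr fun x => by
    obtain ⟨y, hy, e⟩ := hsurj x x.2
    exact ⟨⟨y, hy⟩, Subtype.ext e.symm⟩
  exact congrArg Subtype.val (@hinj ⟨z, hz⟩ 1 (Subtype.ext (by simpa [f] using hzp)))

end CfsgLib.StemSylow.CollectP
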