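/-
Kernel checks for the tables of the plus-type group on 120 points and its cover on 480 points.
-/
import Cfsg.Agent.Lib.StemSylow.OEightData
import Cfsg.Agent.Lib.PermChain.Closed

set_option autoImplicit false
set_option maxRecDepth 30000
set_option maxHeartbeats 1000000

namespace CfsgLib.StemSylow.OEightData

open CfsgPC

theorem perm_ok : (smallGens.all fun c => isPerm 120 c.1 c.2) = true ∧
    (coverGens.all fun c => isPerm 480 c.1 c.2) = true ∧ smallGens.length = 2 ∧ coverGens.length = 2 := by decide +kernel

theorem smallWords_ok : memOK 120 smallChain smallWords = true ∧ smallWords.length = 4 ∧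
    ((List.range 2).all fun a => (List.range 120).all fun i =>
      Nat.beq (ap (smallWords.getD (2 * a) (0, 0)).1 (ap (smallWords.getD (2 * a + 1) (0, 0)).1
        (ap (smallWords.getD (2 * a) (0, 0)).2 (ap (smallWords.getD (2 * a + 1) (0, 0)).2 i))))
        (ap (smallGens.getD a (0, 0)).1 i)) = true := by decide +kernel

theorem coverWords_ok : memOK 480 coverChain coverWords = true ∧ coverWords.length = 4 ∧
    ((List.range 2).all fun a => (List.range 480).all fun i =>
      Nat.beq (ap (coverWords.getD (2 * a) (0, 0)).1 (ap (coverWords.getD (2 * a + 1) (0, 0)).1
        (ap (coverWords.getD (2 * a) (0, 0)).2 (ap (coverWords.getD (2 * a + 1) (0, 0)).2 i))))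
        (ap (coverGens.getD a (0, 0)).1 i)) = true := by decide +kernel

/-- The block map carries the cover's generators to the small ones. -/
theorem proj_ok : ((List.range 2).all fun a => (List.range 240).all fun i =>
    Nat.blt (ap (coverGens.getD a (0, 0)).1 i) 240 &&
      Nat.beq (blk.getD (ap (coverGens.getD a (0, 0)).1 i) 0) (ap (smallGens.getD a (0, 0)).1 (blk.getD i 0))) = true ∧
    ((List.range 240).all fun i => Nat.blt (blk.getD i 0) 120) = true ∧
    ((List.range 120).all fun b => Nat.blt (blkRep.getD b 0) 240 && Nat.beq (blk.getD (blkRep.getD b 0) 0) b) = true := by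
  decide +kernel

theorem z_ok : memOK 480 coverChain zCodes = true ∧ zCodes.length = 2 ∧
    ((List.range 240).all fun i => Nat.beq (blk.getD (ap (zCodes.getD 0 (0, 0)).1 i) 0) (blk.getD i 0) &&
      Nat.beq (ap (zCodes.getD 1 (0, 0)).1 i) i) = true ∧
    Nat.beq (ap (zCodes.getD 0 (0, 0)).1 0) 0 = false ∧
    Nat.beq (ap (zCodes.getD 1 (0, 0)).1 240) 240 = false ∧
    Nat.beq (ap (zCodes.getD 0 (0, 0)).1 240) 240 = true ∧
    ((List.range 480).all fun i => zCodes.all fun z => Nat.beq (ap z.1 (ap z.1 i)) i) = true ∧
    ((List.range 480).all fun i => zCodes.all fun z => coverGens.all fun g =>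
      Nat.beq (ap g.1 (ap z.1 i)) (ap z.1 (ap g.1 i))) = true := by decide +kernel

theorem small_shape : shapeOK 120 smallChain (smallGens.map Prod.fst) = true ∧ smallChain.length = 7 ∧
    (smallChain.map fun L => L.tr.length) = [120, 63, 30, 12, 8, 4, 2] ∧ sizeOfChain smallChain = 174182400 := by
  decide +kernel

theorem small_entries : ((List.range 7).all fun j => entriesOK 120 smallChain (smallGens.map Prod.fst) j 0
    ([120, 63, 30, 12, 8, 4, 2].getD j 0)) = true := by decide +kernel

theorem cover_shape : shapeOK 480 coverChain (coverGens.map Prod.fst) = true ∧ coverChain.length = 7 ∧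
    (coverChain.map fun L => L.tr.length) = [240, 56, 27, 16, 10, 6, 2] ∧ sizeOfChain coverChain = 696729600 ∧
    ((gensAt 480 coverChain (coverGens.map Prod.fst) 7).all fun c => (List.range 480).all fun i => Nat.beq (ap c i) i) = true := by
  decide +kernel

theorem cover_entries0_0 : entriesOK 480 coverChain (coverGens.map Prod.fst) 0 0 40 = true := by decide +kernel

theorem cover_entries0_40 : entriesOK 480 coverChain (coverGens.map Prod.fst) 0 40 80 = true := by decide +kernel

theorem cover_entries0_80 : entriesOK 480 coverChain (coverGens.map Prod.fst) 0 80 120 = true := by decide +kernel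

theorem cover_entries0_120 : entriesOK 480 coverChain (coverGens.map Prod.fst) 0 120 160 = true := by decide +kernel

theorem cover_entries0_160 : entriesOK 480 coverChain (coverGens.map Prod.fst) 0 160 200 = true := by decide +kernel

theorem cover_entries0_200 : entriesOK 480 coverChain (coverGens.map Prod.fst) 0 200 240 = true := by decide +kernel

theorem cover_closed0_0 : closedOK 480 coverChain (coverGens.map Prod.fst) 0 0 20 = true := by decide +kernel

theorem cover_closed0_20 : closedOK 480 coverChain (coverGens.map Prod.fst) 0 20 40 = true := by decide +kernel

theorem cover_closed0_40 : closedOK 480 coverChain (coverGens.map Prod.fst) 0 40 60 = true := by decide +kernel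

theorem cover_closed0_60 : closedOK 480 coverChain (coverGens.map Prod.fst) 0 60 80 = true := by decide +kernel

theorem cover_closed0_80 : closedOK 480 coverChain (coverGens.map Prod.fst) 0 80 100 = true := by decide +kernel

theorem cover_closed0_100 : closedOK 480 coverChain (coverGens.map Prod.fst) 0 100 120 = true := by decide +kernel

theorem cover_closed0_120 : closedOK 480 coverChain (coverGens.map Prod.fst) 0 120 140 = true := by decide +kernel

theorem cover_closed0_140 : closedOK 480 coverChain (coverGens.map Prod.fst) 0 140 160 = true := by decide +kernel

theorem cover_closed0_160 : closedOK 480 coverChain (coverGens.map Prod.fst) 0 160 180 = true := by decide +kernel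

theorem cover_closed0_180 : closedOK 480 coverChain (coverGens.map Prod.fst) 0 180 200 = true := by decide +kernel

theorem cover_closed0_200 : closedOK 480 coverChain (coverGens.map Prod.fst) 0 200 220 = true := by decide +kernel

theorem cover_closed0_220 : closedOK 480 coverChain (coverGens.map Prod.fst) 0 220 240 = true := by decide +kernel

theorem cover_entries1_0 : entriesOK 480 coverChain (coverGens.map Prod.fst) 1 0 40 = true := by decide +kernel

theorem cover_entries1_40 : entriesOK 480 coverChain (coverGens.map Prod.fst) 1 40 56 = true := by decide +kernel

theorem cover_closed1_0 : closedOK 480 coverChain (coverGens.map Prod.fst) 1 0 20 = true := by decide +kernel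

theorem cover_closed1_20 : closedOK 480 coverChain (coverGens.map Prod.fst) 1 20 40 = true := by decide +kernel

theorem cover_closed1_40 : closedOK 480 coverChain (coverGens.map Prod.fst) 1 40 56 = true := by decide +kernel

theorem cover_entries2_0 : entriesOK 480 coverChain (coverGens.map Prod.fst) 2 0 27 = true := by decide +kernel

theorem cover_closed2_0 : closedOK 480 coverChain (coverGens.map Prod.fst) 2 0 20 = true := by decide +kernel

theorem cover_closed2_20 : closedOK 480 coverChain (coverGens.map Prod.fst) 2 20 27 = true := by decide +kernel

theorem cover_entries3_0 : entriesOK 480 coverChain (coverGens.map Prod.fst) 3 0 16 = true := by decide +kernel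

theorem cover_closed3_0 : closedOK 480 coverChain (coverGens.map Prod.fst) 3 0 16 = true := by decide +kernel

theorem cover_entries4_0 : entriesOK 480 coverChain (coverGens.map Prod.fst) 4 0 10 = true := by decide +kernel

theorem cover_closed4_0 : closedOK 480 coverChain (coverGens.map Prod.fst) 4 0 10 = true := by decide +kernel

theorem cover_entries5_0 : entriesOK 480 coverChain (coverGens.map Prod.fst) 5 0 6 = true := by decide +kernel

theorem cover_closed5_0 : closedOK 480 coverChain (coverGens.map Prod.fst) 5 0 6 = true := by decide +kernel

theorem cover_entries6_0 : entriesOK 480 coverChain (coverGens.map Prod.fst) 6 0 2 = true := by decide +kernel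

theorem cover_closed6_0 : closedOK 480 coverChain (coverGens.map Prod.fst) 6 0 2 = true := by decide +kernel

theorem cover_table : TableOK 480 coverChain (coverGens.map Prod.fst) ∧
    ∀ j < coverChain.length, ∀ k < (coverChain.getD j ⟨0, [], [], []⟩).tr.length,
      ∀ g ∈ gensAt 480 coverChain (coverGens.map Prod.fst) j,
      (coverChain.getD j ⟨0, [], [], []⟩).findsOK (ap g ((coverChain.getD j ⟨0, [], [], []⟩).pt k)) = true ∧
        sift 480 (coverChain.drop (j + 1)) ((coverChain.getD j ⟨0, [], [], []⟩).schreier 480 g k) = true := by
  obtain ⟨hs, hl, hlens, -⟩ := cover_shape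
  have hlen : ∀ j, j < coverChain.length → ∀ k < (coverChain.getD j ⟨0, [], [], []⟩).tr.length,
      k < [240, 56, 27, 16, 10, 6, 2].getD j 0 := fun j hj k hk => by
    rw [← hlens, List.getD_eq_getElem _ _ (by simpa using hj), List.getElem_map]
    rwa [List.getD_eq_getElem _ _ hj] at hk
  refine ⟨tableOK_of_checks hs fun j hj k hk => ?_, fun j hj k hk => ?_⟩
  · have hk' := hlen j hj k hk
    rw [hl] at hj
    clear hk hlen
    interval_cases j
    · replace hk' : k < 240 := hk'
      by_cases h0 : k < 40
      · exact of_entriesOK cover_entries0_0 (by omega) h0
      by_cases h40 : k < 80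
      · exact of_entriesOK cover_entries0_40 (by omega) h40
      by_cases h80 : k < 120
      · exact of_entriesOK cover_entries0_80 (by omega) h80
      by_cases h120 : k < 160
      · exact of_entriesOK cover_entries0_120 (by omega) h120
      by_cases h160 : k < 200
      · exact of_entriesOK cover_entries0_160 (by omega) h160
      exact of_entriesOK cover_entries0_200 (by omega) hk'
    · replace hk' : k < 56 := hk'
      by_cases h0 : k < 40
      · exact of_entriesOK cover_entries1_0 (by omega) h0
      exact of_entriesOK cover_entries1_40 (by omega) hk'
    · replace hk' : k < 27 := hk'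
      exact of_entriesOK cover_entries2_0 (by omega) hk'
    · replace hk' : k < 16 := hk'
      exact of_entriesOK cover_entries3_0 (by omega) hk'
    · replace hk' : k < 10 := hk'
      exact of_entriesOK cover_entries4_0 (by omega) hk'
    · replace hk' : k < 6 := hk'
      exact of_entriesOK cover_entries5_0 (by omega) hk'
    · replace hk' : k < 2 := hk'
      exact of_entriesOK cover_entries6_0 (by omega) hk'
  · have hk' := hlen j hj k hk
    rw [hl] at hj
    clear hk hlen
    interval_cases j
    · replace hk' : k < 240 := hk'
      by_cases h0 : k < 20
      · exact of_closedOK cover_closed0_0 (by omega) h0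
      by_cases h20 : k < 40
      · exact of_closedOK cover_closed0_20 (by omega) h20
      by_cases h40 : k < 60
      · exact of_closedOK cover_closed0_40 (by omega) h40
      by_cases h60 : k < 80
      · exact of_closedOK cover_closed0_60 (by omega) h60
      by_cases h80 : k < 100
      · exact of_closedOK cover_closed0_80 (by omega) h80
      by_cases h100 : k < 120
      · exact of_closedOK cover_closed0_100 (by omega) h100
      by_cases h120 : k < 140
      · exact of_closedOK cover_closed0_120 (by omega) h120
      by_cases h140 : k < 160
      · exact of_closedOK cover_closed0_140 (by omega) h140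
      by_cases h160 : k < 180
      · exact of_closedOK cover_closed0_160 (by omega) h160
      by_cases h180 : k < 200
      · exact of_closedOK cover_closed0_180 (by omega) h180
      by_cases h200 : k < 220
      · exact of_closedOK cover_closed0_200 (by omega) h200
      exact of_closedOK cover_closed0_220 (by omega) hk'
    · replace hk' : k < 56 := hk'
      by_cases h0 : k < 20
      · exact of_closedOK cover_closed1_0 (by omega) h0
      by_cases h20 : k < 40
      · exact of_closedOK cover_closed1_20 (by omega) h20
      exact of_closedOK cover_closed1_40 (by omega) hk'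
    · replace hk' : k < 27 := hk'
      by_cases h0 : k < 20
      · exact of_closedOK cover_closed2_0 (by omega) h0
      exact of_closedOK cover_closed2_20 (by omega) hk'
    · replace hk' : k < 16 := hk'
      exact of_closedOK cover_closed3_0 (by omega) hk'
    · replace hk' : k < 10 := hk'
      exact of_closedOK cover_closed4_0 (by omega) hk'
    · replace hk' : k < 6 := hk'
      exact of_closedOK cover_closed5_0 (by omega) hk'
    · replace hk' : k < 2 := hk'
      exact of_closedOK cover_closed6_0 (by omega) hk'

end CfsgLib.StemSylow.OEightData
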