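/-
Kernel checks for the Sylow collectors of the plus-type group on 120 points.
-/
import Cfsg.Agent.Lib.StemSylow.OEightData
import Cfsg.Agent.Lib.StemSylow.OEightSylowData

set_option autoImplicit false
set_option maxRecDepth 30000
set_option maxHeartbeats 1000000

namespace CfsgLib.StemSylow.OEightData

open CfsgPC CfsgLib.StemSylow

theorem cyc_ok : memOK 120 smallChain [cycSeven] = true ∧
    ((List.range 120).all fun i => Nat.beq (apN cycSeven.1 7 i) i) = true ∧
    ((List.range 120).all fun i => Nat.beq (ap cycSeven.1 i) i) = false := by decide +kernel

theorem memTwo : memOK 120 smallChain (gcTwo ++ tcTwo) = true := by decide +kernel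

theorem factsTwo : factsB smallChain certTwo.facts (gcTwo.map Prod.fst) (tcTwo.map Prod.fst) = true := by decide +kernel

theorem subTwo_shape : shapeOK 120 subTwo (gcTwo.map Prod.fst) = true ∧ subTwo.length = 4 ∧
    (subTwo.map fun L => L.tr.length) = [16, 32, 2, 4] ∧ sizeOfChain subTwo = 4096 ∧
    (tcTwo.map Prod.fst).head? = some (idk 120) ∧ gcTwo.length = certTwo.n := by decide +kernel

theorem subTwo_entries : ((List.range 4).all fun j => entriesOK 120 subTwo (gcTwo.map Prod.fst) j 0 ([16, 32, 2, 4].getD j 0)) = true := by decide +kernel

theorem eqsTwo0 : ((List.range 12).all fun d => certTwo.eqOK (0 + d)) = true := by decide +kernel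

theorem eqsTwo12 : ((List.range 12).all fun d => certTwo.eqOK (12 + d)) = true := by decide +kernel

theorem eqsTwo24 : ((List.range 12).all fun d => certTwo.eqOK (24 + d)) = true := by decide +kernel

theorem eqsTwo36 : ((List.range 12).all fun d => certTwo.eqOK (36 + d)) = true := by decide +kernel

theorem eqsTwo48 : ((List.range 12).all fun d => certTwo.eqOK (48 + d)) = true := by decide +kernel

theorem eqsTwo60 : ((List.range 12).all fun d => certTwo.eqOK (60 + d)) = true := by decide +kernel

theorem eqsTwo72 : ((List.range 11).all fun d => certTwo.eqOK (72 + d)) = true := by decide +kernel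

theorem eqsTwo_len : certTwo.eqs.length = 83 ∧ certTwo.exOK = true := by decide +kernel

theorem eqsTwo_ok : ∀ k < certTwo.eqs.length, certTwo.eqOK k = true := by
  intro k hk
  rw [eqsTwo_len.1] at hk
  by_cases h0 : k < 12
  · have := List.all_eq_true.mp eqsTwo0 (k - 0) (List.mem_range.mpr (by omega))
    rwa [show 0 + (k - 0) = k by omega] at this
  by_cases h12 : k < 24
  · have := List.all_eq_true.mp eqsTwo12 (k - 12) (List.mem_range.mpr (by omega))
    rwa [show 12 + (k - 12) = k by omega] at this
  by_cases h24 : k < 36
  · have := List.all_eq_true.mp eqsTwo24 (k - 24) (List.mem_range.mpr (by omega))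
    rwa [show 24 + (k - 24) = k by omega] at this
  by_cases h36 : k < 48
  · have := List.all_eq_true.mp eqsTwo36 (k - 36) (List.mem_range.mpr (by omega))
    rwa [show 36 + (k - 36) = k by omega] at this
  by_cases h48 : k < 60
  · have := List.all_eq_true.mp eqsTwo48 (k - 48) (List.mem_range.mpr (by omega))
    rwa [show 48 + (k - 48) = k by omega] at this
  by_cases h60 : k < 72
  · have := List.all_eq_true.mp eqsTwo60 (k - 60) (List.mem_range.mpr (by omega))
    rwa [show 60 + (k - 60) = k by omega] at this
  have := List.all_eq_true.mp eqsTwo72 (k - 72) (List.mem_range.mpr (by omega))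
  rwa [show 72 + (k - 72) = k by omega] at this

theorem relTwo0 : ((List.range 12).all fun j => Nat.blt j 0 || certTwo.relOK 0 j) = true := by decide +kernel

theorem relTwo1 : ((List.range 12).all fun j => Nat.blt j 1 || certTwo.relOK 1 j) = true := by decide +kernel

theorem relTwo2 : ((List.range 12).all fun j => Nat.blt j 2 || certTwo.relOK 2 j) = true := by decide +kernel

theorem relTwo3 : ((List.range 12).all fun j => Nat.blt j 3 || certTwo.relOK 3 j) = true := by decide +kernel

theorem relTwo4 : ((List.range 12).all fun j => Nat.blt j 4 || certTwo.relOK 4 j) = true := by decide +kernel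

theorem relTwo5 : ((List.range 12).all fun j => Nat.blt j 5 || certTwo.relOK 5 j) = true := by decide +kernel

theorem relTwo6 : ((List.range 12).all fun j => Nat.blt j 6 || certTwo.relOK 6 j) = true := by decide +kernel

theorem relTwo7 : ((List.range 12).all fun j => Nat.blt j 7 || certTwo.relOK 7 j) = true := by decide +kernel

theorem relTwo8 : ((List.range 12).all fun j => Nat.blt j 8 || certTwo.relOK 8 j) = true := by decide +kernel

theorem relTwo9 : ((List.range 12).all fun j => Nat.blt j 9 || certTwo.relOK 9 j) = true := by decide +kernel

theorem relTwo10 : ((List.range 12).all fun j => Nat.blt j 10 || certTwo.relOK 10 j) = true := by decide +kernel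

theorem relTwo11 : ((List.range 12).all fun j => Nat.blt j 11 || certTwo.relOK 11 j) = true := by decide +kernel

theorem memThree : memOK 120 smallChain (gcThree ++ tcThree) = true := by decide +kernel

theorem factsThree : factsB smallChain certThree.facts (gcThree.map Prod.fst) (tcThree.map Prod.fst) = true := by decide +kernel

theorem subThree_shape : shapeOK 120 subThree (gcThree.map Prod.fst) = true ∧ subThree.length = 2 ∧
    (subThree.map fun L => L.tr.length) = [81, 3] ∧ sizeOfChain subThree = 243 ∧
    (tcThree.map Prod.fst).head? = some (idk 120) ∧ gcThree.length = certThree.n := by decide +kernel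

theorem subThree_entries : ((List.range 2).all fun j => entriesOK 120 subThree (gcThree.map Prod.fst) j 0 ([81, 3].getD j 0)) = true := by decide +kernel

theorem certThree_ok : certThree.check = true := by decide +kernel

theorem memFive : memOK 120 smallChain (gcFive ++ tcFive) = true := by decide +kernel

theorem factsFive : factsB smallChain certFive.facts (gcFive.map Prod.fst) (tcFive.map Prod.fst) = true := by decide +kernel

theorem subFive_shape : shapeOK 120 subFive (gcFive.map Prod.fst) = true ∧ subFive.length = 1 ∧
    (subFive.map fun L => L.tr.length) = [25] ∧ sizeOfChain subFive = 25 ∧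
    (tcFive.map Prod.fst).head? = some (idk 120) ∧ gcFive.length = certFive.n := by decide +kernel

theorem subFive_entries : ((List.range 1).all fun j => entriesOK 120 subFive (gcFive.map Prod.fst) j 0 ([25].getD j 0)) = true := by decide +kernel

theorem certFive_ok : certFive.check = true := by decide +kernel

end CfsgLib.StemSylow.OEightData
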