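/-
The multiplier of PΩ⁺(8, 2) is a four-group.
-/
import Cfsg.Prelude.Def_Classical
import Cfsg.Agent.S0293
import Cfsg.Agent.Lib.StemSylow.OEightChecks
import Cfsg.Agent.Lib.StemSylow.OEightSylowChecks
import Cfsg.Agent.Lib.PermChain.Schur

set_option autoImplicit false
set_option maxRecDepth 30000
set_option linter.unusedSectionVars false
set_option linter.style.haveILetI false

namespace CfsgLib.StemSylow.OEight

open Equiv Subgroup Matrix CfsgPC OEightData
open scoped commutatorElement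

universe u

attribute [local irreducible] smallChain coverChain subTwo subThree subFive gcTwo tcTwo gcThree tcThree gcFive tcFive
  smallGens coverGens smallWords coverWords zCodes cycSeven blk blkRep vecPts vecPos

abbrev F2 := ZMod 2

abbrev VecEight := Fin 4 ⊕ Fin 4 → F2

abbrev Q8 : VecEight → F2 := Cfsg.quadFormPlus 4 F2

abbrev OGrp := ↥(Cfsg.isometryGroup F2 Q8)

/-- The vector of a code. -/
def vec (c : ℕ) : VecEight := fun s => if c.testBit (finSumFinEquiv s : Fin 8) then 1 else 0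

/-- The code of eight bits. -/
def cd8 (a b c d e f g h : F2) : ℕ :=
  a.val + 2 * b.val + 4 * c.val + 8 * d.val + 16 * e.val + 32 * f.val + 64 * g.val + 128 * h.val

/-- The code of a vector. -/
def cd (v : VecEight) : ℕ :=
  cd8 (v (.inl 0)) (v (.inl 1)) (v (.inl 2)) (v (.inl 3)) (v (.inr 0)) (v (.inr 1)) (v (.inr 2)) (v (.inr 3))

theorem cd8_spec : ∀ a b c d e f g h : F2, cd8 a b c d e f g h < 256 ∧ vec (cd8 a b c d e f g h) (.inl 0) = a ∧
    vec (cd8 a b c d e f g h) (.inl 1) = b ∧ vec (cd8 a b c d e f g h) (.inl 2) = c ∧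
    vec (cd8 a b c d e f g h) (.inl 3) = d ∧ vec (cd8 a b c d e f g h) (.inr 0) = e ∧
    vec (cd8 a b c d e f g h) (.inr 1) = f ∧ vec (cd8 a b c d e f g h) (.inr 2) = g ∧
    vec (cd8 a b c d e f g h) (.inr 3) = h := by decide +kernel

theorem vec_cd (v : VecEight) : vec (cd v) = v := by
  obtain ⟨-, h0, h1, h2, h3, h4, h5, h6, h7⟩ := cd8_spec (v (.inl 0)) (v (.inl 1)) (v (.inl 2)) (v (.inl 3))
    (v (.inr 0)) (v (.inr 1)) (v (.inr 2)) (v (.inr 3))
  funext s
  rcases s with i | i <;> fin_cases i <;> assumption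

theorem cd_lt (v : VecEight) : cd v < 256 := (cd8_spec _ _ _ _ _ _ _ _).1

theorem pts_ok : (∀ c < 256, Q8 (vec c) = 1 → vecPts.getD (vecPos.getD c 0) 0 = c ∧ vecPos.getD c 0 < 120) ∧
    (∀ i < 120, Q8 (vec (vecPts.getD i 0)) = 1 ∧ cd (vec (vecPts.getD i 0)) = vecPts.getD i 0 ∧
      vecPos.getD (vecPts.getD i 0) 0 = i) := by decide +kernel

theorem single_sum : ∀ s : Fin 4 ⊕ Fin 4,
    (vecPts.any fun a => vecPts.any fun b => decide (∀ t, vec a t + vec b t = (Pi.single s 1 : VecEight) t)) = true := by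
  decide +kernel

/-- The non-singular vectors are numbered. -/
def pts : {v : VecEight // Q8 v = 1} ≃ Fin 120 where
  toFun v := ⟨vecPos.getD (cd v.1) 0, (pts_ok.1 _ (cd_lt _) (by rw [vec_cd]; exact v.2)).2⟩
  invFun i := ⟨vec (vecPts.getD i 0), (pts_ok.2 i i.2).1⟩
  left_inv v := Subtype.ext (by
    show vec (vecPts.getD (vecPos.getD (cd v.1) 0) 0) = v.1
    rw [(pts_ok.1 _ (cd_lt _) (by rw [vec_cd]; exact v.2)).1, vec_cd])
  right_inv i := Fin.ext (by
    show vecPos.getD (cd (vec (vecPts.getD i 0))) 0 = i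
    rw [(pts_ok.2 i i.2).2.1, (pts_ok.2 i i.2).2.2])

theorem mulVec_one (g : OGrp) {v : VecEight} (hv : Q8 v = 1) : Q8 (g.1.1 *ᵥ v) = 1 := (g.2 v v).trans hv

/-- The action on non-singular vectors. -/
def act : OGrp →* Perm {v : VecEight // Q8 v = 1} where
  toFun g :=
    { toFun := fun v => ⟨g.1.1 *ᵥ v.1, mulVec_one g v.2⟩
      invFun := fun v => ⟨(g⁻¹ : OGrp).1.1 *ᵥ v.1, mulVec_one g⁻¹ v.2⟩
      left_inv := fun v => Subtype.ext (by simp [mulVec_mulVec, ← Units.val_mul])
      right_inv := fun v => Subtype.ext (by simp [mulVec_mulVec, ← Units.val_mul]) }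
  map_one' := Equiv.ext fun v => Subtype.ext (by simp)
  map_mul' g h := Equiv.ext fun v => Subtype.ext (by simp [mulVec_mulVec])

/-- The action on 120 points. -/
noncomputable def phi : OGrp →* Perm (Fin 120) := (pts.permCongrHom).toMonoidHom.comp act

theorem phi_apply (g : OGrp) (i : Fin 120) :
    (phi g i : ℕ) = vecPos.getD (cd (g.1.1 *ᵥ vec (vecPts.getD i 0))) 0 := rfl

theorem phi_injective : Function.Injective phi := by
  intro g h e
  have e' : act g = act h := (pts.permCongrHom).injective e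
  have hv : ∀ c ∈ vecPts, g.1.1 *ᵥ vec c = h.1.1 *ᵥ vec c := fun c hc => by
    obtain ⟨i, hi, rfl⟩ := List.getElem_of_mem hc
    have hlen : vecPts.length = 120 := by
      unfold vecPts
      rfl
    have hq := (pts_ok.2 i (hlen ▸ hi)).1
    rw [List.getD_eq_getElem _ _ hi] at hq
    exact congrArg Subtype.val (Equiv.congr_fun e' ⟨_, hq⟩)
  refine Subtype.ext (Units.ext (Matrix.ext_of_mulVec_single fun s => ?_))
  have hs := single_sum s
  simp only [List.any_eq_true, decide_eq_true_eq] at hs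
  obtain ⟨a, ha, b, hb, hab⟩ := hs
  rw [show (Pi.single s 1 : VecEight) = vec a + vec b from funext fun t => (hab t).symm, mulVec_add, mulVec_add,
    hv a ha, hv b hb]

/-- The matrix with the given columns. -/
def matOf (cols : List ℕ) : Matrix (Fin 4 ⊕ Fin 4) (Fin 4 ⊕ Fin 4) F2 :=
  fun i j => vec (cols.getD (finSumFinEquiv j : Fin 8) 0) i

theorem mat_inv : ∀ a : Fin 2, matOf (matCols.getD a []) * matOf (matInv.getD a []) = 1 ∧
    matOf (matInv.getD a []) * matOf (matCols.getD a []) = 1 := by decide +kernel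

theorem mat_keeps : ∀ a : Fin 2, ∀ c : Fin 256, Q8 (matOf (matCols.getD a []) *ᵥ vec c) = Q8 (vec c) := by
  decide +kernel

theorem mat_act : ∀ a : Fin 2, ∀ i : Fin 120,
    cd (matOf (matCols.getD a []) *ᵥ vec (vecPts.getD i 0)) =
      vecPts.getD (ap (smallGens.getD a (0, 0)).1 i) 0 := by decide +kernel

theorem valid_small : Valid 120 (smallGens.map Prod.fst) := fun c hc => by
  obtain ⟨d, hd, rfl⟩ := List.mem_map.mp hc
  exact ⟨_, decP_rep (List.all_eq_true.mp perm_ok.1 d hd)⟩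

theorem small_gen {a : ℕ} (ha : a < 2) : Rep 120 (smallGens.getD a (0, 0)).1 (decP 120 (smallGens.getD a (0, 0)).1) ∧
    decP 120 (smallGens.getD a (0, 0)).1 ∈ genG 120 (smallGens.map Prod.fst) := by
  have ha' : a < smallGens.length := by rw [perm_ok.2.2.1]; exact ha
  rw [List.getD_eq_getElem _ _ ha']
  have hr := decP_rep (List.all_eq_true.mp perm_ok.1 _ (List.getElem_mem ha'))
  exact ⟨hr, Valid.mem (List.mem_map.mpr ⟨_, List.getElem_mem ha', rfl⟩) hr⟩

theorem table_small : TableOK 120 smallChain (smallGens.map Prod.fst) := by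
  obtain ⟨hs, hl, hlens, -⟩ := small_shape
  refine tableOK_of_checks hs fun j hj k hk => ?_
  have he := List.all_eq_true.mp small_entries j (List.mem_range.mpr (hl ▸ hj))
  refine of_entriesOK he (Nat.zero_le _) ?_
  rw [← hlens, List.getD_eq_getElem _ _ (by simpa using hj), List.getElem_map]
  rwa [List.getD_eq_getElem _ _ hj] at hk

/-- Pairs of checked words give the generators as commutators. -/
theorem gen_comm {n : ℕ} (hn : n ≤ 512) {ls : List Level} {gens : List ℕ} (hT : TableOK n ls gens) (hv : Valid n gens)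
    {gs ws : List (ℕ × ℕ)} (hlen : ws.length = 4) (hm : memOK n ls ws = true)
    (hc : ((List.range 2).all fun a => (List.range n).all fun i =>
      Nat.beq (ap (ws.getD (2 * a) (0, 0)).1 (ap (ws.getD (2 * a + 1) (0, 0)).1
        (ap (ws.getD (2 * a) (0, 0)).2 (ap (ws.getD (2 * a + 1) (0, 0)).2 i))))
        (ap (gs.getD a (0, 0)).1 i)) = true)
    {a : ℕ} (ha : a < 2) {g : Perm (Fin n)} (hg : Rep n (gs.getD a (0, 0)).1 g) :
    ∃ x ∈ genG n gens, ∃ y ∈ genG n gens, ⁅x, y⁆ = g := by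
  have hel : ∀ k < 4, ∃ x ∈ genG n gens, Rep n (ws.getD k (0, 0)).1 x ∧ Rep n (ws.getD k (0, 0)).2 x⁻¹ := fun k hk => by
    have hk' : k < ws.length := by rw [hlen]; exact hk
    have h := List.all_eq_true.mp hm _ (List.getElem_mem hk')
    rw [Bool.and_eq_true] at h
    rw [List.getD_eq_getElem _ _ hk']
    exact ⟨_, mem_of_sift hn hT hv _ _ (decP_rep h.1) h.2, decP_rep h.1, rep_inv hn (decP_rep h.1) h.1⟩
  obtain ⟨x, hx, hxr, hxi⟩ := hel (2 * a) (by omega)
  obtain ⟨y, hy, hyr, hyi⟩ := hel (2 * a + 1) (by omega)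
  refine ⟨x, hx, y, hy, Equiv.ext fun i => Fin.ext ?_⟩
  have := Nat.eq_of_beq_eq_true (List.all_eq_true.mp (List.all_eq_true.mp hc a (List.mem_range.mpr ha)) i
    (List.mem_range.mpr i.2))
  rw [hyi, hxi, hyr, hxr, hg] at this
  rw [commutatorElement_def, Perm.mul_apply, Perm.mul_apply, Perm.mul_apply]
  exact this

theorem card_omega {F : Type*} [Field F] [Fintype F] (hF : Fintype.card F = 2) :
    Nat.card (Cfsg.Omega F (Cfsg.quadFormPlus 4 F)) = 174182400 ∧
      Subgroup.center (Cfsg.Omega F (Cfsg.quadFormPlus 4 F)) = ⊥ := by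
  have h2 : (2 : F) = 0 := by
    have := FiniteField.cast_card_eq_zero F
    rwa [hF, Nat.cast_ofNat] at this
  have hQ : (Cfsg.quadFormPlus 4 F) = ⇑(CfsgLib.Lagrangian.Qp 4 F) :=
    funext fun v => (CfsgLib.Lagrangian.Qp_apply v).symm
  have hcen : Nat.card (Subgroup.center (Cfsg.Omega F (Cfsg.quadFormPlus 4 F))) = 1 := by
    rw [hQ]
    exact (CfsgLib.POmegaCard.card_center (CfsgLib.Lagrangian.Qp 4 F) (by simp) CfsgLib.Lagrangian.Qp_nondeg).1 h2
  refine ⟨?_, Subgroup.eq_bot_of_card_eq _ hcen⟩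
  rw [Subgroup.card_eq_card_quotient_mul_card_subgroup (Subgroup.center (Cfsg.Omega F (Cfsg.quadFormPlus 4 F))), hcen,
    mul_one]
  have := Cfsg.Agent.S0293.result (F := F) hF 4 le_rfl
  norm_num [Finset.prod_range_succ] at this
  exact this

theorem small_group : prodSet 120 smallChain = genG 120 (smallGens.map Prod.fst) ∧
    Nat.card (genG 120 (smallGens.map Prod.fst)) = 174182400 ∧
    (Cfsg.Omega F2 Q8).map phi = genG 120 (smallGens.map Prod.fst) := by
  have hle : genG 120 (smallGens.map Prod.fst) ≤ phi.range := by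
    rw [genG, closure_le]
    rintro g ⟨c, hc, hg⟩
    obtain ⟨a, ha, rfl⟩ := List.getElem_of_mem hc
    rw [List.length_map] at ha
    have ha2 : a < 2 := by rw [← perm_ok.2.2.1]; exact ha
    rw [List.getElem_map, ← List.getD_eq_getElem (d := (0, 0)) _ ha] at hg
    obtain ⟨hi1, hi2⟩ := mat_inv ⟨a, ha2⟩
    let M : GL (Fin 4 ⊕ Fin 4) F2 := ⟨_, _, hi1, hi2⟩
    have hM : M ∈ Cfsg.isometryGroup F2 Q8 := fun v _ => by
      show Q8 (matOf (matCols.getD a []) *ᵥ v) = Q8 v
      have := mat_keeps ⟨a, ha2⟩ ⟨cd v, cd_lt v⟩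
      rwa [show vec (⟨cd v, cd_lt v⟩ : Fin 256).1 = v from vec_cd v] at this
    refine ⟨⟨M, hM⟩, Equiv.ext fun i => Fin.ext ?_⟩
    rw [phi_apply]
    show vecPos.getD (cd (matOf (matCols.getD a []) *ᵥ vec (vecPts.getD i 0))) 0 = (g i : ℕ)
    rw [mat_act ⟨a, ha2⟩ i, hg i, (pts_ok.2 _ (g i).2).2.2]
  have hle' : genG 120 (smallGens.map Prod.fst) ≤ (Cfsg.Omega F2 Q8).map phi := by
    rw [genG, closure_le]
    rintro g ⟨c, hc, hg⟩
    obtain ⟨a, ha, rfl⟩ := List.getElem_of_mem hc
    rw [List.length_map] at ha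
    rw [List.getElem_map, ← List.getD_eq_getElem (d := (0, 0)) _ ha] at hg
    obtain ⟨x, hx, y, hy, rfl⟩ := gen_comm (by norm_num) table_small valid_small smallWords_ok.2.1 smallWords_ok.1
      smallWords_ok.2.2 (show a < 2 by rw [← perm_ok.2.2.1]; exact ha) hg
    obtain ⟨x', rfl⟩ := hle hx
    obtain ⟨y', rfl⟩ := hle hy
    exact ⟨⁅x', y'⁆, commutator_mem_commutator (mem_top x') (mem_top y'), map_commutatorElement phi x' y'⟩
  have hr : Nat.card ((Cfsg.Omega F2 Q8).map phi) = 174182400 := by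
    rw [← Nat.card_congr (Subgroup.equivMapOfInjective _ phi phi_injective).toEquiv]
    exact (card_omega (F := F2) (ZMod.card 2)).1
  have hc : Nat.card (genG 120 (smallGens.map Prod.fst)) ≤ 174182400 :=
    (Nat.card_le_card_of_injective _ (Subgroup.inclusion_injective hle')).trans hr.le
  obtain ⟨he, hcard⟩ := table_eq (by norm_num) table_small valid_small (hc.trans small_shape.2.2.2.ge)
  rw [small_shape.2.2.2] at hcard
  exact ⟨he, hcard, (eq_of_le_of_card_ge hle' (by rw [hr, hcard])).symm⟩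

/-- The simple group over any field of two elements is the group on 120 points. -/
theorem equiv_small {F : Type*} [Field F] [Fintype F] (hF : Fintype.card F = 2) :
    Nonempty (Cfsg.POmega F (Cfsg.quadFormPlus 4 F) ≃* ↥(genG 120 (smallGens.map Prod.fst))) := by
  have r : F ≃+* F2 := (ZMod.ringEquivOfPrime F Nat.prime_two hF).symm
  let Φ : GL (Fin 4 ⊕ Fin 4) F ≃* GL (Fin 4 ⊕ Fin 4) F2 := Units.mapEquiv r.mapMatrix.toMulEquiv
  have hq : ∀ v : Fin 4 ⊕ Fin 4 → F, Q8 (fun s => r (v s)) = r (Cfsg.quadFormPlus 4 F v) := fun v => by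
    simp [Cfsg.quadFormPlus, map_sum]
  have hmv : ∀ (M : GL (Fin 4 ⊕ Fin 4) F) (v : Fin 4 ⊕ Fin 4 → F),
      (Φ M).1 *ᵥ (fun s => r (v s)) = fun s => r ((M.1 *ᵥ v) s) := fun M v => by
    funext s
    simp [Φ, Matrix.mulVec, dotProduct, map_sum]
  have hmap : (Cfsg.isometryGroup F (Cfsg.quadFormPlus 4 F)).map Φ.toMonoidHom = Cfsg.isometryGroup F2 Q8 := by
    ext M
    obtain ⟨N, rfl⟩ := Φ.surjective M
    rw [Subgroup.mem_map]
    constructor
    · rintro ⟨N', hN', e⟩
      obtain rfl := Φ.injective e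
      intro v _
      show Q8 ((Φ N').1 *ᵥ v) = Q8 v
      rw [show v = fun s => r (r.symm (v s)) from funext fun s => (r.apply_symm_apply _).symm, hmv, hq, hq]
      exact congrArg r (hN' (fun s => r.symm (v s)) (fun s => r.symm (v s)))
    · intro hN
      refine ⟨N, fun v _ => r.injective ?_, rfl⟩
      show r (Cfsg.quadFormPlus 4 F (N.1 *ᵥ v)) = r (Cfsg.quadFormPlus 4 F v)
      rw [← hq, ← hq, ← hmv]
      exact hN (fun s => r (v s)) (fun s => r (v s))
  let eO : ↥(Cfsg.isometryGroup F (Cfsg.quadFormPlus 4 F)) ≃* OGrp :=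
    (Φ.subgroupMap _).trans (MulEquiv.subgroupCongr hmap)
  have hom : (Cfsg.Omega F (Cfsg.quadFormPlus 4 F)).map eO.toMonoidHom = Cfsg.Omega F2 Q8 := by
    rw [Cfsg.Omega, Cfsg.Omega, _root_.commutator_def, map_commutator, map_top_of_surjective _ eO.surjective,
      ← _root_.commutator_def]
  exact ⟨(QuotientGroup.quotientMulEquivOfEq (card_omega hF).2).trans (QuotientGroup.quotientBot.trans
    (((eO.subgroupMap _).trans (MulEquiv.subgroupCongr hom)).trans
      ((Subgroup.equivMapOfInjective _ phi phi_injective).trans (MulEquiv.subgroupCongr small_group.2.2))))⟩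

/-! ### The cover -/

theorem valid_cover : Valid 480 (coverGens.map Prod.fst) := fun c hc => by
  obtain ⟨d, hd, rfl⟩ := List.mem_map.mp hc
  exact ⟨_, decP_rep (List.all_eq_true.mp perm_ok.2.1 d hd)⟩

theorem cover_group : prodSet 480 coverChain = genG 480 (coverGens.map Prod.fst) ∧
    Nat.card (genG 480 (coverGens.map Prod.fst)) = 696729600 := by
  obtain ⟨-, hl, -, hsize, hlast⟩ := cover_shape
  have hp := table_closed (by norm_num) cover_table.1 valid_cover cover_table.2 (fun c hc i hi => by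
    rw [hl] at hc
    exact Nat.eq_of_beq_eq_true (List.all_eq_true.mp (List.all_eq_true.mp hlast c hc) i (List.mem_range.mpr hi)))
  refine ⟨hp, ?_⟩
  rw [← hsize, ← (table_products (by norm_num) cover_table.1 valid_cover).2, hp, ← Nat.card_coe_set_eq]
  rfl

/-- A permutation of 480 points lies over one of 120. -/
def Over (g : Perm (Fin 480)) (h : Perm (Fin 120)) : Prop :=
  ∀ i : Fin 480, (i : ℕ) < 240 → (g i : ℕ) < 240 ∧ ∀ hb : blk.getD i 0 < 120,
    blk.getD (g i) 0 = (h ⟨_, hb⟩ : ℕ)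

theorem blk_lt {i : ℕ} (hi : i < 240) : blk.getD i 0 < 120 := by
  have := List.all_eq_true.mp proj_ok.2.1 i (List.mem_range.mpr hi)
  exact Nat.le_of_ble_eq_true this

theorem over_unique {g : Perm (Fin 480)} {h h' : Perm (Fin 120)} (e : Over g h) (e' : Over g h') : h = h' := by
  refine Equiv.ext fun b => Fin.ext ?_
  have hb := List.all_eq_true.mp proj_ok.2.2 b (List.mem_range.mpr b.2)
  rw [Bool.and_eq_true, Nat.blt_eq] at hb
  have heq := Nat.eq_of_beq_eq_true hb.2
  have hbb : blk.getD (blkRep.getD b 0) 0 < 120 := blk_lt hb.1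
  have h1 := (e ⟨blkRep.getD b 0, by omega⟩ hb.1).2 hbb
  have h2 := (e' ⟨blkRep.getD b 0, by omega⟩ hb.1).2 hbb
  rw [show (⟨_, hbb⟩ : Fin 120) = b from Fin.ext heq] at h1 h2
  exact h1.symm.trans h2

theorem over_one : Over 1 1 := fun i hi => ⟨hi, fun _ => rfl⟩

theorem over_mul {a b : Perm (Fin 480)} {x y : Perm (Fin 120)} (ha : Over a x) (hb : Over b y) :
    Over (a * b) (x * y) := fun i hi => by
  obtain ⟨h1, h2⟩ := hb i hi
  obtain ⟨h3, h4⟩ := ha (b i) h1
  refine ⟨h3, fun hbl => ?_⟩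
  rw [Perm.mul_apply, Perm.mul_apply, h4 (blk_lt h1)]
  exact congrArg (fun j => (x j : ℕ)) (Fin.ext (h2 hbl))

theorem over_gen {a : ℕ} (ha : a < 2) {g : Perm (Fin 480)} (hg : Rep 480 (coverGens.getD a (0, 0)).1 g) :
    Over g (decP 120 (smallGens.getD a (0, 0)).1) := fun i hi => by
  have := List.all_eq_true.mp (List.all_eq_true.mp proj_ok.1 a (List.mem_range.mpr ha)) i (List.mem_range.mpr hi)
  rw [Bool.and_eq_true, Nat.blt_eq, hg i] at this
  refine ⟨this.1, fun hb => ?_⟩
  rw [Nat.eq_of_beq_eq_true this.2]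
  exact (small_gen ha).1 ⟨_, hb⟩

theorem exists_restrict (g : ↥(genG 480 (coverGens.map Prod.fst))) :
    ∃ h : ↥(genG 120 (smallGens.map Prod.fst)), Over (g : Perm (Fin 480)) (h : Perm (Fin 120)) := by
  obtain ⟨g, hg⟩ := g
  induction hg using closure_induction with
  | mem g hg =>
    obtain ⟨c, hc, hgr⟩ := hg
    obtain ⟨a, ha, rfl⟩ := List.getElem_of_mem hc
    rw [List.length_map] at ha
    rw [List.getElem_map, ← List.getD_eq_getElem (d := (0, 0)) _ ha] at hgr
    have ha2 : a < 2 := by rw [← perm_ok.2.2.2]; exact ha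
    exact ⟨⟨_, (small_gen ha2).2⟩, over_gen ha2 hgr⟩
  | one => exact ⟨1, over_one⟩
  | mul a b _ _ ha hb =>
    obtain ⟨x, hx⟩ := ha
    obtain ⟨y, hy⟩ := hb
    exact ⟨x * y, over_mul hx hy⟩
  | inv a _ ha =>
    obtain ⟨x, hx⟩ := ha
    have hpow : ∀ k : ℕ, Over (a ^ k) ((x : Perm (Fin 120)) ^ k) := fun k => by
      induction k with
      | zero => exact over_one
      | succ k ih => rw [pow_succ, pow_succ]; exact over_mul ih hx
    refine ⟨x ^ (orderOf a - 1), ?_⟩
    have h := hpow (orderOf a - 1)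
    rw [show a ^ (orderOf a - 1) = a⁻¹ from eq_inv_of_mul_eq_one_left (by
      rw [← pow_succ, Nat.sub_add_cancel (orderOf_pos a), pow_orderOf_eq_one])] at h
    rwa [SubmonoidClass.coe_pow]

/-- The projection of the cover. -/
noncomputable def proj : ↥(genG 480 (coverGens.map Prod.fst)) →* ↥(genG 120 (smallGens.map Prod.fst)) :=
  MonoidHom.mk' (fun g => (exists_restrict g).choose) fun g h => Subtype.ext
    (over_unique (exists_restrict (g * h)).choose_spec
      (over_mul (exists_restrict g).choose_spec (exists_restrict h).choose_spec))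

theorem proj_surjective : Function.Surjective proj := by
  rintro ⟨h, hh⟩
  suffices hs : h ∈ proj.range.map (genG 120 (smallGens.map Prod.fst)).subtype by
    obtain ⟨-, ⟨g, rfl⟩, e⟩ := hs
    exact ⟨g, Subtype.ext e⟩
  refine closure_le _ |>.mpr ?_ hh
  rintro x ⟨c, hc, hx⟩
  obtain ⟨a, ha, rfl⟩ := List.getElem_of_mem hc
  rw [List.length_map] at ha
  rw [List.getElem_map, ← List.getD_eq_getElem (d := (0, 0)) _ ha] at hx
  have ha2 : a < 2 := by rw [← perm_ok.2.2.1]; exact ha
  have ha3 : a < coverGens.length := by rw [perm_ok.2.2.2]; exact ha2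
  have hgr := decP_rep (List.all_eq_true.mp perm_ok.2.1 _ (List.getElem_mem ha3))
  refine ⟨proj ⟨_, Valid.mem (List.mem_map.mpr ⟨_, List.getElem_mem ha3, rfl⟩) hgr⟩, ⟨_, rfl⟩, ?_⟩
  refine over_unique (exists_restrict _).choose_spec ?_
  have := over_gen ha2 (g := decP 480 coverGens[a].1) (by rwa [List.getD_eq_getElem _ _ ha3])
  rwa [(small_gen ha2).1.unique hx] at this

theorem z_elems : ∃ z1 z2 : ↥(genG 480 (coverGens.map Prod.fst)),
    Rep 480 (zCodes.getD 0 (0, 0)).1 (z1 : Perm (Fin 480)) ∧ Rep 480 (zCodes.getD 1 (0, 0)).1 (z2 : Perm (Fin 480)) := by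
  have hel : ∀ k < 2, ∃ z : ↥(genG 480 (coverGens.map Prod.fst)), Rep 480 (zCodes.getD k (0, 0)).1 (z : Perm (Fin 480)) :=
    fun k hk => by
    have hk' : k < zCodes.length := by rw [z_ok.2.1]; exact hk
    have h := List.all_eq_true.mp z_ok.1 _ (List.getElem_mem hk')
    rw [Bool.and_eq_true] at h
    rw [List.getD_eq_getElem _ _ hk']
    exact ⟨⟨_, mem_of_sift (by norm_num) cover_table.1 valid_cover _ _ (decP_rep h.1) h.2⟩, decP_rep h.1⟩
  obtain ⟨z1, h1⟩ := hel 0 (by norm_num)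
  obtain ⟨z2, h2⟩ := hel 1 (by norm_num)
  exact ⟨z1, z2, h1, h2⟩

theorem cover_stem : Cfsg.IsStemExtension proj ∧ Nat.card proj.ker = 4 := by
  classical
  obtain ⟨hzm, hlen, hblk, hz10, hz240, hz1f, hzsq, hzc⟩ := z_ok
  obtain ⟨z1, z2, r1, r2⟩ := z_elems
  have hker : Nat.card proj.ker = 4 := by
    have h := proj.ker.card_mul_index
    rw [index_ker, MonoidHom.range_eq_top.mpr proj_surjective, card_top, small_group.2.1, cover_group.2] at h
    exact Nat.eq_of_mul_eq_mul_right (show 0 < 174182400 from Nat.succ_pos _) (h.trans (by norm_num))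
  have hb : ∀ i : Fin 480, (i : ℕ) < 240 → blk.getD ((z1 : Perm (Fin 480)) i) 0 = blk.getD i 0 ∧
      ((z2 : Perm (Fin 480)) i : ℕ) = i := fun i hi => by
    have := List.all_eq_true.mp hblk i (List.mem_range.mpr hi)
    rw [Bool.and_eq_true, r1 i, r2 i] at this
    exact ⟨Nat.eq_of_beq_eq_true this.1, Nat.eq_of_beq_eq_true this.2⟩
  have hk1 : z1 ∈ proj.ker := MonoidHom.mem_ker.mpr (Subtype.ext (over_unique (exists_restrict z1).choose_spec
    fun i hi => ⟨((exists_restrict z1).choose_spec i hi).1, fun _ => (hb i hi).1⟩))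
  have hk2 : z2 ∈ proj.ker := MonoidHom.mem_ker.mpr (Subtype.ext (over_unique (exists_restrict z2).choose_spec
    fun i hi => ⟨((exists_restrict z2).choose_spec i hi).1, fun _ => by rw [(hb i hi).2]; rfl⟩))
  have a1 : ((z1 : Perm (Fin 480)) ⟨0, by norm_num⟩ : ℕ) ≠ 0 := fun e => by
    rw [← r1 ⟨0, by norm_num⟩] at e
    rw [show ap (zCodes.getD 0 (0, 0)).1 0 = 0 from e] at hz10
    simp at hz10
  have a2 : ((z2 : Perm (Fin 480)) ⟨240, by norm_num⟩ : ℕ) ≠ 240 := fun e => by
    rw [← r2 ⟨240, by norm_num⟩] at e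
    rw [show ap (zCodes.getD 1 (0, 0)).1 240 = 240 from e] at hz240
    simp at hz240
  have a3 : (z1 : Perm (Fin 480)) ⟨240, by norm_num⟩ = ⟨240, by norm_num⟩ :=
    Fin.ext ((r1 ⟨240, by norm_num⟩).symm.trans (Nat.eq_of_beq_eq_true hz1f))
  have a4 : (z2 : Perm (Fin 480)) ⟨0, by norm_num⟩ = ⟨0, by norm_num⟩ := Fin.ext (hb _ (by norm_num)).2
  have n1 : z1 ≠ 1 := fun e => a1 (by rw [e]; rfl)
  have n2 : z2 ≠ 1 := fun e => a2 (by rw [e]; rfl)
  have n12 : z1 ≠ z2 := fun e => a2 (by rw [← e, a3])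
  have n3 : z1 * z2 ≠ 1 := fun e => a1 (by
    have := congrArg (fun q : ↥(genG 480 (coverGens.map Prod.fst)) => (q : Perm (Fin 480)) ⟨0, by norm_num⟩) e
    simp only [Subgroup.coe_mul, Perm.mul_apply, a4] at this
    rw [this]; rfl)
  have hset : (proj.ker : Set ↥(genG 480 (coverGens.map Prod.fst))) = {1, z1, z2, z1 * z2} := by
    refine (Set.eq_of_subset_of_ncard_le ?_ ?_ (Set.toFinite _)).symm
    · rintro x (rfl | rfl | rfl | rfl)
      exacts [one_mem _, hk1, hk2, mul_mem hk1 hk2]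
    · rw [← Nat.card_coe_set_eq]
      rw [Set.ncard_insert_of_notMem (by simp [n1.symm, n2.symm, n3.symm]),
        Set.ncard_insert_of_notMem (by simp [n12, left_eq_mul, n2]), Set.ncard_pair (by simp [right_eq_mul, n1])]
      exact le_of_eq hker
  have hcen : ∀ z : ↥(genG 480 (coverGens.map Prod.fst)), ∀ c ∈ zCodes, Rep 480 c.1 (z : Perm (Fin 480)) →
      z ∈ center ↥(genG 480 (coverGens.map Prod.fst)) := fun z c hc hr => by
    refine mem_center_iff.mpr fun y => Subtype.ext ?_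
    obtain ⟨y, hy⟩ := y
    show y * (z : Perm (Fin 480)) = z * y
    refine mem_centralizer_singleton_iff.mp ((closure_le (centralizer {(z : Perm (Fin 480))})).mpr ?_ hy)
    rintro g ⟨d, hd, hg⟩
    obtain ⟨d, hd', rfl⟩ := List.mem_map.mp hd
    refine mem_centralizer_singleton_iff.mpr (Equiv.ext fun i => Fin.ext ?_)
    rw [Perm.mul_apply, Perm.mul_apply, ← hg, ← hr, ← hr, ← hg]
    exact Nat.eq_of_beq_eq_true
      (List.all_eq_true.mp (List.all_eq_true.mp (List.all_eq_true.mp hzc i (List.mem_range.mpr i.2)) c hc) d hd')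
  have hm : ∀ k < 2, zCodes.getD k (0, 0) ∈ zCodes := fun k hk => by
    have hk' : k < zCodes.length := by rw [hlen]; exact hk
    rw [List.getD_eq_getElem _ _ hk']
    exact List.getElem_mem hk'
  have c1 := hcen z1 _ (hm 0 (by norm_num)) r1
  have c2 := hcen z2 _ (hm 1 (by norm_num)) r2
  refine ⟨⟨proj_surjective, fun x hx => ?_, ?_⟩, hker⟩
  · have : x ∈ ({1, z1, z2, z1 * z2} : Set ↥(genG 480 (coverGens.map Prod.fst))) := hset ▸ hx
    rcases this with rfl | rfl | rfl | rfl
    exacts [one_mem _, c1, c2, mul_mem c1 c2]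
  · suffices h : commutator ↥(genG 480 (coverGens.map Prod.fst)) = ⊤ by rw [h]; exact le_top
    refine map_injective (genG 480 (coverGens.map Prod.fst)).subtype_injective ?_
    rw [_root_.commutator_def, map_commutator, ← MonoidHom.range_eq_map, range_subtype]
    refine le_antisymm (commutator_le_self _) ?_
    rw [genG, closure_le]
    rintro g ⟨c, hc, hg⟩
    obtain ⟨a, ha, rfl⟩ := List.getElem_of_mem hc
    rw [List.length_map] at ha
    rw [List.getElem_map, ← List.getD_eq_getElem (d := (0, 0)) _ ha] at hg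
    obtain ⟨x, hx, y, hy, rfl⟩ := gen_comm (by norm_num) cover_table.1 valid_cover coverWords_ok.2.1 coverWords_ok.1
      coverWords_ok.2.2 (show a < 2 by rw [← perm_ok.2.2.2]; exact ha) hg
    exact commutator_mem_commutator hx hy

/-! ### The bound -/

theorem sub_table {ls : List Level} {gc : List (ℕ × ℕ)} {lens : List ℕ}
    (hs : shapeOK 120 ls (gc.map Prod.fst) = true) (hlens : (ls.map fun L => L.tr.length) = lens)
    (he : ((List.range lens.length).all fun j => entriesOK 120 ls (gc.map Prod.fst) j 0 (lens.getD j 0)) = true) :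
    TableOK 120 ls (gc.map Prod.fst) := by
  subst hlens
  refine tableOK_of_checks hs fun j hj k hk => ?_
  refine of_entriesOK (List.all_eq_true.mp he j (List.mem_range.mpr (by simpa using hj))) (Nat.zero_le _) ?_
  rw [List.getD_eq_getElem _ _ (by simpa using hj), List.getElem_map]
  rwa [List.getD_eq_getElem _ _ hj] at hk

theorem certTwo_rel : ∀ i < certTwo.n, ∀ j < certTwo.n, i ≤ j → certTwo.relOK i j = true := by
  intro i hi j hj hij
  have hi' : i < 12 := hi
  have h : ((List.range 12).all fun j => Nat.blt j i || certTwo.relOK i j) = true := by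
    clear hj hij hi j
    interval_cases i
    exacts [relTwo0, relTwo1, relTwo2, relTwo3, relTwo4, relTwo5, relTwo6, relTwo7, relTwo8, relTwo9, relTwo10,
      relTwo11]
  have := List.all_eq_true.mp h j (List.mem_range.mpr hj)
  rw [Bool.or_eq_true, Nat.blt_eq] at this
  exact this.resolve_left (by omega)

theorem exp_four {Γ : Type u} [Group Γ] [Finite Γ] {σ : Γ →* ↥(genG 120 (smallGens.map Prod.fst))}
    (hσ : Cfsg.IsStemExtension σ) (hexp : ∀ z ∈ σ.ker, z ^ 4 = 1) :
    Nat.card σ.ker ≤ 4 ∧ ∀ z ∈ σ.ker, z * z = 1 := by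
  obtain ⟨hs, -, hlens, hsz, hone, hlen⟩ := subTwo_shape
  obtain ⟨g, t, ht, hf, hle⟩ := SylowData.exists_elems ⟨gcTwo, tcTwo, subTwo⟩ (by norm_num) table_small valid_small
    small_group.1 (facts := certTwo.facts) (N := 4096)
    ⟨memTwo, hone, factsTwo, sub_table hs hlens subTwo_entries, hsz⟩
  simp only at hle
  rw [hlen] at hle
  exact CollectFour.ker_le_four hσ hexp certTwo eqsTwo_ok certTwo_rel eqsTwo_len.2 g t ht hf hle
    (by rw [small_group.2.1, show certTwo.n = 12 from rfl]; norm_num)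

theorem kill_prime {Γ : Type u} [Group Γ] {H : Subgroup Γ} {p : ℕ} (h : ∀ w ∈ H, w ^ p = 1 → w = 1) :
    ∀ k m : ℕ, ∀ z ∈ H, z ^ (p ^ k * m) = 1 → z ^ m = 1 := by
  intro k
  induction k with
  | zero => intro m z _ hz; simpa using hz
  | succ k ih =>
    intro m z hzH hz
    refine h _ (pow_mem hzH m) ?_
    rw [← pow_mul, mul_comm]
    exact ih (p * m) z hzH (by rw [← hz]; congr 1; ring)

theorem ker_small {Γ : Type u} [Group Γ] [Finite Γ] {σ : Γ →* ↥(genG 120 (smallGens.map Prod.fst))}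
    (hσ : Cfsg.IsStemExtension σ) : Nat.card σ.ker ≤ 4 ∧ ∀ z ∈ σ.ker, z * z = 1 := by
  classical
  have hcard := small_group.2.1
  have k3 : ∀ w ∈ σ.ker, w ^ 3 = 1 → w = 1 := fun w hw h3 => by
    obtain ⟨hs, -, hlens, hsz, hone, hlen⟩ := subThree_shape
    exact no_torsion_of_cert (by norm_num) table_small valid_small small_group.1 certThree certThree_ok Nat.prime_three
      ⟨gcThree, tcThree, subThree⟩ hlen ⟨memThree, hone, factsThree, sub_table hs hlens subThree_entries, hsz⟩
      (by rw [hcard]; norm_num [certThree]) hσ hw h3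
  have k5 : ∀ w ∈ σ.ker, w ^ 5 = 1 → w = 1 := fun w hw h5 => by
    obtain ⟨hs, -, hlens, hsz, hone, hlen⟩ := subFive_shape
    exact no_torsion_of_cert (by norm_num) table_small valid_small small_group.1 certFive certFive_ok
      (show Nat.Prime 5 by norm_num)
      ⟨gcFive, tcFive, subFive⟩ hlen ⟨memFive, hone, factsFive, sub_table hs hlens subFive_entries, hsz⟩
      (by rw [hcard]; norm_num [certFive]) hσ hw h5
  have k7 : ∀ w ∈ σ.ker, w ^ 7 = 1 → w = 1 := fun w hw h7 => by
    obtain ⟨hm, hpow, hne⟩ := cyc_ok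
    simp only [memOK, List.all_cons, List.all_nil, Bool.and_eq_true, and_true] at hm
    have hr := decP_rep hm.1
    refine no_torsion_cyclic (show Nat.Prime 7 by norm_num)
      (g := (⟨_, mem_of_sift (by norm_num) table_small valid_small _ _ hr hm.2⟩ : ↥(genG 120 (smallGens.map Prod.fst))))
      (Subtype.ext (Equiv.ext fun i => Fin.ext ?_)) (fun e => ?_) (by rw [hcard]; norm_num) hσ hw h7
    · rw [SubgroupClass.coe_pow, ← rep_apN hr, Nat.eq_of_beq_eq_true (List.all_eq_true.mp hpow i (List.mem_range.mpr i.2))]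
      rfl
    · have e' : decP 120 cycSeven.1 = 1 := congrArg Subtype.val e
      rw [← Bool.not_eq_true, List.all_eq_true] at hne
      refine hne fun i hi => ?_
      have := hr ⟨i, List.mem_range.mp hi⟩
      rw [e'] at this
      rw [show ap cycSeven.1 i = i from this, Nat.beq_refl]
  have h4096 : ∀ z ∈ σ.ker, z ^ 4096 = 1 := by
    intro z hz
    have h0 : z ^ 174182400 = 1 := by
      have := CfsgLib.StSL.pow_index_eq_one_of_cyclic hσ (1 : ↥(genG 120 (smallGens.map Prod.fst))) hz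
      rwa [zpowers_one_eq_bot, index_bot, hcard] at this
    refine kill_prime k7 1 4096 z hz (kill_prime k5 2 _ z hz (kill_prime k3 5 _ z hz ?_))
    rw [← h0]; norm_num
  have hsq : ∀ z ∈ σ.ker, ∃ v ∈ σ.ker, z * z = v ^ 4 := fun z hz =>
    CollectFour.sq_mem_fourth hσ (fun Δ _ _ τ hτ hexp => (exp_four hτ hexp).2) hz
  have hit : ∀ j : ℕ, ∀ z ∈ σ.ker, ∃ v ∈ σ.ker, z ^ 2 = v ^ 2 ^ (j + 2) := by
    intro j
    induction j with
    | zero => intro z hz; obtain ⟨v, hv, e⟩ := hsq z hz; exact ⟨v, hv, by rw [sq, e]; norm_num⟩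
    | succ j ih =>
      intro z hz
      obtain ⟨v, hv, e⟩ := ih z hz
      obtain ⟨x, hx, e'⟩ := hsq v hv
      refine ⟨x, hx, ?_⟩
      rw [e, show 2 ^ (j + 2) = 2 * 2 ^ (j + 1) by ring, pow_mul, sq, e', ← pow_mul]
      congr 1
      ring
  have h2 : ∀ z ∈ σ.ker, z * z = 1 := by
    intro z hz
    obtain ⟨v, hv, e⟩ := hit 10 z hz
    rw [← sq, e]; exact h4096 v hv
  exact exp_four hσ fun z hz => by rw [show (4 : ℕ) = 2 * 2 from rfl, pow_mul, sq z, h2 z hz, one_pow]

/-- A commutative group of exponent two and order at most four is an image of the four-group. -/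
theorem klein_onto {K : Type*} [Group K] [Finite K] (hcomm : ∀ a b : K, Commute a b) (h2 : ∀ a : K, a * a = 1)
    (h4 : Nat.card K ≤ 4) : ∃ π : Multiplicative (ZMod 2 × ZMod 2) →* K, Function.Surjective π := by
  classical
  have hp : ∀ (a : K) (m : ℕ), a ^ m = a ^ (m % 2) := fun a m => pow_eq_pow_mod m (by rw [sq, h2])
  let f : K → K → Multiplicative (ZMod 2 × ZMod 2) →* K := fun a b =>
    MonoidHom.mk' (fun x => a ^ (Multiplicative.toAdd x).1.val * b ^ (Multiplicative.toAdd x).2.val) fun x y => by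
      rw [((hcomm b a).pow_pow _ _).mul_mul_mul_comm, ← pow_add, ← pow_add, toAdd_mul, Prod.fst_add, Prod.snd_add,
        ZMod.val_add, ZMod.val_add, ← hp, ← hp]
  have f10 : ∀ a b, f a b (Multiplicative.ofAdd (1, 0)) = a := fun a b => by simp [f, show (1 : ZMod 2).val = 1 from rfl]
  have f01 : ∀ a b, f a b (Multiplicative.ofAdd (0, 1)) = b := fun a b => by simp [f, show (1 : ZMod 2).val = 1 from rfl]
  by_cases h1 : ∀ a : K, a = 1
  · exact ⟨f 1 1, fun y => ⟨1, by rw [map_one, h1 y]⟩⟩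
  push Not at h1
  obtain ⟨a, ha⟩ := h1
  by_cases hb : ∀ b : K, b = 1 ∨ b = a
  · refine ⟨f a a, fun y => ?_⟩
    rcases hb y with rfl | rfl
    exacts [⟨1, map_one _⟩, ⟨_, f10 _ _⟩]
  push Not at hb
  obtain ⟨b, hb1, hba⟩ := hb
  refine ⟨f a b, ?_⟩
  rw [← MonoidHom.range_eq_top]
  refine eq_top_of_le_card _ (h4.trans ?_)
  have hab : a * b ≠ 1 := fun e => hba (by rw [eq_inv_of_mul_eq_one_right e]; exact inv_eq_of_mul_eq_one_right (h2 a))
  have hsub : ({1, a, b, a * b} : Set K) ⊆ (f a b).range := by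
    have hA : a ∈ (f a b).range := ⟨_, f10 a b⟩
    have hB : b ∈ (f a b).range := ⟨_, f01 a b⟩
    rintro x (rfl | rfl | rfl | rfl)
    exacts [one_mem _, hA, hB, mul_mem hA hB]
  have hc : ({1, a, b, a * b} : Set K).ncard = 4 := by
    rw [Set.ncard_insert_of_notMem (by simp [Ne.symm ha, Ne.symm hb1, Ne.symm hab]),
      Set.ncard_insert_of_notMem (by simp [Ne.symm hba, left_eq_mul, hb1]), Set.ncard_pair (by simp [right_eq_mul, ha])]
  rw [← hc]
  exact (Set.ncard_le_ncard hsub (Set.toFinite _)).trans (le_of_eq (Nat.card_coe_set_eq _).symm)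

theorem multiplier {F : Type u} [Field F] [Fintype F] (hF : Fintype.card F = 2) :
    Cfsg.HasSchurMultiplier (Cfsg.POmega F (Cfsg.quadFormPlus 4 F)) (Multiplicative (ZMod 2 × ZMod 2)) := by
  classical
  obtain ⟨e⟩ := equiv_small hF
  have onto : ∀ (Γ : Type u) [Group Γ] [Finite Γ] (σ : Γ →* Cfsg.POmega F (Cfsg.quadFormPlus 4 F)),
      Cfsg.IsStemExtension σ → ∃ π : Multiplicative (ZMod 2 × ZMod 2) →* σ.ker, Function.Surjective π := by
    intro Γ _ _ σ hσ
    obtain ⟨h4, h2⟩ := ker_small (σ := e.toMonoidHom.comp σ)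
      ⟨e.surjective.comp hσ.1, fun x hx => hσ.2.1 (by simpa using hx), fun x hx => hσ.2.2 (by simpa using hx)⟩
    refine klein_onto (fun a b => Subtype.ext (mem_center_iff.mp (hσ.2.1 b.2) a))
      (fun a => Subtype.ext (h2 a (by simp))) (le_trans ?_ h4)
    exact Nat.card_le_card_of_injective (fun a => (⟨a, by simp⟩ : (e.toMonoidHom.comp σ).ker))
      fun a b h => Subtype.ext (congrArg (fun q : (e.toMonoidHom.comp σ).ker => (q : Γ)) h)
  refine ⟨?_, onto⟩
  obtain ⟨⟨hs, hc, hd⟩, hk⟩ := cover_stem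
  let d : ULift.{u} ↥(genG 480 (coverGens.map Prod.fst)) ≃* ↥(genG 480 (coverGens.map Prod.fst)) := MulEquiv.ulift
  let τ : ULift.{u} ↥(genG 480 (coverGens.map Prod.fst)) →* Cfsg.POmega F (Cfsg.quadFormPlus 4 F) :=
    e.symm.toMonoidHom.comp (proj.comp d.toMonoidHom)
  have hker : ∀ x, x ∈ τ.ker ↔ d x ∈ proj.ker := fun x =>
    ⟨fun h => MonoidHom.mem_ker.mpr (e.symm.injective ((MonoidHom.mem_ker.mp h).trans (map_one e.symm).symm)),
      fun h => MonoidHom.mem_ker.mpr ((congrArg e.symm (MonoidHom.mem_ker.mp h)).trans (map_one e.symm))⟩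
  have hst : Cfsg.IsStemExtension τ := by
    refine ⟨e.symm.surjective.comp (hs.comp d.surjective), fun x hx => ?_, fun x hx => ?_⟩
    · refine mem_center_iff.mpr fun y => d.injective ?_
      rw [map_mul, map_mul]
      exact mem_center_iff.mp (hc ((hker x).mp hx)) _
    · have hm := mem_map_of_mem d.symm.toMonoidHom (hd ((hker x).mp hx))
      rw [_root_.commutator_def, map_commutator, map_top_of_surjective _ d.symm.surjective] at hm
      simpa [_root_.commutator_def] using hm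
  obtain ⟨π, hπ⟩ := onto _ τ hst
  refine ⟨_, inferInstance, inferInstance, τ, hst, ⟨(MulEquiv.ofBijective π
    ((Nat.bijective_iff_surjective_and_card _).mpr ⟨hπ, ?_⟩)).symm⟩⟩
  rw [show Nat.card τ.ker = 4 from (Nat.card_congr (d.toEquiv.subtypeEquiv hker)).trans hk]
  simp

end CfsgLib.StemSylow.OEight
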