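/-
Kernel checks for the double covers of the Suzuki group on 1105 points.
-/
import Cfsg.Agent.Lib.StemSylow.SzEightCover
import Cfsg.Agent.Lib.StemSylow.SzEightData

set_option autoImplicit false
set_option maxRecDepth 30000
set_option maxHeartbeats 1000000

namespace CfsgLib.StemSylow.SzEight

open CfsgPCV

theorem z_ok : isPerm 1105 zCode.1 zCode.2 = true ∧
    ((List.range 65).all fun i => Nat.beq (ap zCode.1 i) i) = true ∧
    Nat.beq (ap zCode.1 65) 65 = false := by decide +kernel

theorem comm_same : ((List.range 4).all fun k => (List.range 65).all fun i =>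
    Nat.beq (ap (commCodesA.getD k (0, 0)).1 i) (ap (commCodesB.getD k (0, 0)).1 i)) = true := by decide +kernel

end CfsgLib.StemSylow.SzEight
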