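/-
Kernel checks for the double covers of the Suzuki group on 1105 points.
-/
import Cfsg.Agent.Lib.StemSylow.SzEightCover
import Cfsg.Agent.Lib.StemSylow.SzEightData

set_option autoImplicit false
set_option maxRecDepth 30000
set_option maxHeartbeats 1000000

namespace CfsgLib.StemSylow.SzEight

open CfsgPCV

theorem permA : (coverGensA.all fun c => isPerm 1105 c.1 c.2) = true ∧ coverGensA.length = 3 := by decide +kernel

theorem projA : ((List.range 3).all fun a => (List.range 65).all fun i =>
    Nat.beq (ap (coverGensA.getD a (0, 0)).1 i) (CfsgPC.ap (smallGens.getD a (0, 0)).1 i)) = true := by decide +kernel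

theorem zsiftA : sift 1105 coverChainA zCode.1 = true ∧ ((List.range 1105).all fun i => (coverGensA.map Prod.fst).all fun g =>
      Nat.beq (ap g (ap zCode.1 i)) (ap zCode.1 (ap g i))) = true := by decide +kernel

theorem shapeA : shapeOK 1105 coverChainA (coverGensA.map Prod.fst) = true ∧ coverChainA.length = 4 ∧
    (coverChainA.map fun L => L.tr.length) = [65, 64, 7, 2] ∧ sizeOfChain coverChainA = 58240 ∧
    ((gensAt 1105 coverChainA (coverGensA.map Prod.fst) 4).all fun c => (List.range 1105).all fun i => Nat.beq (ap c i) i) = true := by
  decide +kernel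

theorem commA_mem : memOK 1105 coverChainA commCodesA = true ∧ commCodesA.length = 4 := by decide +kernel

theorem commA0 : ((List.range 1105).all fun i =>
    Nat.beq (ap (commCodesA.getD 0 (0, 0)).1 (ap (commCodesA.getD 1 (0, 0)).1
      (ap (commCodesA.getD 0 (0, 0)).2 (ap (commCodesA.getD 1 (0, 0)).2 i)))) (ap zCode.1 i)) = true := by decide +kernel

theorem commA1 : ((List.range 1105).all fun i =>
    Nat.beq (ap (commCodesA.getD 2 (0, 0)).1 (ap (commCodesA.getD 3 (0, 0)).1
      (ap (commCodesA.getD 2 (0, 0)).2 (ap (commCodesA.getD 3 (0, 0)).2 i)))) i) = true := by decide +kernel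

theorem entriesA0 : entriesOK 1105 coverChainA (coverGensA.map Prod.fst) 0 0 65 = true := by decide +kernel

theorem closedA0_0 : closedOK 1105 coverChainA (coverGensA.map Prod.fst) 0 0 8 = true := by decide +kernel

theorem closedA0_8 : closedOK 1105 coverChainA (coverGensA.map Prod.fst) 0 8 16 = true := by decide +kernel

theorem closedA0_16 : closedOK 1105 coverChainA (coverGensA.map Prod.fst) 0 16 24 = true := by decide +kernel

theorem closedA0_24 : closedOK 1105 coverChainA (coverGensA.map Prod.fst) 0 24 32 = true := by decide +kernel

theorem closedA0_32 : closedOK 1105 coverChainA (coverGensA.map Prod.fst) 0 32 40 = true := by decide +kernel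

theorem closedA0_40 : closedOK 1105 coverChainA (coverGensA.map Prod.fst) 0 40 48 = true := by decide +kernel

theorem closedA0_48 : closedOK 1105 coverChainA (coverGensA.map Prod.fst) 0 48 56 = true := by decide +kernel

theorem closedA0_56 : closedOK 1105 coverChainA (coverGensA.map Prod.fst) 0 56 64 = true := by decide +kernel

theorem closedA0_64 : closedOK 1105 coverChainA (coverGensA.map Prod.fst) 0 64 65 = true := by decide +kernel

theorem entriesA1 : entriesOK 1105 coverChainA (coverGensA.map Prod.fst) 1 0 64 = true := by decide +kernel

theorem closedA1_0 : closedOK 1105 coverChainA (coverGensA.map Prod.fst) 1 0 8 = true := by decide +kernel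

theorem closedA1_8 : closedOK 1105 coverChainA (coverGensA.map Prod.fst) 1 8 16 = true := by decide +kernel

theorem closedA1_16 : closedOK 1105 coverChainA (coverGensA.map Prod.fst) 1 16 24 = true := by decide +kernel

theorem closedA1_24 : closedOK 1105 coverChainA (coverGensA.map Prod.fst) 1 24 32 = true := by decide +kernel

theorem closedA1_32 : closedOK 1105 coverChainA (coverGensA.map Prod.fst) 1 32 40 = true := by decide +kernel

theorem closedA1_40 : closedOK 1105 coverChainA (coverGensA.map Prod.fst) 1 40 48 = true := by decide +kernel

theorem closedA1_48 : closedOK 1105 coverChainA (coverGensA.map Prod.fst) 1 48 56 = true := by decide +kernel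

theorem closedA1_56 : closedOK 1105 coverChainA (coverGensA.map Prod.fst) 1 56 64 = true := by decide +kernel

theorem entriesA2 : entriesOK 1105 coverChainA (coverGensA.map Prod.fst) 2 0 7 = true := by decide +kernel

theorem closedA2_0 : closedOK 1105 coverChainA (coverGensA.map Prod.fst) 2 0 7 = true := by decide +kernel

theorem entriesA3 : entriesOK 1105 coverChainA (coverGensA.map Prod.fst) 3 0 2 = true := by decide +kernel

theorem closedA3_0 : closedOK 1105 coverChainA (coverGensA.map Prod.fst) 3 0 2 = true := by decide +kernel

end CfsgLib.StemSylow.SzEight
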