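/-
Kernel checks for the double covers of the Suzuki group on 1105 points.
-/
import Cfsg.Agent.Lib.StemSylow.SzEightCover
import Cfsg.Agent.Lib.StemSylow.SzEightData

set_option autoImplicit false
set_option maxRecDepth 30000
set_option maxHeartbeats 1000000

namespace CfsgLib.StemSylow.SzEight

open CfsgPCV

theorem permB : (coverGensB.all fun c => isPerm 1105 c.1 c.2) = true ∧ coverGensB.length = 3 := by decide +kernel

theorem projB : ((List.range 3).all fun a => (List.range 65).all fun i =>
    Nat.beq (ap (coverGensB.getD a (0, 0)).1 i) (CfsgPC.ap (smallGens.getD a (0, 0)).1 i)) = true := by decide +kernel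

theorem zsiftB : sift 1105 coverChainB zCode.1 = true ∧ ((List.range 1105).all fun i => (coverGensB.map Prod.fst).all fun g =>
      Nat.beq (ap g (ap zCode.1 i)) (ap zCode.1 (ap g i))) = true := by decide +kernel

theorem shapeB : shapeOK 1105 coverChainB (coverGensB.map Prod.fst) = true ∧ coverChainB.length = 4 ∧
    (coverChainB.map fun L => L.tr.length) = [65, 64, 7, 2] ∧ sizeOfChain coverChainB = 58240 ∧
    ((gensAt 1105 coverChainB (coverGensB.map Prod.fst) 4).all fun c => (List.range 1105).all fun i => Nat.beq (ap c i) i) = true := by
  decide +kernel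

theorem commB_mem : memOK 1105 coverChainB commCodesB = true ∧ commCodesB.length = 4 := by decide +kernel

theorem commB0 : ((List.range 1105).all fun i =>
    Nat.beq (ap (commCodesB.getD 0 (0, 0)).1 (ap (commCodesB.getD 1 (0, 0)).1
      (ap (commCodesB.getD 0 (0, 0)).2 (ap (commCodesB.getD 1 (0, 0)).2 i)))) i) = true := by decide +kernel

theorem commB1 : ((List.range 1105).all fun i =>
    Nat.beq (ap (commCodesB.getD 2 (0, 0)).1 (ap (commCodesB.getD 3 (0, 0)).1
      (ap (commCodesB.getD 2 (0, 0)).2 (ap (commCodesB.getD 3 (0, 0)).2 i)))) (ap zCode.1 i)) = true := by decide +kernel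

theorem entriesB0 : entriesOK 1105 coverChainB (coverGensB.map Prod.fst) 0 0 65 = true := by decide +kernel

theorem closedB0_0 : closedOK 1105 coverChainB (coverGensB.map Prod.fst) 0 0 8 = true := by decide +kernel

theorem closedB0_8 : closedOK 1105 coverChainB (coverGensB.map Prod.fst) 0 8 16 = true := by decide +kernel

theorem closedB0_16 : closedOK 1105 coverChainB (coverGensB.map Prod.fst) 0 16 24 = true := by decide +kernel

theorem closedB0_24 : closedOK 1105 coverChainB (coverGensB.map Prod.fst) 0 24 32 = true := by decide +kernel

theorem closedB0_32 : closedOK 1105 coverChainB (coverGensB.map Prod.fst) 0 32 40 = true := by decide +kernel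

theorem closedB0_40 : closedOK 1105 coverChainB (coverGensB.map Prod.fst) 0 40 48 = true := by decide +kernel

theorem closedB0_48 : closedOK 1105 coverChainB (coverGensB.map Prod.fst) 0 48 56 = true := by decide +kernel

theorem closedB0_56 : closedOK 1105 coverChainB (coverGensB.map Prod.fst) 0 56 64 = true := by decide +kernel

theorem closedB0_64 : closedOK 1105 coverChainB (coverGensB.map Prod.fst) 0 64 65 = true := by decide +kernel

theorem entriesB1 : entriesOK 1105 coverChainB (coverGensB.map Prod.fst) 1 0 64 = true := by decide +kernel

theorem closedB1_0 : closedOK 1105 coverChainB (coverGensB.map Prod.fst) 1 0 8 = true := by decide +kernel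

theorem closedB1_8 : closedOK 1105 coverChainB (coverGensB.map Prod.fst) 1 8 16 = true := by decide +kernel

theorem closedB1_16 : closedOK 1105 coverChainB (coverGensB.map Prod.fst) 1 16 24 = true := by decide +kernel

theorem closedB1_24 : closedOK 1105 coverChainB (coverGensB.map Prod.fst) 1 24 32 = true := by decide +kernel

theorem closedB1_32 : closedOK 1105 coverChainB (coverGensB.map Prod.fst) 1 32 40 = true := by decide +kernel

theorem closedB1_40 : closedOK 1105 coverChainB (coverGensB.map Prod.fst) 1 40 48 = true := by decide +kernel

theorem closedB1_48 : closedOK 1105 coverChainB (coverGensB.map Prod.fst) 1 48 56 = true := by decide +kernel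

theorem closedB1_56 : closedOK 1105 coverChainB (coverGensB.map Prod.fst) 1 56 64 = true := by decide +kernel

theorem entriesB2 : entriesOK 1105 coverChainB (coverGensB.map Prod.fst) 2 0 7 = true := by decide +kernel

theorem closedB2_0 : closedOK 1105 coverChainB (coverGensB.map Prod.fst) 2 0 7 = true := by decide +kernel

theorem entriesB3 : entriesOK 1105 coverChainB (coverGensB.map Prod.fst) 3 0 2 = true := by decide +kernel

theorem closedB3_0 : closedOK 1105 coverChainB (coverGensB.map Prod.fst) 3 0 2 = true := by decide +kernel

end CfsgLib.StemSylow.SzEight
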