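/-
Kernel checks for the Suzuki group of degree 65 and its Sylow collector.
-/
import Cfsg.Agent.Lib.StemSylow.SzEightData

set_option autoImplicit false
set_option maxRecDepth 30000
set_option maxHeartbeats 1000000

namespace CfsgLib.StemSylow.SzEight

open CfsgPC CfsgLib.StemSylow

theorem small_perm : (smallGens.all fun c => isPerm 65 c.1 c.2) = true ∧ smallGens.length = 3 := by decide +kernel

theorem small_shape : shapeOK 65 smallChain (smallGens.map Prod.fst) = true ∧
    (smallChain.map fun L => L.tr.length) = [65, 64, 7] ∧ sizeOfChain smallChain = 29120 := by decide +kernel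

theorem small_entries : ((List.range 3).all fun j => entriesOK 65 smallChain (smallGens.map Prod.fst) j 0
    ([65, 64, 7].getD j 0)) = true := by decide +kernel

theorem cyc_ok : (cycCodes.all fun d => isPerm 65 d.2.1 d.2.2 && sift 65 smallChain d.2.1 &&
    (List.range 65).all (fun i => Nat.beq (apN d.2.1 d.1 i) i) &&
    !((List.range 65).all fun i => Nat.beq (ap d.2.1 i) i)) = true ∧ cycCodes.map Prod.fst = [5, 7, 13] := by decide +kernel

theorem memTwo : memOK 65 smallChain (gcTwo ++ tcTwo) = true := by decide +kernel

theorem factsTwo : factsB smallChain certTwo.facts (gcTwo.map Prod.fst) (tcTwo.map Prod.fst) = true := by decide +kernel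

theorem subTwo_shape : shapeOK 65 subTwo (gcTwo.map Prod.fst) = true ∧
    (subTwo.map fun L => L.tr.length) = [64] ∧ sizeOfChain subTwo = 64 ∧
    (tcTwo.map Prod.fst).head? = some (idk 65) ∧ gcTwo.length = certTwo.n := by decide +kernel

theorem subTwo_entries : ((List.range 1).all fun j => entriesOK 65 subTwo (gcTwo.map Prod.fst) j 0
    ([64].getD j 0)) = true := by decide +kernel

theorem eqsTwo_all : ((List.range 23).all fun k => certTwo.eqOK k) = true ∧ certTwo.eqs.length = 23 ∧ certTwo.exOK = true := by decide +kernel

theorem relTwo : ((List.range 6).all fun i => (List.range 6).all fun j => Nat.blt j i || certTwo.relOK i j) = true ∧ certTwo.n = 6 := by decide +kernel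

end CfsgLib.StemSylow.SzEight
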