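/-
The group Sz(8) as a permutation group of its ovoid of 65 points.
-/
import Cfsg.Agent.Lib.Suzuki.Lie
import Cfsg.Agent.Lib.PermChain.Model
import Cfsg.Agent.Lib.StemSylow.SzEightChecks

set_option autoImplicit false
set_option maxRecDepth 30000
set_option linter.unusedSectionVars false

namespace CfsgLib.StemSylow.SzEight

open Equiv CfsgPC CfsgLib.Suzuki

attribute [local irreducible] smallChain smallGens

/-- Multiplication by the root, on codes. -/
def sh8 (a : ℕ) : ℕ := ((a <<< 1) &&& 7) ^^^ (if a.testBit 2 then 3 else 0)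

/-- Multiplication of codes. -/
def mul8 (a b : ℕ) : ℕ :=
  (if b.testBit 0 then a else 0) ^^^ (if b.testBit 1 then sh8 a else 0) ^^^ (if b.testBit 2 then sh8 (sh8 a) else 0)

def th8 (a : ℕ) : ℕ := mul8 (mul8 a a) (mul8 a a)

def inv8 (a : ℕ) : ℕ := [0, 1, 5, 6, 7, 2, 3, 4].getD a 0

def fp8 (a b : ℕ) : ℕ := mul8 a b ^^^ mul8 (th8 a) (mul8 a a) ^^^ th8 b

theorem code_ok : (∀ a < 8, sh8 a < 8 ∧ th8 a < 8 ∧ inv8 a < 8 ∧ (a ≠ 0 → mul8 a (inv8 a) = 1)) ∧
    (∀ a < 8, ∀ b < 8, mul8 a b < 8 ∧ a ^^^ b < 8 ∧ (fp8 a b = 0 → a = 0 ∧ b = 0) ∧ fp8 a b < 8) := by decide +kernel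

/-- The first generator on the points. -/
def move0 (a b : ℕ) : ℕ := 1 + 8 * (a ^^^ 1) + (b ^^^ mul8 (th8 1) a)

/-- The second generator on the points. -/
def move1 (a b : ℕ) : ℕ := 1 + 8 * mul8 (th8 2) a + mul8 (mul8 (th8 2) (mul8 2 2)) b

/-- The third generator on the points. -/
def move2 (a b : ℕ) : ℕ :=
  if Nat.beq a 0 && Nat.beq b 0 then 0 else 1 + 8 * mul8 b (inv8 (fp8 a b)) + mul8 a (inv8 (fp8 a b))

theorem gens_ok : ap (smallGens.getD 0 (0, 0)).1 0 = 0 ∧ ap (smallGens.getD 1 (0, 0)).1 0 = 0 ∧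
    ap (smallGens.getD 2 (0, 0)).1 0 = 1 ∧ ∀ a < 8, ∀ b < 8,
      ap (smallGens.getD 0 (0, 0)).1 (1 + 8 * a + b) = move0 a b ∧
      ap (smallGens.getD 1 (0, 0)).1 (1 + 8 * a + b) = move1 a b ∧
      ap (smallGens.getD 2 (0, 0)).1 (1 + 8 * a + b) = move2 a b := by decide +kernel

variable {F : Type*} [Field F]

/-- The element of a code, in terms of a root. -/
def iota (w : F) (c : ℕ) : F :=
  (if c.testBit 0 then 1 else 0) + (if c.testBit 1 then w else 0) + (if c.testBit 2 then w ^ 2 else 0)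

section root

variable {w : F} (h2 : (2 : F) = 0) (hw : w ^ 3 + w + 1 = 0)

include h2

theorem iota_xor (a b : ℕ) : iota w (a ^^^ b) = iota w a + iota w b := by
  have key : ∀ (p q : Bool) (x : F), (if (p ^^ q) = true then x else 0) =
      (if p = true then x else 0) + (if q = true then x else 0) := by
    intro p q x
    cases p <;> cases q <;> simp
    linear_combination (-x) * h2
  simp only [iota, Nat.testBit_xor, key]
  ring

theorem iota_if (p : Bool) (a : ℕ) : iota w (if p = true then a else 0) = if p = true then iota w a else 0 := by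
  cases p <;> simp [iota]

include hw

theorem iota_sh {a : ℕ} (ha : a < 8) : iota w (sh8 a) = w * iota w a := by
  interval_cases a <;> simp [iota, sh8, Nat.testBit, Nat.shiftLeft_eq, Nat.shiftRight_eq_div_pow]
  all_goals first
    | ring1
    | linear_combination hw - h2
    | linear_combination -hw
    | linear_combination (-1 : F) * hw + h2 * (w + 1)
    | linear_combination hw + (-w) * h2
    | linear_combination hw
    | linear_combination (-1 : F) * hw + h2

theorem iota_mul {a b : ℕ} (ha : a < 8) : iota w (mul8 a b) = iota w a * iota w b := by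
  rw [mul8, iota_xor h2, iota_xor h2, iota_if h2, iota_if h2, iota_if h2, iota_sh h2 hw (code_ok.1 a ha).1,
    iota_sh h2 hw ha]
  simp only [iota]
  split_ifs <;> ring

theorem iota_th {a : ℕ} (ha : a < 8) : iota w (th8 a) = th 1 (iota w a) := by
  rw [th8, iota_mul h2 hw (code_ok.2 a ha a ha).1, iota_mul h2 hw ha, th]
  ring

theorem iota_one : iota w 1 = 1 := by simp [iota, Nat.testBit]

theorem iota_inv {a : ℕ} (ha : a < 8) : iota w (inv8 a) = (iota w a)⁻¹ := by
  by_cases h0 : a = 0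
  · subst h0; simp [iota, inv8, Nat.testBit]
  refine eq_inv_of_mul_eq_one_right ?_
  rw [← iota_mul h2 hw ha, (code_ok.1 a ha).2.2.2 h0, iota_one h2 hw]

theorem iota_fp {a b : ℕ} (ha : a < 8) (hb : b < 8) : iota w (fp8 a b) = fp 1 (iota w a) (iota w b) := by
  rw [fp8, iota_xor h2, iota_xor h2, iota_mul h2 hw ha, iota_mul h2 hw (code_ok.1 a ha).2.1, iota_mul h2 hw ha,
    iota_th h2 hw ha, iota_th h2 hw hb, fp, sq]

theorem iota_zero {a : ℕ} (ha : a < 8) (h : iota w a = 0) : a = 0 := by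
  by_contra h0
  have := iota_mul h2 hw (b := inv8 a) ha
  rw [(code_ok.1 a ha).2.2.2 h0, iota_one h2 hw, h, zero_mul] at this
  exact one_ne_zero this

theorem iota_inj {a b : ℕ} (ha : a < 8) (hb : b < 8) (h : iota w a = iota w b) : a = b := by
  have h0 : iota w (a ^^^ b) = 0 := by
    rw [iota_xor h2, h]
    linear_combination (iota w b) * h2
  exact Nat.xor_eq_zero_iff.mp (iota_zero h2 hw (code_ok.2 a ha b hb).2.1 h0)

end root

theorem exists_root [Fintype F] (hF : Fintype.card F = 8) : ∃ w : F, w ^ 3 + w + 1 = 0 := by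
  classical
  have h2 : (2 : F) = 0 := two_eq_zero (m := 1) (by rw [hF]; norm_num)
  obtain ⟨t, ht⟩ : ∃ t : F, t ∉ ({0, 1} : Finset F) := by
    by_contra hn
    push Not at hn
    have hc := Finset.card_le_card (s := (Finset.univ : Finset F)) (t := {0, 1}) fun x _ => hn x
    rw [Finset.card_univ, hF] at hc
    exact absurd (hc.trans Finset.card_le_two) (by norm_num)
  simp only [Finset.mem_insert, Finset.mem_singleton, not_or] at ht
  have h7 : t ^ 7 = 1 := by
    have := FiniteField.pow_card_sub_one_eq_one t ht.1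
    rwa [hF] at this
  have hf : (t ^ 3 + t + 1) * (t ^ 3 + t ^ 2 + 1) * (t + 1) = 0 := by
    linear_combination h7 + (t ^ 6 + t ^ 5 + 2 * t ^ 4 + 2 * t ^ 3 + t ^ 2 + t + 1) * h2
  rcases mul_eq_zero.mp hf with h | h
  · rcases mul_eq_zero.mp h with h | h
    · exact ⟨t, h⟩
    · refine ⟨t⁻¹, ?_⟩
      have h0 := ht.1
      field_simp
      linear_combination h
  · exact absurd (show t = 1 by linear_combination h - h2) ht.2

section group

variable [Fintype F] (hF : Fintype.card F = 2 ^ (2 * 1 + 1))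

/-- The points of the ovoid. -/
def ovPt (w : F) (i : Fin 65) : Projectivization F (Fin 4 → F) :=
  if (i : ℕ) = 0 then Cfsg.suzukiPointInfinity F else pt 1 (iota w (((i : ℕ) - 1) / 8)) (iota w (((i : ℕ) - 1) % 8))

theorem ovPt_succ (w : F) {i : Fin 65} {a b : ℕ} (hb : b < 8) (h : (i : ℕ) = 1 + 8 * a + b) :
    ovPt w i = pt 1 (iota w a) (iota w b) := by
  rw [ovPt, if_neg (by omega), show ((i : ℕ) - 1) / 8 = a by omega, show ((i : ℕ) - 1) % 8 = b by omega]

include hF in
theorem ovPt_injective {w : F} (hw : w ^ 3 + w + 1 = 0) : Function.Injective (ovPt w) := by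
  have h2 : (2 : F) = 0 := two_eq_zero hF
  intro i j h
  unfold ovPt at h
  split_ifs at h with hi hj hj
  · exact Fin.ext (by omega)
  · exact absurd h.symm (pt_ne_inf _ _)
  · exact absurd h (pt_ne_inf _ _)
  · obtain ⟨e1, e2⟩ := pt_injective h
    have q1 := iota_inj h2 hw (by omega) (by omega) e1
    have q2 := iota_inj h2 hw (by omega) (by omega) e2
    exact Fin.ext (by omega)

include hF

theorem small_model : Valid 65 (smallGens.map Prod.fst) ∧ TableOK 65 smallChain (smallGens.map Prod.fst) ∧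
    prodSet 65 smallChain = genG 65 (smallGens.map Prod.fst) ∧
    Nat.card (genG 65 (smallGens.map Prod.fst)) = 29120 ∧
    Nonempty (↥(Cfsg.Sz F 1) ≃* ↥(genG 65 (smallGens.map Prod.fst))) := by
  have hv : Valid 65 (smallGens.map Prod.fst) := fun c hc => by
    obtain ⟨d, hd, rfl⟩ := List.mem_map.mp hc
    exact ⟨_, decP_rep (List.all_eq_true.mp small_perm.1 d hd)⟩
  obtain ⟨hs, hlens, hsize⟩ := small_shape
  have hT : TableOK 65 smallChain (smallGens.map Prod.fst) := tableOK_of_checks hs fun j hj k hk => by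
    have hl : smallChain.length = 3 := by simpa using congrArg List.length hlens
    refine of_entriesOK (List.all_eq_true.mp small_entries j (List.mem_range.mpr (hl ▸ hj))) (Nat.zero_le _) ?_
    rw [← hlens, List.getD_eq_getElem _ _ (by simpa using hj), List.getElem_map]
    rwa [List.getD_eq_getElem _ _ hj] at hk
  obtain ⟨w, hw⟩ := exists_root (F := F) (by rw [hF]; norm_num)
  have h2 : (2 : F) = 0 := two_eq_zero hF
  have hw0 : w ≠ 0 := fun e => by subst e; simp at hw
  have e1 : iota w 1 = 1 := iota_one h2 hw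
  have e2 : iota w 2 = w := by simp [iota, Nat.testBit]
  have e0 : iota w 0 = 0 := by simp [iota, Nat.testBit]
  obtain ⟨g00, g10, g20, gm⟩ := gens_ok
  have hG : Nat.card ↥(Cfsg.Sz F 1) = 29120 := by rw [card_Sz hF le_rfl]; norm_num
  have act : ∀ a < 3, ∃ g : ↥(Cfsg.Sz F 1), ∀ i j : Fin 65, (j : ℕ) = ap (smallGens.getD a (0, 0)).1 i →
      g • ovPt w i = ovPt w j := by
    intro a ha
    have hsplit : ∀ i : Fin 65, (i : ℕ) = 0 ∨ ∃ x < 8, ∃ y < 8, (i : ℕ) = 1 + 8 * x + y := fun i => by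
      rcases Nat.eq_zero_or_pos (i : ℕ) with h | h
      · exact Or.inl h
      · exact Or.inr ⟨((i : ℕ) - 1) / 8, by omega, ((i : ℕ) - 1) % 8, by omega, by omega⟩
    interval_cases a
    · refine ⟨uS hF 1 0, fun i j hj => ?_⟩
      rcases hsplit i with hi | ⟨x, hx, y, hy, hi⟩
      · rw [hi, g00] at hj
        rw [ovPt, if_pos hi, ovPt, if_pos hj]
        exact smul_uS_inf hF _ _
      · rw [hi, (gm x hx y hy).1, move0] at hj
        rw [ovPt_succ w hy hi, ovPt_succ w (code_ok.2 y hy _ (code_ok.2 _ (code_ok.1 1 (by norm_num)).2.1 x hx).1).2.1 hj]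
        show (uEl 1 1 0 : Matrix.SpecialLinearGroup (Fin 4) F) • pt 1 (iota w x) (iota w y) = _
        rw [uEl_smul_pt hF, iota_xor h2, iota_xor h2, iota_mul h2 hw (code_ok.1 1 (by norm_num)).2.1,
          iota_th h2 hw (by norm_num), e1, add_zero]
    · refine ⟨dS hF (Units.mk0 w hw0), fun i j hj => ?_⟩
      rcases hsplit i with hi | ⟨x, hx, y, hy, hi⟩
      · rw [hi, g10] at hj
        rw [ovPt, if_pos hi, ovPt, if_pos hj]
        exact smul_dS_inf hF _
      · have t2 := (code_ok.1 2 (by norm_num)).2.1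
        have s2 := (code_ok.2 2 (by norm_num) 2 (by norm_num)).1
        have c2 := (code_ok.2 _ t2 _ s2).1
        rw [hi, (gm x hx y hy).2.1, move1] at hj
        rw [ovPt_succ w hy hi, ovPt_succ w (code_ok.2 _ c2 y hy).1 hj]
        show (dEl 1 (Units.mk0 w hw0) : Matrix.SpecialLinearGroup (Fin 4) F) • pt 1 (iota w x) (iota w y) = _
        rw [dEl_smul_pt hF, iota_mul h2 hw t2, iota_mul h2 hw c2, iota_mul h2 hw t2, iota_mul h2 hw (by norm_num),
          iota_th h2 hw (by norm_num), e2, Units.val_mk0, sq]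
    · refine ⟨wS hF, fun i j hj => ?_⟩
      rcases hsplit i with hi | ⟨x, hx, y, hy, hi⟩
      · rw [hi, g20] at hj
        rw [ovPt, if_pos hi, ovPt_succ w (a := 0) (b := 0) (by norm_num) (hj.trans rfl), e0, pt_zero]
        exact smul_wS_inf hF
      · rw [hi, (gm x hx y hy).2.2, move2] at hj
        rw [ovPt_succ w hy hi]
        by_cases h0 : x = 0 ∧ y = 0
        · obtain ⟨rfl, rfl⟩ := h0
          rw [ovPt, if_pos (by simpa using hj), e0, pt_zero]
          exact smul_wS_zero hF
        · rw [if_neg (by simpa using h0)] at hj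
          have hf := (code_ok.1 _ (code_ok.2 x hx y hy).2.2.2).2.2.1
          rw [ovPt_succ w (code_ok.2 x hx _ hf).1 hj]
          show (wEl : Matrix.SpecialLinearGroup (Fin 4) F) • pt 1 (iota w x) (iota w y) = _
          rw [wEl_smul_pt hF (not_and_or.mp fun h => h0 ⟨iota_zero h2 hw hx h.1, iota_zero h2 hw hy h.2⟩),
            iota_mul h2 hw hy, iota_mul h2 hw hx, iota_inv h2 hw (code_ok.2 x hx y hy).2.2.2, iota_fp h2 hw hx hy,
            div_eq_mul_inv, div_eq_mul_inv]
  have hge : 29120 ≤ Nat.card (genG 65 (smallGens.map Prod.fst)) := by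
    obtain ⟨hsub, hc⟩ := table_products (by norm_num) hT hv
    rw [← hsize, ← hc, ← Nat.card_coe_set_eq]
    exact Nat.card_mono (Set.toFinite _) hsub
  have hg : ∀ c ∈ smallGens.map Prod.fst, ∃ g : ↥(Cfsg.Sz F 1), ∃ p : Perm (Fin 65), Rep 65 c p ∧
      ∀ i, g • ovPt w i = ovPt w (p i) := by
    intro c hc
    obtain ⟨a, ha, rfl⟩ := List.getElem_of_mem hc
    rw [List.length_map] at ha
    obtain ⟨p, hp⟩ := hv _ hc
    obtain ⟨g, hgm⟩ := act a (small_perm.2 ▸ ha)
    refine ⟨g, p, hp, fun i => hgm i (p i) ?_⟩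
    rw [← hp i, List.getElem_map, List.getD_eq_getElem _ _ ha]
  have hinj := ovPt_injective hF hw
  obtain ⟨e⟩ := exists_model hinj hg (hG.trans_le hge)
  have hcard : Nat.card (genG 65 (smallGens.map Prod.fst)) = 29120 := (Nat.card_congr e.toEquiv).symm.trans hG
  obtain ⟨heq, -⟩ := table_eq (by norm_num) hT hv (by rw [hcard, hsize])
  exact ⟨hv, hT, heq, hcard, ⟨e⟩⟩

end group

end CfsgLib.StemSylow.SzEight
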