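/-
The multiplier of Sz(8) is a four-group.
-/
import Cfsg.Agent.Lib.StemSylow.SzEightGroup
import Cfsg.Agent.Lib.StemSylow.SzEightCoverChecks
import Cfsg.Agent.Lib.StemSylow.SzEightCoverChecksA
import Cfsg.Agent.Lib.StemSylow.SzEightCoverChecksB
import Cfsg.Agent.Lib.PermChain.Schur

set_option autoImplicit false
set_option maxRecDepth 30000
set_option linter.unusedSectionVars false
set_option linter.style.haveILetI false

namespace CfsgLib.StemSylow.SzEight

open Equiv Subgroup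
open scoped commutatorElement

universe u

attribute [local irreducible] smallChain smallGens coverChainA coverChainB coverGensA coverGensB gcTwo tcTwo subTwo
  zCode commCodesA commCodesB cycCodes

/-- Sz(8) on 65 points. -/
abbrev SmallSz := ↥(CfsgPC.genG 65 (smallGens.map Prod.fst))

/-- What the small group is known to satisfy. -/
abbrev SmallOK : Prop :=
  CfsgPC.Valid 65 (smallGens.map Prod.fst) ∧ CfsgPC.TableOK 65 smallChain (smallGens.map Prod.fst) ∧
    CfsgPC.prodSet 65 smallChain = CfsgPC.genG 65 (smallGens.map Prod.fst) ∧ Nat.card SmallSz = 29120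

/-- The first 65 points. -/
def lo (i : Fin 65) : Fin 1105 := ⟨i, by omega⟩

theorem lo_injective : Function.Injective lo := fun a b h => Fin.ext (by simpa [lo] using congrArg Fin.val h)

/-! ### A double cover -/

open CfsgPCV in
/-- A double cover on 1105 points. -/
theorem cover_spec (h : SmallOK) (gens : List (ℕ × ℕ)) (ls : List Level)
    (hperm : (gens.all fun c => isPerm 1105 c.1 c.2) = true ∧ gens.length = 3)
    (hproj : ((List.range 3).all fun a => (List.range 65).all fun i =>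
      Nat.beq (ap (gens.getD a (0, 0)).1 i) (CfsgPC.ap (smallGens.getD a (0, 0)).1 i)) = true)
    (hzs : sift 1105 ls zCode.1 = true ∧ ((List.range 1105).all fun i => (gens.map Prod.fst).all fun g =>
      Nat.beq (ap g (ap zCode.1 i)) (ap zCode.1 (ap g i))) = true)
    (hT : TableOK 1105 ls (gens.map Prod.fst))
    (hcard : Nat.card (genG 1105 (gens.map Prod.fst)) = 58240) :
    ∃ (π : ↥(genG 1105 (gens.map Prod.fst)) →* SmallSz) (z : ↥(genG 1105 (gens.map Prod.fst))),
      Function.Surjective π ∧ Rep 1105 zCode.1 (z : Perm (Fin 1105)) ∧ z ≠ 1 ∧ π.ker ≤ Subgroup.center _ ∧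
      (∀ x, x ∈ π.ker ↔ x = 1 ∨ x = z) ∧
      ∀ (g : ↥(genG 1105 (gens.map Prod.fst))) i, (g : Perm (Fin 1105)) (lo i) = lo ((π g : Perm (Fin 65)) i) := by
  classical
  have hv : Valid 1105 (gens.map Prod.fst) := fun c hc => by
    obtain ⟨d, hd, rfl⟩ := List.mem_map.mp hc
    exact ⟨_, decP_rep (List.all_eq_true.mp hperm.1 d hd)⟩
  have hsl : smallGens.length = 3 := small_perm.2
  have ovr : ∀ {a : ℕ}, a < 3 → ∀ {g : Perm (Fin 1105)}, Rep 1105 (gens.getD a (0, 0)).1 g →
      ∃ x : SmallSz, CfsgPC.Rep 65 (smallGens.getD a (0, 0)).1 (x : Perm (Fin 65)) ∧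
        ∀ i, g (lo i) = lo ((x : Perm (Fin 65)) i) := by
    intro a ha g hg
    have ha' : a < smallGens.length := hsl.symm ▸ ha
    have hm : smallGens[a].1 ∈ smallGens.map Prod.fst := List.mem_map.mpr ⟨_, List.getElem_mem ha', rfl⟩
    obtain ⟨x, hx⟩ := h.1 _ hm
    refine ⟨⟨x, CfsgPC.Valid.mem hm hx⟩, by rw [List.getD_eq_getElem _ _ ha']; exact hx, fun i => Fin.ext ?_⟩
    have := Nat.eq_of_beq_eq_true
      (List.all_eq_true.mp (List.all_eq_true.mp hproj a (List.mem_range.mpr ha)) i (List.mem_range.mpr i.2))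
    rw [List.getD_eq_getElem (l := smallGens) _ ha', hx i] at this
    rw [← hg (lo i)]
    exact this
  have hex : ∀ g : ↥(genG 1105 (gens.map Prod.fst)),
      ∃ x : SmallSz, ∀ i, (g : Perm (Fin 1105)) (lo i) = lo ((x : Perm (Fin 65)) i) := by
    rintro ⟨g, hg⟩
    induction hg using closure_induction with
    | mem g hg =>
      obtain ⟨c, hc, hgr⟩ := hg
      obtain ⟨a, ha, rfl⟩ := List.getElem_of_mem hc
      rw [List.length_map] at ha
      rw [List.getElem_map, ← List.getD_eq_getElem (d := (0, 0)) _ ha] at hgr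
      obtain ⟨x, -, hx⟩ := ovr (hperm.2 ▸ ha) hgr
      exact ⟨x, hx⟩
    | one => exact ⟨1, fun i => rfl⟩
    | mul a b _ _ ha hb =>
      obtain ⟨x, hx⟩ := ha
      obtain ⟨y, hy⟩ := hb
      exact ⟨x * y, fun i => by simp [Perm.mul_apply, hx, hy]⟩
    | inv a _ ha =>
      obtain ⟨x, hx⟩ := ha
      refine ⟨x⁻¹, fun i => ?_⟩
      show a⁻¹ (lo i) = _
      rw [Perm.inv_eq_iff_eq, hx]
      simp
  let π : ↥(genG 1105 (gens.map Prod.fst)) →* SmallSz :=
    MonoidHom.mk' (fun g => (hex g).choose) fun g k => Subtype.ext (Equiv.ext fun i => lo_injective (by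
      rw [← (hex (g * k)).choose_spec i, Subgroup.coe_mul, Subgroup.coe_mul, Perm.mul_apply, Perm.mul_apply,
        (hex k).choose_spec i, (hex g).choose_spec]))
  have happ : ∀ (g : ↥(genG 1105 (gens.map Prod.fst))) i, (g : Perm (Fin 1105)) (lo i) = lo ((π g : Perm (Fin 65)) i) := fun g => (hex g).choose_spec
  have hsurj : Function.Surjective π := by
    rintro ⟨x, hx⟩
    suffices hs : x ∈ π.range.map (CfsgPC.genG 65 (smallGens.map Prod.fst)).subtype by
      obtain ⟨-, ⟨g, rfl⟩, e⟩ := hs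
      exact ⟨g, Subtype.ext e⟩
    refine closure_le _ |>.mpr ?_ hx
    rintro x ⟨c, hc, hx⟩
    obtain ⟨a, ha, rfl⟩ := List.getElem_of_mem hc
    rw [List.length_map] at ha
    rw [List.getElem_map, ← List.getD_eq_getElem (d := (0, 0)) _ ha] at hx
    have ha3 : a < gens.length := by rw [hperm.2, ← hsl]; exact ha
    have hgr := decP_rep (List.all_eq_true.mp hperm.1 _ (List.getElem_mem ha3))
    obtain ⟨y, hy, hiy⟩ := ovr (hsl ▸ ha) (g := decP 1105 gens[a].1) (by rwa [List.getD_eq_getElem _ _ ha3])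
    refine ⟨π ⟨_, Valid.mem (List.mem_map.mpr ⟨_, List.getElem_mem ha3, rfl⟩) hgr⟩, ⟨_, rfl⟩, ?_⟩
    refine Equiv.ext fun i => lo_injective ?_
    show lo ((π _ : Perm (Fin 65)) i) = lo (x i)
    rw [← happ, hiy i, hy.unique hx]
  obtain ⟨hzp, hzfix, hz65⟩ := z_ok
  have hzr := decP_rep hzp
  let z : ↥(genG 1105 (gens.map Prod.fst)) :=
    ⟨decP 1105 zCode.1, mem_of_sift (by norm_num) hT hv _ _ hzr hzs.1⟩
  have hker : Nat.card π.ker = 2 := by
    have h' := π.ker.card_mul_index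
    rw [index_ker, MonoidHom.range_eq_top.mpr hsurj, card_top, h.2.2.2, hcard] at h'
    omega
  have hzk : z ∈ π.ker := by
    refine MonoidHom.mem_ker.mpr (Subtype.ext (Equiv.ext fun i => lo_injective ?_))
    rw [← happ]
    refine Fin.ext ((hzr (lo i)).symm.trans ?_)
    exact Nat.eq_of_beq_eq_true (List.all_eq_true.mp hzfix i (List.mem_range.mpr i.2))
  have hz1 : z ≠ 1 := fun e => by
    have h' := hzr ⟨65, by norm_num⟩
    rw [show decP 1105 zCode.1 = 1 from congrArg Subtype.val e] at h'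
    rw [show ap zCode.1 65 = 65 from h'] at hz65
    simp at hz65
  have hall : ∀ x ∈ π.ker, x = 1 ∨ x = z := by
    intro x hx
    by_contra hh
    push Not at hh
    have h3 : ({1, z, x} : Set ↥(genG 1105 (gens.map Prod.fst))).ncard ≤ 2 := by
      rw [← hker]
      refine (Set.ncard_le_ncard (t := (π.ker : Set _)) ?_ (Set.toFinite _)).trans_eq (Nat.card_coe_set_eq _).symm
      rintro y (rfl | rfl | rfl)
      exacts [one_mem _, hzk, hx]
    rw [Set.ncard_insert_of_notMem (by simp [hz1.symm, hh.1.symm]), Set.ncard_pair (Ne.symm hh.2)] at h3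
    omega
  refine ⟨π, z, hsurj, hzr, hz1, fun x hx => ?_, fun x => ⟨hall x, ?_⟩, happ⟩
  · rcases hall x hx with rfl | rfl
    · exact one_mem _
    · refine mem_center_iff.mpr fun y => Subtype.ext ?_
      show (y : Perm (Fin 1105)) * decP 1105 zCode.1 = decP 1105 zCode.1 * y
      obtain ⟨y, hy⟩ := y
      refine (show y ∈ centralizer ({decP 1105 zCode.1} : Set (Perm (Fin 1105))) from ?_) |> fun h' =>
        (mem_centralizer_singleton_iff.mp h')
      refine (closure_le _).mpr ?_ hy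
      rintro g ⟨c, hc, hg⟩
      refine mem_centralizer_singleton_iff.mpr (Equiv.ext fun i => Fin.ext ?_)
      rw [Perm.mul_apply, Perm.mul_apply, ← hg, ← hzr, ← hzr, ← hg]
      exact Nat.eq_of_beq_eq_true (List.all_eq_true.mp (List.all_eq_true.mp hzs.2 i (List.mem_range.mpr i.2)) c hc)
  · rintro (rfl | rfl)
    exacts [one_mem _, hzk]

open CfsgPCV in
theorem group_of_checks {gens : List ℕ} {ls : List Level} (hv : Valid 1105 gens)
    (hs : shapeOK 1105 ls gens = true ∧ ls.length = 4 ∧ (ls.map fun L => L.tr.length) = [65, 64, 7, 2] ∧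
      sizeOfChain ls = 58240 ∧
      ((gensAt 1105 ls gens 4).all fun c => (List.range 1105).all fun i => Nat.beq (ap c i) i) = true)
    (he : ∀ j < 4, entriesOK 1105 ls gens j 0 ([65, 64, 7, 2].getD j 0) = true)
    (hc : ∀ j < 4, ∀ k < [65, 64, 7, 2].getD j 0, ∃ a b, a ≤ k ∧ k < b ∧ closedOK 1105 ls gens j a b = true) :
    TableOK 1105 ls gens ∧ Nat.card (genG 1105 gens) = 58240 := by
  obtain ⟨hsh, hl, hlens, hsize, hlast⟩ := hs
  have hlen : ∀ j, j < ls.length → ∀ k < (ls.getD j ⟨0, [], [], []⟩).tr.length,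
      k < [65, 64, 7, 2].getD j 0 := fun j hj k hk => by
    rw [← hlens, List.getD_eq_getElem _ _ (by simpa using hj), List.getElem_map]
    rwa [List.getD_eq_getElem _ _ hj] at hk
  have hT : TableOK 1105 ls gens := tableOK_of_checks hsh fun j hj k hk =>
    of_entriesOK (he j (hl ▸ hj)) (Nat.zero_le _) (hlen j hj k hk)
  have hp := table_closed (by norm_num) hT hv (fun j hj k hk => by
      obtain ⟨a, b, ha, hb, hck⟩ := hc j (hl ▸ hj) k (hlen j hj k hk)
      exact of_closedOK hck ha hb)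
    (fun c hc' i hi => by
      rw [hl] at hc'
      exact Nat.eq_of_beq_eq_true (List.all_eq_true.mp (List.all_eq_true.mp hlast c hc') i (List.mem_range.mpr hi)))
  refine ⟨hT, ?_⟩
  rw [← hsize, ← (table_products (by norm_num) hT hv).2, hp, ← Nat.card_coe_set_eq]
  rfl

open CfsgPCV in
theorem groupA : TableOK 1105 coverChainA (coverGensA.map Prod.fst) ∧
    Nat.card (genG 1105 (coverGensA.map Prod.fst)) = 58240 := by
  refine group_of_checks (fun c hc => ?_) shapeA (fun j hj => ?_) fun j hj k hk => ?_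
  · obtain ⟨d, hd, rfl⟩ := List.mem_map.mp hc
    exact ⟨_, decP_rep (List.all_eq_true.mp permA.1 d hd)⟩
  · interval_cases j
    exacts [entriesA0, entriesA1, entriesA2, entriesA3]
  interval_cases j
  · replace hk : k < 65 := hk
    by_cases h0 : k < 8
    · exact ⟨_, _, by omega, h0, closedA0_0⟩
    by_cases h8 : k < 16
    · exact ⟨_, _, by omega, h8, closedA0_8⟩
    by_cases h16 : k < 24
    · exact ⟨_, _, by omega, h16, closedA0_16⟩
    by_cases h24 : k < 32
    · exact ⟨_, _, by omega, h24, closedA0_24⟩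
    by_cases h32 : k < 40
    · exact ⟨_, _, by omega, h32, closedA0_32⟩
    by_cases h40 : k < 48
    · exact ⟨_, _, by omega, h40, closedA0_40⟩
    by_cases h48 : k < 56
    · exact ⟨_, _, by omega, h48, closedA0_48⟩
    by_cases h56 : k < 64
    · exact ⟨_, _, by omega, h56, closedA0_56⟩
    exact ⟨_, _, by omega, hk, closedA0_64⟩
  · replace hk : k < 64 := hk
    by_cases h0 : k < 8
    · exact ⟨_, _, by omega, h0, closedA1_0⟩
    by_cases h8 : k < 16
    · exact ⟨_, _, by omega, h8, closedA1_8⟩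
    by_cases h16 : k < 24
    · exact ⟨_, _, by omega, h16, closedA1_16⟩
    by_cases h24 : k < 32
    · exact ⟨_, _, by omega, h24, closedA1_24⟩
    by_cases h32 : k < 40
    · exact ⟨_, _, by omega, h32, closedA1_32⟩
    by_cases h40 : k < 48
    · exact ⟨_, _, by omega, h40, closedA1_40⟩
    by_cases h48 : k < 56
    · exact ⟨_, _, by omega, h48, closedA1_48⟩
    exact ⟨_, _, by omega, hk, closedA1_56⟩
  · replace hk : k < 7 := hk
    exact ⟨_, _, by omega, hk, closedA2_0⟩
  · replace hk : k < 2 := hk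
    exact ⟨_, _, by omega, hk, closedA3_0⟩


open CfsgPCV in
theorem groupB : TableOK 1105 coverChainB (coverGensB.map Prod.fst) ∧
    Nat.card (genG 1105 (coverGensB.map Prod.fst)) = 58240 := by
  refine group_of_checks (fun c hc => ?_) shapeB (fun j hj => ?_) fun j hj k hk => ?_
  · obtain ⟨d, hd, rfl⟩ := List.mem_map.mp hc
    exact ⟨_, decP_rep (List.all_eq_true.mp permB.1 d hd)⟩
  · interval_cases j
    exacts [entriesB0, entriesB1, entriesB2, entriesB3]
  interval_cases j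
  · replace hk : k < 65 := hk
    by_cases h0 : k < 8
    · exact ⟨_, _, by omega, h0, closedB0_0⟩
    by_cases h8 : k < 16
    · exact ⟨_, _, by omega, h8, closedB0_8⟩
    by_cases h16 : k < 24
    · exact ⟨_, _, by omega, h16, closedB0_16⟩
    by_cases h24 : k < 32
    · exact ⟨_, _, by omega, h24, closedB0_24⟩
    by_cases h32 : k < 40
    · exact ⟨_, _, by omega, h32, closedB0_32⟩
    by_cases h40 : k < 48
    · exact ⟨_, _, by omega, h40, closedB0_40⟩
    by_cases h48 : k < 56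
    · exact ⟨_, _, by omega, h48, closedB0_48⟩
    by_cases h56 : k < 64
    · exact ⟨_, _, by omega, h56, closedB0_56⟩
    exact ⟨_, _, by omega, hk, closedB0_64⟩
  · replace hk : k < 64 := hk
    by_cases h0 : k < 8
    · exact ⟨_, _, by omega, h0, closedB1_0⟩
    by_cases h8 : k < 16
    · exact ⟨_, _, by omega, h8, closedB1_8⟩
    by_cases h16 : k < 24
    · exact ⟨_, _, by omega, h16, closedB1_16⟩
    by_cases h24 : k < 32
    · exact ⟨_, _, by omega, h24, closedB1_24⟩
    by_cases h32 : k < 40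
    · exact ⟨_, _, by omega, h32, closedB1_32⟩
    by_cases h40 : k < 48
    · exact ⟨_, _, by omega, h40, closedB1_40⟩
    by_cases h48 : k < 56
    · exact ⟨_, _, by omega, h48, closedB1_48⟩
    exact ⟨_, _, by omega, hk, closedB1_56⟩
  · replace hk : k < 7 := hk
    exact ⟨_, _, by omega, hk, closedB2_0⟩
  · replace hk : k < 2 := hk
    exact ⟨_, _, by omega, hk, closedB3_0⟩


open CfsgPCV in
/-- The members of a list of codes, as elements. -/
theorem elems_of {n : ℕ} (hn : n ≤ 8192) {ls : List Level} {gens : List ℕ} (hT : TableOK n ls gens) (hv : Valid n gens)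
    {cs : List (ℕ × ℕ)} (hm : memOK n ls cs = true) : ∀ k < cs.length, ∃ g : ↥(genG n gens),
      Rep n (cs.getD k (0, 0)).1 (g : Perm (Fin n)) ∧
      Rep n (cs.getD k (0, 0)).2 ((g⁻¹ : ↥(genG n gens)) : Perm (Fin n)) := fun k hk => by
  have h := List.all_eq_true.mp hm _ (List.getElem_mem hk)
  rw [Bool.and_eq_true] at h
  rw [List.getD_eq_getElem _ _ hk]
  exact ⟨⟨_, mem_of_sift hn hT hv _ _ (decP_rep h.1) h.2⟩, decP_rep h.1, rep_inv hn (decP_rep h.1) h.1⟩

open CfsgPCV in
theorem cover_stem (h : SmallOK) : ∃ (P : Type) (_ : Group P) (_ : Finite P) (τ : P →* SmallSz),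
    Cfsg.IsStemExtension τ ∧ Nat.card τ.ker = 4 := by
  classical
  obtain ⟨hTA, hcA⟩ := groupA
  obtain ⟨hTB, hcB⟩ := groupB
  obtain ⟨πA, zA, sA, rA, nA, cA, kA, aA⟩ := cover_spec h coverGensA coverChainA permA projA zsiftA hTA hcA
  obtain ⟨πB, zB, sB, rB, nB, cB, kB, aB⟩ := cover_spec h coverGensB coverChainB permB projB zsiftB hTB hcB
  have hvA : Valid 1105 (coverGensA.map Prod.fst) := fun c hc => by
    obtain ⟨d, hd, rfl⟩ := List.mem_map.mp hc
    exact ⟨_, decP_rep (List.all_eq_true.mp permA.1 d hd)⟩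
  have hvB : Valid 1105 (coverGensB.map Prod.fst) := fun c hc => by
    obtain ⟨d, hd, rfl⟩ := List.mem_map.mp hc
    exact ⟨_, decP_rep (List.all_eq_true.mp permB.1 d hd)⟩
  let P : Subgroup (↥(genG 1105 (coverGensA.map Prod.fst)) × ↥(genG 1105 (coverGensB.map Prod.fst))) :=
    (πA.comp (MonoidHom.fst _ _)).eqLocus (πB.comp (MonoidHom.snd _ _))
  let τ : P →* SmallSz := (πA.comp (MonoidHom.fst _ _)).comp P.subtype
  have hsurj : Function.Surjective τ := fun s => by
    obtain ⟨a, ha⟩ := sA s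
    obtain ⟨b, hb⟩ := sB s
    exact ⟨⟨(a, b), show πA a = πB b from ha.trans hb.symm⟩, ha⟩
  have hkk : ∀ p : P, p ∈ τ.ker → p.1.1 ∈ πA.ker ∧ p.1.2 ∈ πB.ker := fun p hp =>
    ⟨MonoidHom.mem_ker.mpr hp, MonoidHom.mem_ker.mpr ((p.2 : πA p.1.1 = πB p.1.2).symm.trans hp)⟩
  have k1A : πA 1 = 1 := map_one _
  have k1B : πB 1 = 1 := map_one _
  have kzA : πA zA = 1 := MonoidHom.mem_ker.mp ((kA _).mpr (Or.inr rfl))
  have kzB : πB zB = 1 := MonoidHom.mem_ker.mp ((kB _).mpr (Or.inr rfl))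
  let pA : P := ⟨(zA, 1), show πA zA = πB 1 from kzA.trans k1B.symm⟩
  let pB : P := ⟨(1, zB), show πA 1 = πB zB from k1A.trans kzB.symm⟩
  have hset : ∀ p : P, p ∈ τ.ker → p = 1 ∨ p = pA ∨ p = pB ∨ p = pA * pB := by
    rintro ⟨⟨a, b⟩, hab⟩ hp
    obtain ⟨ha, hb⟩ := hkk _ hp
    rcases (kA a).mp ha with rfl | rfl <;> rcases (kB b).mp hb with rfl | rfl
    · exact Or.inl rfl
    · exact Or.inr (Or.inr (Or.inl rfl))
    · exact Or.inr (Or.inl rfl)
    · exact Or.inr (Or.inr (Or.inr (Subtype.ext (Prod.ext (mul_one _).symm (one_mul _).symm))))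
  -- the commutators
  obtain ⟨hmA, hlA⟩ := commA_mem
  obtain ⟨hmB, hlB⟩ := commB_mem
  have hel : ∀ k < 4, ∃ p : P, Rep 1105 (commCodesA.getD k (0, 0)).1 (p.1.1 : Perm (Fin 1105)) ∧
      Rep 1105 (commCodesA.getD k (0, 0)).2 ((p.1.1⁻¹ : ↥(genG 1105 (coverGensA.map Prod.fst))) : Perm (Fin 1105)) ∧
      Rep 1105 (commCodesB.getD k (0, 0)).1 (p.1.2 : Perm (Fin 1105)) ∧
      Rep 1105 (commCodesB.getD k (0, 0)).2 ((p.1.2⁻¹ : ↥(genG 1105 (coverGensB.map Prod.fst))) : Perm (Fin 1105)) := by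
    intro k hk
    obtain ⟨a, ha, ha'⟩ := elems_of (by norm_num) hTA hvA hmA k (by rw [hlA]; exact hk)
    obtain ⟨b, hb, hb'⟩ := elems_of (by norm_num) hTB hvB hmB k (by rw [hlB]; exact hk)
    refine ⟨⟨(a, b), Subtype.ext (Equiv.ext fun i => lo_injective ?_)⟩, ha, ha', hb, hb'⟩
    show lo ((πA a : Perm (Fin 65)) i) = lo ((πB b : Perm (Fin 65)) i)
    rw [← aA, ← aB]
    refine Fin.ext ?_
    rw [← ha, ← hb]
    exact Nat.eq_of_beq_eq_true
      (List.all_eq_true.mp (List.all_eq_true.mp comm_same k (List.mem_range.mpr hk)) i (List.mem_range.mpr i.2))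
  have hcm : pA ∈ _root_.commutator P ∧ pB ∈ _root_.commutator P := by
    refine ⟨?_, ?_⟩
    · obtain ⟨x, xa, xa', xb, xb'⟩ := hel 0 (by norm_num)
      obtain ⟨y, ya, ya', yb, yb'⟩ := hel 1 (by norm_num)
      rw [show pA = ⁅x, y⁆ from Subtype.ext (Prod.ext (Subtype.ext (Equiv.ext fun i => Fin.ext ?_))
        (Subtype.ext (Equiv.ext fun i => Fin.ext ?_)))]
      · exact commutator_mem_commutator (mem_top x) (mem_top y)
      · show (((zA : ↥(genG 1105 (coverGensA.map Prod.fst))) : Perm (Fin 1105)) i : ℕ) =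
          (((⁅x.1.1, y.1.1⁆ : ↥(genG 1105 (coverGensA.map Prod.fst))) : Perm (Fin 1105)) i : ℕ)
        rw [commutatorElement_def]
        simp only [Subgroup.coe_mul, Perm.mul_apply]
        rw [← xa, ← ya, ← xa', ← ya', Nat.eq_of_beq_eq_true (List.all_eq_true.mp commA0 i (List.mem_range.mpr i.2)), rA i]
      · show (((1 : ↥(genG 1105 (coverGensB.map Prod.fst))) : Perm (Fin 1105)) i : ℕ) =
          (((⁅x.1.2, y.1.2⁆ : ↥(genG 1105 (coverGensB.map Prod.fst))) : Perm (Fin 1105)) i : ℕ)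
        rw [commutatorElement_def]
        simp only [Subgroup.coe_mul, Perm.mul_apply]
        rw [← xb, ← yb, ← xb', ← yb', Nat.eq_of_beq_eq_true (List.all_eq_true.mp commB0 i (List.mem_range.mpr i.2))]
        rfl
    · obtain ⟨x, xa, xa', xb, xb'⟩ := hel 2 (by norm_num)
      obtain ⟨y, ya, ya', yb, yb'⟩ := hel 3 (by norm_num)
      rw [show pB = ⁅x, y⁆ from Subtype.ext (Prod.ext (Subtype.ext (Equiv.ext fun i => Fin.ext ?_))
        (Subtype.ext (Equiv.ext fun i => Fin.ext ?_)))]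
      · exact commutator_mem_commutator (mem_top x) (mem_top y)
      · show (((1 : ↥(genG 1105 (coverGensA.map Prod.fst))) : Perm (Fin 1105)) i : ℕ) =
          (((⁅x.1.1, y.1.1⁆ : ↥(genG 1105 (coverGensA.map Prod.fst))) : Perm (Fin 1105)) i : ℕ)
        rw [commutatorElement_def]
        simp only [Subgroup.coe_mul, Perm.mul_apply]
        rw [← xa, ← ya, ← xa', ← ya', Nat.eq_of_beq_eq_true (List.all_eq_true.mp commA1 i (List.mem_range.mpr i.2))]
        rfl
      · show (((zB : ↥(genG 1105 (coverGensB.map Prod.fst))) : Perm (Fin 1105)) i : ℕ) =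
          (((⁅x.1.2, y.1.2⁆ : ↥(genG 1105 (coverGensB.map Prod.fst))) : Perm (Fin 1105)) i : ℕ)
        rw [commutatorElement_def]
        simp only [Subgroup.coe_mul, Perm.mul_apply]
        rw [← xb, ← yb, ← xb', ← yb', Nat.eq_of_beq_eq_true (List.all_eq_true.mp commB1 i (List.mem_range.mpr i.2)), rB i]
  refine ⟨P, inferInstance, inferInstance, τ, ⟨hsurj, fun p hp => mem_center_iff.mpr fun q => Subtype.ext (Prod.ext ?_ ?_),
    fun p hp => ?_⟩, ?_⟩
  · exact mem_center_iff.mp (cA (hkk p hp).1) q.1.1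
  · exact mem_center_iff.mp (cB (hkk p hp).2) q.1.2
  · rcases hset p hp with rfl | rfl | rfl | rfl
    exacts [one_mem _, hcm.1, hcm.2, mul_mem hcm.1 hcm.2]
  · have hmA : pA ∈ τ.ker := MonoidHom.mem_ker.mpr kzA
    have hmB : pB ∈ τ.ker := MonoidHom.mem_ker.mpr k1A
    have e1 : pA ≠ 1 := fun e => nA (congrArg (fun p : P => p.1.1) e)
    have e2 : pB ≠ 1 := fun e => nB (congrArg (fun p : P => p.1.2) e)
    have e12 : pA ≠ pB := fun e => nA (congrArg (fun p : P => p.1.1) e)
    have e3 : pA * pB ≠ 1 := fun e => nA (by simpa [pA, pB] using congrArg (fun p : P => p.1.1) e)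
    have hs : (τ.ker : Set P) = {1, pA, pB, pA * pB} := Set.Subset.antisymm hset (by
      rintro x (rfl | rfl | rfl | rfl)
      exacts [one_mem _, hmA, hmB, mul_mem hmA hmB])
    rw [show Nat.card τ.ker = (τ.ker : Set P).ncard from Nat.card_coe_set_eq _, hs,
      Set.ncard_insert_of_notMem (by simp [e1.symm, e2.symm, e3.symm]),
      Set.ncard_insert_of_notMem (by simp [e12, left_eq_mul, e2]), Set.ncard_pair (by simp [right_eq_mul, e1])]

/-! ### The bound -/

open CfsgPC in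
theorem exp_four (h : SmallOK) {Γ : Type u} [Group Γ] [Finite Γ] {σ : Γ →* SmallSz}
    (hσ : Cfsg.IsStemExtension σ) (hexp : ∀ z ∈ σ.ker, z ^ 4 = 1) :
    Nat.card σ.ker ≤ 4 ∧ ∀ z ∈ σ.ker, z * z = 1 := by
  obtain ⟨hs, hlens, hsz, hone, hlen⟩ := subTwo_shape
  have hsub : TableOK 65 subTwo (gcTwo.map Prod.fst) := by
    refine tableOK_of_checks hs fun j hj k hk => ?_
    have hl : subTwo.length = 1 := by simpa using congrArg List.length hlens
    refine of_entriesOK (List.all_eq_true.mp subTwo_entries j (List.mem_range.mpr (hl ▸ hj))) (Nat.zero_le _) ?_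
    rw [← hlens, List.getD_eq_getElem _ _ (by simpa using hj), List.getElem_map]
    rwa [List.getD_eq_getElem _ _ hj] at hk
  obtain ⟨g, t, ht, hf, hle⟩ := SylowData.exists_elems ⟨gcTwo, tcTwo, subTwo⟩ (by norm_num) h.2.1 h.1 h.2.2.1
    (facts := certTwo.facts) (N := 64) ⟨memTwo, hone, factsTwo, hsub, hsz⟩
  simp only at hle
  rw [hlen] at hle
  obtain ⟨heq, hel, hex⟩ := eqsTwo_all
  refine CollectFour.ker_le_four hσ hexp certTwo
    (fun k hk => List.all_eq_true.mp heq k (List.mem_range.mpr (hel ▸ hk))) (fun i hi j hj hij => ?_) hex g t ht hf ?_ ?_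
  · obtain ⟨hrel, hn⟩ := relTwo
    rw [hn] at hi hj
    have := List.all_eq_true.mp (List.all_eq_true.mp hrel i (List.mem_range.mpr hi)) j (List.mem_range.mpr hj)
    rw [Bool.or_eq_true, Nat.blt_eq] at this
    exact this.resolve_left (by omega)
  · rw [relTwo.2] at hle ⊢; exact hle
  · rw [h.2.2.2, relTwo.2]; norm_num

open CfsgPC in
theorem ker_small (h : SmallOK) {Γ : Type u} [Group Γ] [Finite Γ] {σ : Γ →* SmallSz}
    (hσ : Cfsg.IsStemExtension σ) : Nat.card σ.ker ≤ 4 ∧ ∀ z ∈ σ.ker, z * z = 1 := by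
  classical
  have hcard := h.2.2.2
  obtain ⟨hall, hmap⟩ := cyc_ok
  have kc : ∀ p ∈ [5, 7, 13], ∀ w ∈ σ.ker, w ^ p = 1 → w = 1 := fun p hp w hw hwp => by
    rw [← hmap] at hp
    obtain ⟨d, hd, rfl⟩ := List.mem_map.mp hp
    have hd5 : d.1 = 5 ∨ d.1 = 7 ∨ d.1 = 13 := by
      have : d.1 ∈ cycCodes.map Prod.fst := List.mem_map_of_mem hd
      simpa [hmap] using this
    have h' := List.all_eq_true.mp hall d hd
    simp only [Bool.and_eq_true, Bool.not_eq_true', List.all_eq_true, List.mem_range] at h'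
    obtain ⟨⟨⟨hp', hs⟩, hpow⟩, hne⟩ := h'
    have hr := decP_rep hp'
    let g : SmallSz := ⟨_, mem_of_sift (by norm_num) h.2.1 h.1 _ _ hr hs⟩
    refine no_torsion_cyclic (by rcases hd5 with e | e | e <;> rw [e] <;> norm_num) (g := g)
      (Subtype.ext (Equiv.ext fun i => Fin.ext ?_)) (fun e => ?_) ?_ hσ hw hwp
    · rw [SubgroupClass.coe_pow, ← rep_apN hr, Nat.eq_of_beq_eq_true (hpow i i.2)]
      rfl
    · have e' : decP 65 d.2.1 = 1 := congrArg Subtype.val e
      rw [← Bool.not_eq_true, List.all_eq_true] at hne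
      refine hne fun i hi => ?_
      have := hr ⟨i, List.mem_range.mp hi⟩
      rw [e'] at this
      rw [show ap d.2.1 i = i from this, Nat.beq_refl]
    · rw [hcard]; rcases hd5 with e | e | e <;> rw [e] <;> norm_num
  have kill : ∀ p ∈ [5, 7, 13], ∀ m : ℕ, ∀ z ∈ σ.ker, z ^ (p * m) = 1 → z ^ m = 1 := fun p hp m z hz h' =>
    kc p hp _ (pow_mem hz m) (by rw [← pow_mul, mul_comm]; exact h')
  have h64 : ∀ z ∈ σ.ker, z ^ 64 = 1 := by
    intro z hz
    have h0 : z ^ 29120 = 1 := by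
      have := CfsgLib.StSL.pow_index_eq_one_of_cyclic hσ (1 : SmallSz) hz
      rwa [zpowers_one_eq_bot, index_bot, hcard] at this
    refine kill 13 (by simp) 64 z hz (kill 7 (by simp) _ z hz (kill 5 (by simp) _ z hz ?_))
    rw [← h0]
  have hsq : ∀ z ∈ σ.ker, ∃ v ∈ σ.ker, z * z = v ^ 4 := fun z hz =>
    CollectFour.sq_mem_fourth hσ (fun Δ _ _ τ hτ hexp => (exp_four h hτ hexp).2) hz
  have hit : ∀ j : ℕ, ∀ z ∈ σ.ker, ∃ v ∈ σ.ker, z ^ 2 = v ^ 2 ^ (j + 2) := by
    intro j
    induction j with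
    | zero => intro z hz; obtain ⟨v, hv, e⟩ := hsq z hz; exact ⟨v, hv, by rw [sq, e]; norm_num⟩
    | succ j ih =>
      intro z hz
      obtain ⟨v, hv, e⟩ := ih z hz
      obtain ⟨x, hx, e'⟩ := hsq v hv
      refine ⟨x, hx, ?_⟩
      rw [e, show 2 ^ (j + 2) = 2 * 2 ^ (j + 1) by ring, pow_mul, sq, e', ← pow_mul]
      congr 1
      ring
  have h2 : ∀ z ∈ σ.ker, z * z = 1 := by
    intro z hz
    obtain ⟨v, hv, e⟩ := hit 4 z hz
    rw [← sq, e]
    exact h64 v hv
  exact exp_four h hσ fun z hz => by rw [show (4 : ℕ) = 2 * 2 from rfl, pow_mul, sq z, h2 z hz, one_pow]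

/-- A commutative group of exponent two and order at most four is an image of the four-group. -/
theorem klein_onto {K : Type*} [Group K] [Finite K] (hcomm : ∀ a b : K, Commute a b) (h2 : ∀ a : K, a * a = 1)
    (h4 : Nat.card K ≤ 4) : ∃ π : Multiplicative (ZMod 2 × ZMod 2) →* K, Function.Surjective π := by
  classical
  have hp : ∀ (a : K) (m : ℕ), a ^ m = a ^ (m % 2) := fun a m => pow_eq_pow_mod m (by rw [sq, h2])
  let f : K → K → Multiplicative (ZMod 2 × ZMod 2) →* K := fun a b =>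
    MonoidHom.mk' (fun x => a ^ (Multiplicative.toAdd x).1.val * b ^ (Multiplicative.toAdd x).2.val) fun x y => by
      rw [((hcomm b a).pow_pow _ _).mul_mul_mul_comm, ← pow_add, ← pow_add, toAdd_mul, Prod.fst_add, Prod.snd_add,
        ZMod.val_add, ZMod.val_add, ← hp, ← hp]
  have f10 : ∀ a b, f a b (Multiplicative.ofAdd (1, 0)) = a := fun a b => by simp [f, show (1 : ZMod 2).val = 1 from rfl]
  have f01 : ∀ a b, f a b (Multiplicative.ofAdd (0, 1)) = b := fun a b => by simp [f, show (1 : ZMod 2).val = 1 from rfl]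
  by_cases h1 : ∀ a : K, a = 1
  · exact ⟨f 1 1, fun y => ⟨1, by rw [map_one, h1 y]⟩⟩
  push Not at h1
  obtain ⟨a, ha⟩ := h1
  by_cases hb : ∀ b : K, b = 1 ∨ b = a
  · refine ⟨f a a, fun y => ?_⟩
    rcases hb y with rfl | rfl
    exacts [⟨1, map_one _⟩, ⟨_, f10 _ _⟩]
  push Not at hb
  obtain ⟨b, hb1, hba⟩ := hb
  refine ⟨f a b, ?_⟩
  rw [← MonoidHom.range_eq_top]
  refine eq_top_of_le_card _ (h4.trans ?_)
  have hab : a * b ≠ 1 := fun e => hba (by rw [eq_inv_of_mul_eq_one_right e]; exact inv_eq_of_mul_eq_one_right (h2 a))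
  have hsub : ({1, a, b, a * b} : Set K) ⊆ (f a b).range := by
    have hA : a ∈ (f a b).range := ⟨_, f10 a b⟩
    have hB : b ∈ (f a b).range := ⟨_, f01 a b⟩
    rintro x (rfl | rfl | rfl | rfl)
    exacts [one_mem _, hA, hB, mul_mem hA hB]
  have hc : ({1, a, b, a * b} : Set K).ncard = 4 := by
    rw [Set.ncard_insert_of_notMem (by simp [Ne.symm ha, Ne.symm hb1, Ne.symm hab]),
      Set.ncard_insert_of_notMem (by simp [Ne.symm hba, left_eq_mul, hb1]), Set.ncard_pair (by simp [right_eq_mul, ha])]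
  rw [← hc]
  exact (Set.ncard_le_ncard hsub (Set.toFinite _)).trans (le_of_eq (Nat.card_coe_set_eq _).symm)

theorem multiplier {F : Type u} [Field F] [Fintype F] (hF : Fintype.card F = 8) :
    Cfsg.HasSchurMultiplier ↥(Cfsg.Lie.Sz F 4) (Multiplicative (ZMod 2 × ZMod 2)) := by
  classical
  have hF' : Fintype.card F = 2 ^ (2 * 1 + 1) := by rw [hF]; norm_num
  obtain ⟨hv, hT, heq, hcard, ⟨e1⟩⟩ := small_model hF'
  have hok : SmallOK := ⟨hv, hT, heq, hcard⟩
  let e : ↥(Cfsg.Lie.Sz F 4) ≃* SmallSz := (CfsgLib.Suzuki.lieEquiv hF' le_rfl).symm.trans e1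
  haveI : Finite ↥(Cfsg.Lie.Sz F 4) := Finite.of_equiv _ e.symm.toEquiv
  have onto : ∀ (Γ : Type u) [Group Γ] [Finite Γ] (σ : Γ →* ↥(Cfsg.Lie.Sz F 4)),
      Cfsg.IsStemExtension σ → ∃ π : Multiplicative (ZMod 2 × ZMod 2) →* σ.ker, Function.Surjective π := by
    intro Γ _ _ σ hσ
    obtain ⟨h4, h2⟩ := ker_small hok (σ := e.toMonoidHom.comp σ)
      ⟨e.surjective.comp hσ.1, fun x hx => hσ.2.1 (by simpa using hx), fun x hx => hσ.2.2 (by simpa using hx)⟩
    refine klein_onto (fun a b => Subtype.ext (mem_center_iff.mp (hσ.2.1 b.2) a))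
      (fun a => Subtype.ext (h2 a (by simp))) (le_trans ?_ h4)
    exact Nat.card_le_card_of_injective (fun a => (⟨a, by simp⟩ : (e.toMonoidHom.comp σ).ker))
      fun a b h => Subtype.ext (congrArg (fun q : (e.toMonoidHom.comp σ).ker => (q : Γ)) h)
  refine ⟨?_, onto⟩
  obtain ⟨P, _, _, τ0, ⟨hs, hc, hd⟩, hk⟩ := cover_stem hok
  let d : ULift.{u} P ≃* P := MulEquiv.ulift
  let τ : ULift.{u} P →* ↥(Cfsg.Lie.Sz F 4) := e.symm.toMonoidHom.comp (τ0.comp d.toMonoidHom)
  have hker : ∀ x, x ∈ τ.ker ↔ d x ∈ τ0.ker := fun x =>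
    ⟨fun h => MonoidHom.mem_ker.mpr (e.symm.injective ((MonoidHom.mem_ker.mp h).trans (map_one e.symm).symm)),
      fun h => MonoidHom.mem_ker.mpr ((congrArg e.symm (MonoidHom.mem_ker.mp h)).trans (map_one e.symm))⟩
  have hst : Cfsg.IsStemExtension τ := by
    refine ⟨e.symm.surjective.comp (hs.comp d.surjective), fun x hx => ?_, fun x hx => ?_⟩
    · refine mem_center_iff.mpr fun y => d.injective ?_
      rw [map_mul, map_mul]
      exact mem_center_iff.mp (hc ((hker x).mp hx)) _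
    · have hm := mem_map_of_mem d.symm.toMonoidHom (hd ((hker x).mp hx))
      rw [_root_.commutator_def, map_commutator, map_top_of_surjective _ d.symm.surjective] at hm
      simpa [_root_.commutator_def] using hm
  obtain ⟨π, hπ⟩ := onto _ τ hst
  refine ⟨_, inferInstance, inferInstance, τ, hst, ⟨(MulEquiv.ofBijective π
    ((Nat.bijective_iff_surjective_and_card _).mpr ⟨hπ, ?_⟩)).symm⟩⟩
  rw [show Nat.card τ.ker = 4 from (Nat.card_congr (d.toEquiv.subtypeEquiv hker)).trans hk]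
  simp

end CfsgLib.StemSylow.SzEight
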