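/-
Kernel checks for the tables and collectors of Sp(6, 2) and its double cover.
-/
import Cfsg.Agent.Lib.StemSylow.SpSixData
import Cfsg.Agent.Lib.PermChain.Closed

set_option autoImplicit false
set_option maxRecDepth 30000
set_option maxHeartbeats 1000000

namespace CfsgLib.StemSylow.SpSixData

open CfsgPC CfsgLib.StemSylow

theorem perm_ok : (∀ a < 2, isPerm 63 (smallGens.getD a 0) (smallInv.getD a 0) = true) ∧
    (∀ a < 2, isPerm 303 (coverGens.getD a 0) (coverInv.getD a 0) = true) ∧ smallGens.length = 2 ∧
    coverGens.length = 2 := by decide +kernel

/-- The permutation of 303 points keeps the last 63 and restricts to the small one. -/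
theorem proj_ok : ((List.range 2).all fun a => (List.range 303).all fun i =>
    if Nat.blt i 240 then Nat.blt (ap (coverGens.getD a 0) i) 240
    else Nat.beq (ap (coverGens.getD a 0) i) (240 + ap (smallGens.getD a 0) (i - 240))) = true := by decide +kernel

theorem z_ok : isPerm 303 zCode.1 zCode.2 = true ∧ sift 303 coverChain zCode.1 = true ∧
    ((List.range 63).all fun i => Nat.beq (ap zCode.1 (240 + i)) (240 + i)) = true ∧
    Nat.beq (ap zCode.1 0) 0 = false ∧
    ((List.range 303).all fun i => coverGens.all fun g => Nat.beq (ap g (ap zCode.1 i)) (ap zCode.1 (ap g i))) = true := by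
  decide +kernel

theorem comm_ok : memOK 303 coverChain commCodes = true ∧ commCodes.length = 2 ∧
    ((List.range 303).all fun i => Nat.beq (ap (commCodes.getD 0 (0, 0)).1 (ap (commCodes.getD 1 (0, 0)).1
      (ap (commCodes.getD 0 (0, 0)).2 (ap (commCodes.getD 1 (0, 0)).2 i)))) (ap zCode.1 i)) = true := by
  decide +kernel

theorem cyc_ok : (cycCodes.all fun d => isPerm 63 d.2.1 d.2.2 && sift 63 smallChain d.2.1 &&
    (List.range 63).all (fun i => Nat.beq (apN d.2.1 d.1 i) i) &&
    !((List.range 63).all fun i => Nat.beq (ap d.2.1 i) i)) = true ∧ cycCodes.map Prod.fst = [5, 7] := by decide +kernel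

theorem small_shape : shapeOK 63 smallChain smallGens = true ∧ smallChain.length = 6 ∧
    (smallChain.map fun L => L.tr.length) = [63, 30, 12, 8, 4, 2] ∧ sizeOfChain smallChain = 1451520 := by decide +kernel

theorem small_entries : ((List.range 6).all fun j => entriesOK 63 smallChain smallGens j 0 ([63, 30, 12, 8, 4, 2].getD j 0)) = true := by
  decide +kernel

theorem cover_shape : shapeOK 303 coverChain coverGens = true ∧ coverChain.length = 4 ∧
    (coverChain.map fun L => L.tr.length) = [240, 56, 27, 8] ∧ sizeOfChain coverChain = 2903040 ∧
    ((gensAt 303 coverChain coverGens 4).all fun c => (List.range 303).all fun i => Nat.beq (ap c i) i) = true := by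
  decide +kernel

theorem cover_entries0_0 : entriesOK 303 coverChain coverGens 0 0 60 = true := by decide +kernel

theorem cover_entries0_60 : entriesOK 303 coverChain coverGens 0 60 120 = true := by decide +kernel

theorem cover_entries0_120 : entriesOK 303 coverChain coverGens 0 120 180 = true := by decide +kernel

theorem cover_entries0_180 : entriesOK 303 coverChain coverGens 0 180 240 = true := by decide +kernel

theorem cover_closed0_0 : closedOK 303 coverChain coverGens 0 0 30 = true := by decide +kernel

theorem cover_closed0_30 : closedOK 303 coverChain coverGens 0 30 60 = true := by decide +kernel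

theorem cover_closed0_60 : closedOK 303 coverChain coverGens 0 60 90 = true := by decide +kernel

theorem cover_closed0_90 : closedOK 303 coverChain coverGens 0 90 120 = true := by decide +kernel

theorem cover_closed0_120 : closedOK 303 coverChain coverGens 0 120 150 = true := by decide +kernel

theorem cover_closed0_150 : closedOK 303 coverChain coverGens 0 150 180 = true := by decide +kernel

theorem cover_closed0_180 : closedOK 303 coverChain coverGens 0 180 210 = true := by decide +kernel

theorem cover_closed0_210 : closedOK 303 coverChain coverGens 0 210 240 = true := by decide +kernel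

theorem cover_entries1_0 : entriesOK 303 coverChain coverGens 1 0 56 = true := by decide +kernel

theorem cover_closed1_0 : closedOK 303 coverChain coverGens 1 0 30 = true := by decide +kernel

theorem cover_closed1_30 : closedOK 303 coverChain coverGens 1 30 56 = true := by decide +kernel

theorem cover_entries2_0 : entriesOK 303 coverChain coverGens 2 0 27 = true := by decide +kernel

theorem cover_closed2_0 : closedOK 303 coverChain coverGens 2 0 27 = true := by decide +kernel

theorem cover_entries3_0 : entriesOK 303 coverChain coverGens 3 0 8 = true := by decide +kernel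

theorem cover_closed3_0 : closedOK 303 coverChain coverGens 3 0 8 = true := by decide +kernel

theorem memTwo : memOK 63 smallChain (gcTwo ++ tcTwo) = true := by decide +kernel

theorem factsTwo : factsB smallChain certTwo.facts (gcTwo.map Prod.fst) (tcTwo.map Prod.fst) = true := by decide +kernel

theorem subTwo_shape : shapeOK 63 subTwo (gcTwo.map Prod.fst) = true ∧ subTwo.length = 4 ∧
    (subTwo.map fun L => L.tr.length) = [8, 16, 2, 2] ∧ sizeOfChain subTwo = 512 ∧
    (tcTwo.map Prod.fst).head? = some (idk 63) ∧ gcTwo.length = certTwo.n := by decide +kernel

theorem subTwo_entries : ((List.range 4).all fun j => entriesOK 63 subTwo (gcTwo.map Prod.fst) j 0 ([8, 16, 2, 2].getD j 0)) = true := by decide +kernel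

theorem relTwo0 : ((List.range 9).all fun j => Nat.blt j 0 || certTwo.relOK 0 j) = true := by decide +kernel

theorem relTwo1 : ((List.range 9).all fun j => Nat.blt j 1 || certTwo.relOK 1 j) = true := by decide +kernel

theorem relTwo2 : ((List.range 9).all fun j => Nat.blt j 2 || certTwo.relOK 2 j) = true := by decide +kernel

theorem relTwo3 : ((List.range 9).all fun j => Nat.blt j 3 || certTwo.relOK 3 j) = true := by decide +kernel

theorem relTwo4 : ((List.range 9).all fun j => Nat.blt j 4 || certTwo.relOK 4 j) = true := by decide +kernel

theorem relTwo5 : ((List.range 9).all fun j => Nat.blt j 5 || certTwo.relOK 5 j) = true := by decide +kernel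

theorem relTwo6 : ((List.range 9).all fun j => Nat.blt j 6 || certTwo.relOK 6 j) = true := by decide +kernel

theorem relTwo7 : ((List.range 9).all fun j => Nat.blt j 7 || certTwo.relOK 7 j) = true := by decide +kernel

theorem relTwo8 : ((List.range 9).all fun j => Nat.blt j 8 || certTwo.relOK 8 j) = true := by decide +kernel

theorem rphiTwo : (match certTwo.comb certTwo.rphi with
    | some f => certTwo.same f fun m => (certTwo.r : ℤ) * certTwo.ph m
    | none => false) = true := by decide +kernel

theorem memThree : memOK 63 smallChain (gcThree ++ tcThree) = true := by decide +kernel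

theorem factsThree : factsB smallChain certThree.facts (gcThree.map Prod.fst) (tcThree.map Prod.fst) = true := by decide +kernel

theorem subThree_shape : shapeOK 63 subThree (gcThree.map Prod.fst) = true ∧ subThree.length = 2 ∧
    (subThree.map fun L => L.tr.length) = [27, 3] ∧ sizeOfChain subThree = 81 ∧
    (tcThree.map Prod.fst).head? = some (idk 63) ∧ gcThree.length = certThree.n := by decide +kernel

theorem subThree_entries : ((List.range 2).all fun j => entriesOK 63 subThree (gcThree.map Prod.fst) j 0 ([27, 3].getD j 0)) = true := by decide +kernel

theorem certThree_ok : certThree.check = true := by decide +kernel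

end CfsgLib.StemSylow.SpSixData
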