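/-
The multiplier of PSp(6, 2) has order two.
-/
import Cfsg.Prelude.Def_Classical
import Cfsg.Agent.Lib.SympBlocks
import Cfsg.Agent.Lib.SympTransvection
import Cfsg.Agent.Lib.StemSylow.SpSixChecks

set_option autoImplicit false
set_option maxRecDepth 30000
set_option linter.unusedSectionVars false
set_option linter.style.haveILetI false

namespace CfsgLib.StemSylow.SpSix

open Equiv Subgroup Matrix CfsgPC SpSixData
open scoped commutatorElement

universe u

attribute [local irreducible] smallChain coverChain subTwo subThree gcTwo tcTwo gcThree tcThree smallGens coverGens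
  smallInv coverInv zCode commCodes cycCodes

abbrev F2 := ZMod 2

abbrev SpTwo := ↥(Matrix.symplecticGroup (Fin 3) F2)

abbrev VecSix := Fin 3 ⊕ Fin 3 → F2

/-- The vector of a code. -/
def vec (c : ℕ) : VecSix := fun s => if c.testBit (finSumFinEquiv s : Fin 6) then 1 else 0

/-- The code of six bits. -/
def cd6 (a b c d e f : F2) : ℕ := a.val + 2 * b.val + 4 * c.val + 8 * d.val + 16 * e.val + 32 * f.val

/-- The code of a vector. -/
def cd (v : VecSix) : ℕ := cd6 (v (.inl 0)) (v (.inl 1)) (v (.inl 2)) (v (.inr 0)) (v (.inr 1)) (v (.inr 2))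

theorem cd6_spec : ∀ a b c d e f : F2, cd6 a b c d e f < 64 ∧ vec (cd6 a b c d e f) (.inl 0) = a ∧
    vec (cd6 a b c d e f) (.inl 1) = b ∧ vec (cd6 a b c d e f) (.inl 2) = c ∧ vec (cd6 a b c d e f) (.inr 0) = d ∧
    vec (cd6 a b c d e f) (.inr 1) = e ∧ vec (cd6 a b c d e f) (.inr 2) = f := by decide +kernel

theorem cd_vec : ∀ c < 64, cd (vec c) = c := by decide +kernel

theorem vec_cd (v : VecSix) : vec (cd v) = v := by
  obtain ⟨-, h0, h1, h2, h3, h4, h5⟩ := cd6_spec (v (.inl 0)) (v (.inl 1)) (v (.inl 2)) (v (.inr 0)) (v (.inr 1)) (v (.inr 2))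
  funext s
  rcases s with i | i <;> fin_cases i <;> assumption

theorem cd_lt (v : VecSix) : cd v < 64 := (cd6_spec _ _ _ _ _ _).1

theorem cd_pos {v : VecSix} (hv : v ≠ 0) : 0 < cd v := by
  by_contra h
  refine hv ((vec_cd v).symm.trans ?_)
  rw [Nat.eq_zero_of_not_pos h]
  funext s
  simp [vec]

/-- The non-zero vectors are numbered. -/
def pts : {v : VecSix // v ≠ 0} ≃ Fin 63 where
  toFun v := ⟨cd v.1 - 1, by have := cd_lt v.1; have := cd_pos v.2; omega⟩
  invFun i := ⟨vec (i + 1), fun h => by
    have h1 := cd_vec (i + 1) (by omega)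
    rw [h] at h1
    have : cd (0 : VecSix) = 0 := by simp [cd, cd6]
    omega⟩
  left_inv v := Subtype.ext (by
    show vec (cd v.1 - 1 + 1) = v.1
    rw [Nat.sub_add_cancel (cd_pos v.2), vec_cd])
  right_inv i := Fin.ext (by
    show cd (vec (i + 1)) - 1 = i
    rw [cd_vec _ (by omega), Nat.add_sub_cancel])

theorem mulVec_ne (g : SpTwo) {v : VecSix} (hv : v ≠ 0) : g.1 *ᵥ v ≠ 0 := fun h => hv (by
  have := congrArg (fun w => (g⁻¹ : SpTwo).1 *ᵥ w) h
  simpa [mulVec_mulVec, ← Submonoid.coe_mul, mulVec_zero] using this)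

/-- The action on non-zero vectors. -/
def act : SpTwo →* Perm {v : VecSix // v ≠ 0} where
  toFun g :=
    { toFun := fun v => ⟨g.1 *ᵥ v.1, mulVec_ne g v.2⟩
      invFun := fun v => ⟨(g⁻¹ : SpTwo).1 *ᵥ v.1, mulVec_ne g⁻¹ v.2⟩
      left_inv := fun v => Subtype.ext (by simp [mulVec_mulVec, ← Submonoid.coe_mul])
      right_inv := fun v => Subtype.ext (by simp [mulVec_mulVec, ← Submonoid.coe_mul]) }
  map_one' := Equiv.ext fun v => Subtype.ext (by simp)
  map_mul' g h := Equiv.ext fun v => Subtype.ext (by simp [mulVec_mulVec])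

/-- The action on 63 points. -/
noncomputable def phi : SpTwo →* Perm (Fin 63) := (pts.permCongrHom).toMonoidHom.comp act

theorem phi_apply (g : SpTwo) (i : Fin 63) : (phi g i : ℕ) = cd (g.1 *ᵥ vec (i + 1)) - 1 := rfl

theorem phi_injective : Function.Injective phi := by
  intro g h e
  have e' : act g = act h := (pts.permCongrHom).injective e
  refine Subtype.ext (Matrix.ext fun i j => ?_)
  have hne : (Pi.single j (1 : F2) : VecSix) ≠ 0 := fun h => by simpa using congrFun h j
  have := congrFun (congrArg Subtype.val (Equiv.congr_fun e' ⟨_, hne⟩)) i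
  simpa [act] using this

/-- The matrix with the given columns. -/
def matOf (cols : List ℕ) : Matrix (Fin 3 ⊕ Fin 3) (Fin 3 ⊕ Fin 3) F2 :=
  fun i j => vec (cols.getD (finSumFinEquiv j : Fin 6) 0) i

theorem mat_ok : ∀ a : Fin 2, matOf (matCols.getD a []) * Matrix.J (Fin 3) F2 * (matOf (matCols.getD a []))ᵀ = Matrix.J (Fin 3) F2 := by
  decide +kernel

theorem mat_act : ∀ a : Fin 2, ∀ i : Fin 63,
    cd (matOf (matCols.getD a []) *ᵥ vec (i + 1)) = ap (smallGens.getD a 0) i + 1 := by decide +kernel

theorem card_spTwo : Nat.card SpTwo = 1451520 := by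
  haveI : Unique (Matrix.symplecticGroup (Fin 0) F2) :=
    { default := 1, uniq := fun a => Subtype.ext (Subsingleton.elim _ _) }
  rw [SympBlocks.card_step 2, SympBlocks.card_step 1, SympBlocks.card_step 0, Nat.card_unique]
  simp [ZMod.card]

theorem valid_small : Valid 63 smallGens := fun c hc => by
  obtain ⟨a, ha, rfl⟩ := List.getElem_of_mem hc
  have := perm_ok.1 a (by rw [← perm_ok.2.2.1]; exact ha)
  rw [List.getD_eq_getElem _ _ ha] at this
  exact ⟨_, decP_rep this⟩

theorem table_small : TableOK 63 smallChain smallGens := by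
  obtain ⟨hs, hl, hlens, -⟩ := small_shape
  refine tableOK_of_checks hs fun j hj k hk => ?_
  have he := List.all_eq_true.mp small_entries j (List.mem_range.mpr (hl ▸ hj))
  refine of_entriesOK he (Nat.zero_le _) ?_
  rw [← hlens, List.getD_eq_getElem _ _ (by simpa using hj), List.getElem_map]
  rwa [List.getD_eq_getElem _ _ hj] at hk

theorem small_group : prodSet 63 smallChain = genG 63 smallGens ∧ Nat.card (genG 63 smallGens) = 1451520 ∧
    phi.range = genG 63 smallGens := by
  have hle : genG 63 smallGens ≤ phi.range := by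
    rw [genG, closure_le]
    rintro g ⟨c, hc, hg⟩
    obtain ⟨a, ha, rfl⟩ := List.getElem_of_mem hc
    have ha2 : a < 2 := by rw [← perm_ok.2.2.1]; exact ha
    refine ⟨⟨matOf (matCols.getD a []), SymplecticGroup.mem_iff.mpr (mat_ok ⟨a, ha2⟩)⟩, Equiv.ext fun i => Fin.ext ?_⟩
    rw [phi_apply]
    show cd (matOf (matCols.getD a []) *ᵥ vec (i + 1)) - 1 = (g i : ℕ)
    rw [mat_act ⟨a, ha2⟩ i, Nat.add_sub_cancel, List.getD_eq_getElem _ _ ha, hg i]
  have hr : Nat.card phi.range = 1451520 := by
    rw [← Nat.card_congr (MonoidHom.ofInjective phi_injective).toEquiv, card_spTwo]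
  have hc : Nat.card (genG 63 smallGens) ≤ 1451520 :=
    (Nat.card_le_card_of_injective _ (Subgroup.inclusion_injective hle)).trans hr.le
  obtain ⟨he, hcard⟩ := table_eq (by norm_num) table_small valid_small (hc.trans small_shape.2.2.2.ge)
  rw [small_shape.2.2.2] at hcard
  exact ⟨he, hcard, (eq_of_le_of_card_ge hle (by rw [hr, hcard])).symm⟩

/-- The symplectic group over any field of two elements is the group on 63 points. -/
theorem equiv_small {F : Type*} [Field F] [Fintype F] (hF : Fintype.card F = 2) :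
    Nonempty (Cfsg.PSp 3 F ≃* ↥(genG 63 smallGens)) := by
  have hcen : Subgroup.center (Matrix.symplecticGroup (Fin 3) F) = ⊥ :=
    Subgroup.eq_bot_of_card_eq _ (by rw [CfsgLib.SympTransvection.card_center (by norm_num), hF]; norm_num)
  have r : ZMod 2 ≃+* F := ZMod.ringEquivOfPrime F Nat.prime_two hF
  let e : SpTwo ≃* ↥(Matrix.symplecticGroup (Fin 3) F) :=
    { toFun := fun g => ⟨g.1.map r, SymplecticGroup.map_mem g.2 r⟩
      invFun := fun g => ⟨g.1.map r.symm, SymplecticGroup.map_mem g.2 r.symm⟩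
      left_inv := fun g => Subtype.ext (Matrix.ext fun i j => by simp)
      right_inv := fun g => Subtype.ext (Matrix.ext fun i j => by simp)
      map_mul' := fun g h => Subtype.ext (by simp [Matrix.map_mul]) }
  exact ⟨((QuotientGroup.quotientMulEquivOfEq hcen).trans QuotientGroup.quotientBot).trans (e.symm.trans
    ((MonoidHom.ofInjective phi_injective).trans (MulEquiv.subgroupCongr small_group.2.2)))⟩

/-! ### The double cover -/

theorem valid_cover : Valid 303 coverGens := fun c hc => by
  obtain ⟨a, ha, rfl⟩ := List.getElem_of_mem hc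
  have := perm_ok.2.1 a (by rw [← perm_ok.2.2.2]; exact ha)
  rw [List.getD_eq_getElem _ _ ha] at this
  exact ⟨_, decP_rep this⟩

theorem cover_group : TableOK 303 coverChain coverGens ∧ prodSet 303 coverChain = genG 303 coverGens ∧
    Nat.card (genG 303 coverGens) = 2903040 := by
  obtain ⟨hs, hl, hlens, hsize, hlast⟩ := cover_shape
  have hlen : ∀ j, j < coverChain.length → ∀ k < (coverChain.getD j ⟨0, [], [], []⟩).tr.length,
      k < [240, 56, 27, 8].getD j 0 := fun j hj k hk => by
    rw [← hlens, List.getD_eq_getElem _ _ (by simpa using hj), List.getElem_map]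
    rwa [List.getD_eq_getElem _ _ hj] at hk
  have hT : TableOK 303 coverChain coverGens := tableOK_of_checks hs fun j hj k hk => by
    have hk' := hlen j hj k hk
    rw [hl] at hj
    clear hk hlen
    interval_cases j
    · replace hk' : k < 240 := hk'
      by_cases h1 : k < 60
      · exact of_entriesOK cover_entries0_0 (by omega) h1
      by_cases h2 : k < 120
      · exact of_entriesOK cover_entries0_60 (by omega) h2
      by_cases h3 : k < 180
      · exact of_entriesOK cover_entries0_120 (by omega) h3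
      exact of_entriesOK cover_entries0_180 (by omega) hk'
    · exact of_entriesOK cover_entries1_0 (by omega) hk'
    · exact of_entriesOK cover_entries2_0 (by omega) hk'
    · exact of_entriesOK cover_entries3_0 (by omega) hk'
  have hp := table_closed (by norm_num) hT valid_cover (fun j hj k hk => by
      have hk' := hlen j hj k hk
      rw [hl] at hj
      clear hk hlen
      interval_cases j
      · replace hk' : k < 240 := hk'
        by_cases h1 : k < 30
        · exact of_closedOK cover_closed0_0 (by omega) h1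
        by_cases h2 : k < 60
        · exact of_closedOK cover_closed0_30 (by omega) h2
        by_cases h3 : k < 90
        · exact of_closedOK cover_closed0_60 (by omega) h3
        by_cases h4 : k < 120
        · exact of_closedOK cover_closed0_90 (by omega) h4
        by_cases h5 : k < 150
        · exact of_closedOK cover_closed0_120 (by omega) h5
        by_cases h6 : k < 180
        · exact of_closedOK cover_closed0_150 (by omega) h6
        by_cases h7 : k < 210
        · exact of_closedOK cover_closed0_180 (by omega) h7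
        exact of_closedOK cover_closed0_210 (by omega) hk'
      · replace hk' : k < 56 := hk'
        by_cases h1 : k < 30
        · exact of_closedOK cover_closed1_0 (by omega) h1
        exact of_closedOK cover_closed1_30 (by omega) hk'
      · exact of_closedOK cover_closed2_0 (by omega) hk'
      · exact of_closedOK cover_closed3_0 (by omega) hk')
    (fun c hc i hi => by
      rw [hl] at hc
      exact Nat.eq_of_beq_eq_true (List.all_eq_true.mp (List.all_eq_true.mp hlast c hc) i (List.mem_range.mpr hi)))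
  refine ⟨hT, hp, ?_⟩
  rw [← hsize, ← (table_products (by norm_num) hT valid_cover).2, hp, ← Nat.card_coe_set_eq]
  rfl

/-- The last 63 points. -/
def hi (i : Fin 63) : Fin 303 := ⟨240 + i, by omega⟩

theorem hi_injective : Function.Injective hi := fun a b h => Fin.ext (by simpa [hi] using congrArg Fin.val h)

theorem exists_restrict (g : ↥(genG 303 coverGens)) :
    ∃ h : ↥(genG 63 smallGens), ∀ i, (g : Perm (Fin 303)) (hi i) = hi ((h : Perm (Fin 63)) i) := by
  obtain ⟨g, hg⟩ := g
  induction hg using closure_induction with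
  | mem g hg =>
    obtain ⟨c, hc, hgr⟩ := hg
    obtain ⟨a, ha, rfl⟩ := List.getElem_of_mem hc
    have ha2 : a < 2 := by rw [← perm_ok.2.2.2]; exact ha
    have ha' : a < smallGens.length := by rw [perm_ok.2.2.1]; exact ha2
    obtain ⟨h, hhr⟩ := valid_small _ (List.getElem_mem ha')
    refine ⟨⟨h, Valid.mem (List.getElem_mem ha') hhr⟩, fun i => Fin.ext ?_⟩
    have := List.all_eq_true.mp (List.all_eq_true.mp proj_ok a (List.mem_range.mpr ha2)) (hi i)
      (List.mem_range.mpr (hi i).2)
    rw [if_neg (by simp [hi]), List.getD_eq_getElem _ _ ha, List.getD_eq_getElem _ _ ha', hgr (hi i)] at this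
    have := Nat.eq_of_beq_eq_true this
    rw [show (hi i : ℕ) - 240 = i from Nat.add_sub_cancel_left _ _, hhr i] at this
    exact this
  | one => exact ⟨1, fun i => rfl⟩
  | mul a b _ _ ha hb =>
    obtain ⟨x, hx⟩ := ha
    obtain ⟨y, hy⟩ := hb
    exact ⟨x * y, fun i => by simp [Perm.mul_apply, hx, hy]⟩
  | inv a _ ha =>
    obtain ⟨x, hx⟩ := ha
    refine ⟨x⁻¹, fun i => ?_⟩
    show a⁻¹ (hi i) = _
    rw [Perm.inv_eq_iff_eq, hx]
    simp

/-- The projection of the cover. -/
noncomputable def proj : ↥(genG 303 coverGens) →* ↥(genG 63 smallGens) :=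
  MonoidHom.mk' (fun g => (exists_restrict g).choose) fun g h => Subtype.ext (Equiv.ext fun i => hi_injective (by
    rw [← (exists_restrict (g * h)).choose_spec i, Subgroup.coe_mul, Perm.mul_apply, (exists_restrict h).choose_spec i,
      (exists_restrict g).choose_spec, Subgroup.coe_mul, Perm.mul_apply]))

theorem proj_apply (g : ↥(genG 303 coverGens)) (i : Fin 63) :
    (g : Perm (Fin 303)) (hi i) = hi ((proj g : Perm (Fin 63)) i) := (exists_restrict g).choose_spec i

theorem proj_surjective : Function.Surjective proj := by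
  rintro ⟨h, hh⟩
  suffices hs : h ∈ (proj.range.map (genG 63 smallGens).subtype) by
    obtain ⟨-, ⟨g, rfl⟩, e⟩ := hs
    exact ⟨g, Subtype.ext e⟩
  refine closure_le _ |>.mpr ?_ hh
  rintro x ⟨c, hc, hx⟩
  obtain ⟨a, ha', rfl⟩ := List.getElem_of_mem hc
  have ha2 : a < 2 := by rw [← perm_ok.2.2.1]; exact ha'
  have ha : a < coverGens.length := by rw [perm_ok.2.2.2]; exact ha2
  obtain ⟨g, hgr⟩ := valid_cover _ (List.getElem_mem ha)
  refine ⟨proj ⟨g, Valid.mem (List.getElem_mem ha) hgr⟩, ⟨_, rfl⟩, Equiv.ext fun i => hi_injective ?_⟩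
  rw [Subgroup.subtype_apply, ← proj_apply]
  refine Fin.ext ?_
  have := List.all_eq_true.mp (List.all_eq_true.mp proj_ok a (List.mem_range.mpr ha2)) (hi i)
    (List.mem_range.mpr (hi i).2)
  rw [if_neg (by simp [hi]), List.getD_eq_getElem _ _ ha, List.getD_eq_getElem _ _ ha', hgr (hi i)] at this
  have := Nat.eq_of_beq_eq_true this
  rw [show (hi i : ℕ) - 240 = i from Nat.add_sub_cancel_left _ _, hx i] at this
  exact this

theorem cover_stem : Cfsg.IsStemExtension proj ∧ Nat.card proj.ker = 2 := by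
  classical
  obtain ⟨hT, hp, hcard⟩ := cover_group
  obtain ⟨hzp, hzs, hzfix, hz0, hzc⟩ := z_ok
  have hzr := decP_rep hzp
  let z : ↥(genG 303 coverGens) := ⟨_, mem_of_sift (by norm_num) hT valid_cover _ _ hzr hzs⟩
  have hker : Nat.card proj.ker = 2 := by
    have h := proj.ker.card_mul_index
    rw [index_ker, MonoidHom.range_eq_top.mpr proj_surjective, card_top, small_group.2.1, hcard] at h
    exact Nat.eq_of_mul_eq_mul_right (show 0 < 1451520 from Nat.succ_pos _) (h.trans (by norm_num))
  have hzk : z ∈ proj.ker := by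
    refine MonoidHom.mem_ker.mpr (Subtype.ext (Equiv.ext fun i => hi_injective ?_))
    rw [← proj_apply]
    exact Fin.ext ((hzr (hi i)).symm.trans (Nat.eq_of_beq_eq_true (List.all_eq_true.mp hzfix i (List.mem_range.mpr i.2))))
  have hz1 : z ≠ 1 := fun e => by
    have h0 := hzr ⟨0, by norm_num⟩
    rw [show decP 303 zCode.1 = 1 from congrArg Subtype.val e] at h0
    rw [show ap zCode.1 0 = 0 from h0] at hz0
    simp at hz0
  have hall : ∀ x ∈ proj.ker, x = 1 ∨ x = z := by
    intro x hx
    by_contra hh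
    push Not at hh
    have : ({1, z, x} : Finset ↥(genG 303 coverGens)).card ≤ 2 := by
      rw [← hker, ← Nat.card_eq_finsetCard]
      refine Nat.card_le_card_of_injective (fun w => (⟨w.1, ?_⟩ : proj.ker)) fun a b e => ?_
      · have := w.2
        simp only [Finset.mem_insert, Finset.mem_singleton] at this
        rcases this with e | e | e <;> rw [e]
        exacts [one_mem _, hzk, hx]
      · exact Subtype.ext (congrArg (fun q : proj.ker => q.1) e)
    rw [Finset.card_insert_of_notMem (by simp [hz1.symm, hh.1.symm]), Finset.card_pair (Ne.symm hh.2)] at this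
    omega
  refine ⟨⟨proj_surjective, fun x hx => ?_, fun x hx => ?_⟩, hker⟩
  · rcases hall x hx with rfl | rfl
    · exact one_mem _
    · refine mem_center_iff.mpr fun y => Subtype.ext ?_
      show (y : Perm (Fin 303)) * decP 303 zCode.1 = decP 303 zCode.1 * y
      obtain ⟨y, hy⟩ := y
      refine (show y ∈ centralizer ({decP 303 zCode.1} : Set (Perm (Fin 303))) from ?_) |> fun h =>
        (mem_centralizer_singleton_iff.mp h)
      refine (closure_le _).mpr ?_ hy
      rintro g ⟨c, hc, hg⟩
      refine mem_centralizer_singleton_iff.mpr (Equiv.ext fun i => Fin.ext ?_)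
      rw [Perm.mul_apply, Perm.mul_apply, ← hg, ← hzr, ← hzr, ← hg]
      exact Nat.eq_of_beq_eq_true (List.all_eq_true.mp (List.all_eq_true.mp hzc i (List.mem_range.mpr i.2)) c hc)
  · rcases hall x hx with rfl | rfl
    · exact one_mem _
    · obtain ⟨hmem, hlen, hcomm⟩ := comm_ok
      have hel : ∀ k < 2, ∃ g : ↥(genG 303 coverGens), Rep 303 (commCodes.getD k (0, 0)).1 (g : Perm (Fin 303)) ∧
          Rep 303 (commCodes.getD k (0, 0)).2 ((g⁻¹ : ↥(genG 303 coverGens)) : Perm (Fin 303)) := fun k hk => by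
        have hk' : k < commCodes.length := by rw [hlen]; exact hk
        have h := List.all_eq_true.mp hmem _ (List.getElem_mem hk')
        rw [Bool.and_eq_true] at h
        rw [List.getD_eq_getElem _ _ hk']
        exact ⟨⟨_, mem_of_sift (by norm_num) hT valid_cover _ _ (decP_rep h.1) h.2⟩, decP_rep h.1,
          rep_inv (by norm_num) (decP_rep h.1) h.1⟩
      obtain ⟨a, ha, ha'⟩ := hel 0 (by norm_num)
      obtain ⟨b, hb, hb'⟩ := hel 1 (by norm_num)
      rw [show z = ⁅a, b⁆ from Subtype.ext (Equiv.ext fun i => Fin.ext ?_)]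
      · exact commutator_mem_commutator (mem_top a) (mem_top b)
      · rw [commutatorElement_def]
        simp only [Subgroup.coe_mul, Perm.mul_apply]
        rw [← ha, ← hb, ← ha', ← hb', Nat.eq_of_beq_eq_true (List.all_eq_true.mp hcomm i (List.mem_range.mpr i.2)),
          hzr i]

/-! ### The bound -/

theorem sub_table_two : TableOK 63 subTwo (gcTwo.map Prod.fst) := by
  obtain ⟨hs, hl, hlens, -⟩ := subTwo_shape
  refine tableOK_of_checks hs fun j hj k hk => ?_
  have he := List.all_eq_true.mp subTwo_entries j (List.mem_range.mpr (hl ▸ hj))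
  refine of_entriesOK he (Nat.zero_le _) ?_
  rw [← hlens, List.getD_eq_getElem _ _ (by simpa using hj), List.getElem_map]
  rwa [List.getD_eq_getElem _ _ hj] at hk

theorem sub_table_three : TableOK 63 subThree (gcThree.map Prod.fst) := by
  obtain ⟨hs, hl, hlens, -⟩ := subThree_shape
  refine tableOK_of_checks hs fun j hj k hk => ?_
  have he := List.all_eq_true.mp subThree_entries j (List.mem_range.mpr (hl ▸ hj))
  refine of_entriesOK he (Nat.zero_le _) ?_
  rw [← hlens, List.getD_eq_getElem _ _ (by simpa using hj), List.getElem_map]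
  rwa [List.getD_eq_getElem _ _ hj] at hk

theorem certTwo_ok : certTwo.check = true := by
  have h : ∀ i < 9, ((List.range 9).all fun j => Nat.blt j i || certTwo.relOK i j) = true := by
    intro i hi
    interval_cases i
    exacts [relTwo0, relTwo1, relTwo2, relTwo3, relTwo4, relTwo5, relTwo6, relTwo7, relTwo8]
  exact Bool.and_eq_true_iff.mpr ⟨List.all_eq_true.mpr fun i hi => h i (List.mem_range.mp hi), rphiTwo⟩

/-- The two-part of the certificate, on any stem extension with kernel of exponent four. -/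
theorem exp_four {Γ : Type u} [Group Γ] [Finite Γ] {σ : Γ →* ↥(genG 63 smallGens)} (hσ : Cfsg.IsStemExtension σ)
    (hexp : ∀ z ∈ σ.ker, z ^ 4 = 1) : ∃ w ∈ σ.ker, w ^ 2 = 1 ∧ σ.ker ≤ zpowers w := by
  classical
  obtain ⟨-, -, -, hsz, hone, hlen⟩ := subTwo_shape
  obtain ⟨g, t, ht, hf, hle⟩ := SylowData.exists_elems ⟨gcTwo, tcTwo, subTwo⟩ (by norm_num) table_small valid_small
    small_group.1 (facts := certTwo.facts) (N := 512) ⟨memTwo, hone, factsTwo, sub_table_two, hsz⟩
  simp only at hle
  rw [hlen] at hle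
  have hn : certTwo.n = 9 ∧ certTwo.q = 4 ∧ certTwo.r = 2 := ⟨rfl, rfl, rfl⟩
  have hz : ∀ N f, CollectMod.zz (fun _ => (1 : ↥(genG 63 smallGens))) N f = 1 := fun N f => by
    induction N with
    | zero => rfl
    | succ N ih => simp [CollectMod.zz, ih]
  have hup := CollectMod.card_lift certTwo (Gl := g) (Tl := t) (E := fun _ => 1)
    (fun _ _ => Commute.one_left _) (fun _ => one_pow _) ht (fun m => by
      show _ = _ * (1 : ↥(genG 63 smallGens))
      rw [mul_one]
      by_cases hm : m < certTwo.facts.length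
      · exact hf m hm
      · rw [show certTwo.fact m = (0, [], []) from List.getD_eq_default _ _ (not_lt.mp hm)]
        simp [Collect.ev_nil, ht]) certTwo_ok
  simp only [hz, mul_one, orderOf_one] at hup
  set P := closure (g '' {k | k < certTwo.n}) with hP
  have hup' : Nat.card P ≤ 512 := by
    refine le_trans (card_le_of_le ?_) (hup.trans_eq (by rw [hn.1]; norm_num))
    exact closure_mono Set.subset_union_left
  have hidx : P.index = 2835 := by
    have h := P.card_mul_index
    rw [small_group.2.1, le_antisymm hup' hle] at h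
    omega
  obtain ⟨w, hw, hwr, hz'⟩ := CollectMod.pow_index_mem_zpowers hσ certTwo (hn.2.1.symm ▸ hexp) certTwo_ok g t ht hf
    (by rw [hn.1]; exact hle)
  refine ⟨w, hw, hn.2.2 ▸ hwr, fun z hzk => ?_⟩
  have := hz' z hzk
  rw [← hP, hidx, show (2835 : ℕ) = 4 * 708 + 3 by norm_num, pow_add, pow_mul, hexp z hzk, one_pow, one_mul] at this
  have h4 : z ^ 3 = z⁻¹ := eq_inv_of_mul_eq_one_left (by rw [← pow_succ]; exact hexp z hzk)
  rw [h4, inv_mem_iff] at this
  exact this

theorem kill_prime {Γ : Type u} [Group Γ] {H : Subgroup Γ} {p : ℕ} (h : ∀ w ∈ H, w ^ p = 1 → w = 1) :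
    ∀ k m : ℕ, ∀ z ∈ H, z ^ (p ^ k * m) = 1 → z ^ m = 1 := by
  intro k
  induction k with
  | zero => intro m z _ hz; simpa using hz
  | succ k ih =>
    intro m z hzH hz
    refine h _ (pow_mem hzH m) ?_
    rw [← pow_mul, mul_comm]
    exact ih (p * m) z hzH (by rw [← hz]; congr 1; ring)

theorem ker_small {Γ : Type u} [Group Γ] [Finite Γ] {σ : Γ →* ↥(genG 63 smallGens)} (hσ : Cfsg.IsStemExtension σ) :
    ∃ w ∈ σ.ker, w ^ 2 = 1 ∧ σ.ker ≤ zpowers w := by
  classical
  have hcard := small_group.2.1
  have k3 : ∀ w ∈ σ.ker, w ^ 3 = 1 → w = 1 := fun w hw h3 => by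
    obtain ⟨-, -, -, hsz, hone, hlen⟩ := subThree_shape
    exact no_torsion_of_cert (by norm_num) table_small valid_small small_group.1 certThree certThree_ok Nat.prime_three
      ⟨gcThree, tcThree, subThree⟩ hlen ⟨memThree, hone, factsThree, sub_table_three, hsz⟩
      (by rw [hcard]; norm_num [certThree]) hσ hw h3
  have kc : ∀ p ∈ [5, 7], ∀ w ∈ σ.ker, w ^ p = 1 → w = 1 := fun p hp w hw hwp => by
    obtain ⟨hall, hmap⟩ := cyc_ok
    rw [← hmap] at hp
    obtain ⟨d, hd, rfl⟩ := List.mem_map.mp hp
    have hd57 : d.1 = 5 ∨ d.1 = 7 := by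
      have : d.1 ∈ cycCodes.map Prod.fst := List.mem_map_of_mem hd
      simpa [hmap] using this
    have h := List.all_eq_true.mp hall d hd
    simp only [Bool.and_eq_true, Bool.not_eq_true', List.all_eq_true, List.mem_range] at h
    obtain ⟨⟨⟨hp', hs⟩, hpow⟩, hne⟩ := h
    have hr := decP_rep hp'
    let g : ↥(genG 63 smallGens) := ⟨_, mem_of_sift (by norm_num) table_small valid_small _ _ hr hs⟩
    refine no_torsion_cyclic (by rcases hd57 with e | e <;> rw [e] <;> norm_num) (g := g)
      (Subtype.ext (Equiv.ext fun i => Fin.ext ?_)) (fun e => ?_) ?_ hσ hw hwp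
    · rw [SubgroupClass.coe_pow, ← rep_apN hr, Nat.eq_of_beq_eq_true (hpow i i.2)]
      rfl
    · have e' : decP 63 d.2.1 = 1 := congrArg Subtype.val e
      rw [← Bool.not_eq_true, List.all_eq_true] at hne
      refine hne fun i hi => ?_
      have := hr ⟨i, List.mem_range.mp hi⟩
      rw [e'] at this
      rw [show ap d.2.1 i = i from this, Nat.beq_refl]
    · rw [hcard]; rcases hd57 with e | e <;> rw [e] <;> norm_num
  have h512 : ∀ z ∈ σ.ker, z ^ 512 = 1 := by
    intro z hz
    have h0 : z ^ 1451520 = 1 := by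
      have := CfsgLib.StSL.pow_index_eq_one_of_cyclic hσ (1 : ↥(genG 63 smallGens)) hz
      rwa [zpowers_one_eq_bot, index_bot, hcard] at this
    refine kill_prime (kc 7 (by simp)) 1 512 z hz (kill_prime (kc 5 (by simp)) 1 _ z hz
      (kill_prime k3 4 _ z hz ?_))
    rw [← h0]; norm_num
  obtain ⟨z₀, hz₀, ⟨y₀, hy₀, he₀⟩, hall⟩ := CollectMod.mod_pow hσ 4 2 (fun Δ _ _ τ hτ hexp => exp_four hτ hexp)
  have hsq : ∀ z ∈ σ.ker, ∃ v ∈ σ.ker, z ^ 2 = v ^ 4 := by
    intro z hz
    obtain ⟨k, y, hy, rfl⟩ := hall z hz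
    refine ⟨y₀ ^ k * y ^ 2, mul_mem (zpow_mem hy₀ k) (pow_mem hy 2), ?_⟩
    have hc : ∀ x, x ∈ σ.ker → ∀ g, Commute x g := fun x hx g => (mem_center_iff.mp (hσ.2.1 hx) g).symm
    rw [(hc _ (zpow_mem hz₀ k) _).mul_pow, (hc _ (zpow_mem hy₀ k) _).mul_pow, ← pow_mul, ← pow_mul]
    congr 1
    rw [← zpow_natCast (z₀ ^ k), ← zpow_natCast (y₀ ^ k), ← _root_.zpow_mul, ← _root_.zpow_mul, mul_comm k, mul_comm k,
      _root_.zpow_mul, _root_.zpow_mul, zpow_natCast, zpow_natCast, he₀]
  have hit : ∀ j : ℕ, ∀ z ∈ σ.ker, ∃ v ∈ σ.ker, z ^ 2 = v ^ 2 ^ (j + 2) := by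
    intro j
    induction j with
    | zero => exact hsq
    | succ j ih =>
      intro z hz
      obtain ⟨v, hv, e⟩ := ih z hz
      obtain ⟨x, hx, e'⟩ := hsq v hv
      refine ⟨x, hx, ?_⟩
      rw [e, show 2 ^ (j + 2) = 2 * 2 ^ (j + 1) by ring, pow_mul, e', ← pow_mul]
      congr 1
      ring
  have h2 : ∀ z ∈ σ.ker, z ^ 2 = 1 := by
    intro z hz
    obtain ⟨v, hv, e⟩ := hit 7 z hz
    rw [e]; exact h512 v hv
  refine ⟨z₀, hz₀, h2 _ hz₀, fun z hz => ?_⟩
  obtain ⟨k, y, hy, rfl⟩ := hall z hz
  rw [show (4 : ℕ) = 2 * 2 from rfl, pow_mul, h2 y hy, one_pow, mul_one]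
  exact zpow_mem (mem_zpowers z₀) k

theorem multiplier {F : Type u} [Field F] [Fintype F] (hF : Fintype.card F = 2) :
    Cfsg.HasCyclicSchurMultiplier (Cfsg.PSp 3 F) 2 := by
  haveI : Fact (Nat.Prime 2) := ⟨Nat.prime_two⟩
  obtain ⟨e⟩ := equiv_small hF
  have hZ : Nat.card (Multiplicative (ZMod 2)) = 2 := by simp
  refine ⟨?_, fun Γ _ _ σ hσ => ?_⟩
  · obtain ⟨⟨hs, hc, hd⟩, hk⟩ := cover_stem
    let d : ULift.{u} ↥(genG 303 coverGens) ≃* ↥(genG 303 coverGens) := MulEquiv.ulift
    let τ : ULift.{u} ↥(genG 303 coverGens) →* Cfsg.PSp 3 F := e.symm.toMonoidHom.comp (proj.comp d.toMonoidHom)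
    have hker : ∀ x, x ∈ τ.ker ↔ d x ∈ proj.ker := fun x =>
      ⟨fun h => MonoidHom.mem_ker.mpr (e.symm.injective ((MonoidHom.mem_ker.mp h).trans (map_one e.symm).symm)),
        fun h => MonoidHom.mem_ker.mpr ((congrArg e.symm (MonoidHom.mem_ker.mp h)).trans (map_one e.symm))⟩
    have hst : Cfsg.IsStemExtension τ := by
      refine ⟨e.symm.surjective.comp (hs.comp d.surjective), fun x hx => ?_, fun x hx => ?_⟩
      · refine mem_center_iff.mpr fun y => d.injective ?_
        rw [map_mul, map_mul]
        exact mem_center_iff.mp (hc ((hker x).mp hx)) _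
      · have hm := mem_map_of_mem d.symm.toMonoidHom (hd ((hker x).mp hx))
        rw [_root_.commutator_def, map_commutator, map_top_of_surjective _ d.symm.surjective] at hm
        simpa [_root_.commutator_def] using hm
    refine ⟨_, inferInstance, inferInstance, τ, hst, ⟨mulEquivOfPrimeCardEq ?_ hZ⟩⟩
    rw [← hk]
    exact Nat.card_congr (d.toEquiv.subtypeEquiv hker)
  · obtain ⟨w, hw, hw2, hle⟩ := ker_small (σ := e.toMonoidHom.comp σ)
      ⟨e.surjective.comp hσ.1, fun x hx => hσ.2.1 (by simpa using hx), fun x hx => hσ.2.2 (by simpa using hx)⟩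
    have hw' : w ∈ σ.ker := by simpa using hw
    have hle' : σ.ker ≤ zpowers w := fun x hx => hle (by simpa using hx)
    by_cases h1 : w = 1
    · refine ⟨1, fun x => ⟨1, ?_⟩⟩
      have := hle' x.2
      rw [h1, Subgroup.zpowers_one_eq_bot, Subgroup.mem_bot] at this
      exact Subtype.ext this.symm
    · have hc : Nat.card σ.ker = 2 := by
        rw [le_antisymm hle' (Subgroup.zpowers_le.mpr hw'), Nat.card_zpowers, orderOf_eq_prime hw2 h1]
      exact ⟨(mulEquivOfPrimeCardEq hZ hc).toMonoidHom, (mulEquivOfPrimeCardEq hZ hc).surjective⟩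

end CfsgLib.StemSylow.SpSix
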