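/-
Monomial covers of a group of permutations.

The group moves labelled objects, each a set of points with possibly one marked point. Two monomial permutations
over the actions of its generators keep a connected set of labelled arcs, so an element over the identity adds a
constant; a relator of constant value one then makes a perfect cover.
-/
import Cfsg.Agent.Lib.PermChain.Chain
import Cfsg.Agent.Lib.PermChain.WideV
import Cfsg.Prelude.Def_KGroupFacts

set_option autoImplicit false
set_option linter.unusedSectionVars false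
set_option linter.style.haveILetI false

namespace CfsgLib.StemSylow.LabelCover

open Equiv Subgroup

/-- The data of a cover: objects, actions and labels of two generators, labelled arcs, a spanning tree and a
relator. Lists of length over a hundred are cut in pieces of 32. -/
structure Data where
  m : ℕ
  q : ℕ
  deg : ℕ
  masks : List (List ℕ)
  marks : List (List ℕ)
  codes : List (ℕ × ℕ)
  labels : List ℕ
  rows : List (List ℕ)
  arcs : List (List ℕ)
  par : List (List ℕ)
  word : List ℕ

/-- An entry of a list cut in pieces. -/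
def get2 (L : List (List ℕ)) (i : ℕ) : ℕ := (L.getD (i / 32) []).getD (i % 32) 0

/-- Field number `i` of four bits. -/
def fld (x i : ℕ) : ℕ := (x >>> (4 * i)) % 16

namespace Data

variable (D : Data)

def mask (i : ℕ) : ℕ := get2 D.masks i

def mark (i : ℕ) : ℕ := get2 D.marks i

def act (j i : ℕ) : ℕ := CfsgPCV.ap (D.codes.getD j (0, 0)).1 i

def lab (j i : ℕ) : ℕ := fld (D.labels.getD j 0) i

def row (a : ℕ) : ℕ := get2 D.rows a

/-- The end of arc `k` at a vertex. -/
def arcEnd (a k : ℕ) : ℕ := (get2 D.arcs a >>> (16 * k)) % 65536 / 16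

/-- Its label, plus one. -/
def arcLab (a k : ℕ) : ℕ := (get2 D.arcs a >>> (16 * k)) % 16

/-- The row of a vertex, from its arcs. -/
def fold (a : ℕ) : ℕ :=
  (List.range D.deg).foldr (fun k x => (D.arcLab a k <<< (4 * D.arcEnd a k)) ||| x) 0

def permsOK : Bool :=
  Nat.beq D.codes.length 2 && Nat.blt 0 D.m && D.codes.all (fun c => CfsgPCV.isPerm D.m c.1 c.2) &&
    (List.range 2).all fun j => (List.range D.m).all fun i => Nat.blt (D.lab j i) D.q

def objOK (n : ℕ) : Bool :=
  (List.range D.m).all fun i => Nat.blt (D.mask i) (2 ^ n) && Nat.ble (D.mark i) n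

def injOK (a b : ℕ) : Bool :=
  (List.range (b - a)).all fun d => (List.range (a + d)).all fun k =>
    !(Nat.beq (D.mask (a + d)) (D.mask k) && Nat.beq (D.mark (a + d)) (D.mark k))

/-- The generators move the objects as their codes say. -/
def moveOK (n : ℕ) (cs : List ℕ) : Bool :=
  (List.range 2).all fun j => (List.range D.m).all fun i => (List.range n).all fun t =>
    ((D.mask i).testBit t == (D.mask (D.act j i)).testBit (CfsgPC.ap (cs.getD j 0) t)) &&
      (Nat.beq (D.mark i) t == Nat.beq (D.mark (D.act j i)) (CfsgPC.ap (cs.getD j 0) t))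

/-- The objects in increasing order, and the place of each. -/
def sortOK (srt pos : List (List ℕ)) : Bool :=
  ((List.range (D.m - 1)).all fun k =>
      Nat.blt (D.mask (get2 srt k) * 32 + D.mark (get2 srt k)) (D.mask (get2 srt (k + 1)) * 32 + D.mark (get2 srt (k + 1)))) &&
    (List.range D.m).all fun i => Nat.blt (get2 pos i) D.m && Nat.beq (get2 srt (get2 pos i)) i

def rowOK (a b : ℕ) : Bool :=
  (List.range (b - a)).all fun d => Nat.beq (D.row (a + d)) (D.fold (a + d)) &&
    (List.range D.deg).all fun k => Nat.blt (D.arcEnd (a + d) k) D.m && Nat.blt 0 (D.arcLab (a + d) k) &&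
      Nat.ble (D.arcLab (a + d) k) D.q &&
      Nat.beq (fld (D.row (a + d)) (D.arcEnd (a + d) k)) (D.arcLab (a + d) k)

/-- The generators carry labelled arcs to labelled arcs. -/
def keepOK (j a b : ℕ) : Bool :=
  (List.range (b - a)).all fun d => (List.range D.deg).all fun k =>
    Nat.beq (fld (D.row (D.act j (a + d))) (D.act j (D.arcEnd (a + d) k)))
      ((D.arcLab (a + d) k - 1 + D.lab j (a + d) + (D.q - D.lab j (D.arcEnd (a + d) k))) % D.q + 1)

def treeOK : Bool :=
  (List.range D.m).all fun i => Nat.beq i 0 || (Nat.blt (get2 D.par i) i &&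
    (!Nat.beq (fld (D.row (get2 D.par i)) i) 0 || !Nat.beq (fld (D.row i) (get2 D.par i)) 0))

/-- Follow a word. -/
def run : List ℕ → ℕ × ℕ → ℕ × ℕ
  | [], x => x
  | j :: w, x => run w (D.act j x.1, (x.2 + D.lab j x.1) % D.q)

/-- Follow a word on the points. -/
def runPts (cs : List ℕ) : List ℕ → ℕ → ℕ
  | [], i => i
  | j :: w, i => runPts cs w (CfsgPC.ap (cs.getD j 0) i)

def wordOK (n : ℕ) (cs : List ℕ) : Bool :=
  (List.range n).all (fun i => Nat.beq (runPts cs D.word i) i) &&
    Nat.beq (D.run D.word (0, 0)).1 0 && Nat.beq (D.run D.word (0, 0)).2 1 &&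
    Nat.beq ((D.word.filter (· == 0)).length % D.q) 0 && Nat.beq ((D.word.filter (· == 1)).length % D.q) 0 &&
    D.word.all fun j => Nat.blt j 2

/-- What is to be checked. -/
structure OK (n : ℕ) (cs : List ℕ) : Prop where
  one_lt : 1 < D.q
  len : cs.length = 2
  perms : D.permsOK = true
  obj : D.objOK n = true
  inj : ∀ i < D.m, ∀ k < i, ¬(D.mask i = D.mask k ∧ D.mark i = D.mark k)
  move : D.moveOK n cs = true
  rowFold : ∀ a < D.m, Nat.beq (D.row a) (D.fold a) = true ∧ ∀ k < D.deg,
    (Nat.blt (D.arcEnd a k) D.m && Nat.blt 0 (D.arcLab a k) && Nat.ble (D.arcLab a k) D.q &&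
      Nat.beq (fld (D.row a) (D.arcEnd a k)) (D.arcLab a k)) = true
  keep : ∀ j < 2, ∀ a < D.m, ∀ k < D.deg,
    Nat.beq (fld (D.row (D.act j a)) (D.act j (D.arcEnd a k)))
      ((D.arcLab a k - 1 + D.lab j a + (D.q - D.lab j (D.arcEnd a k))) % D.q + 1) = true
  tree : D.treeOK = true
  word : D.wordOK n cs = true

theorem of_injOK {a b : ℕ} (h : D.injOK a b = true) {i : ℕ} (h1 : a ≤ i) (h2 : i < b) :
    ∀ k < i, ¬(D.mask i = D.mask k ∧ D.mark i = D.mark k) := fun k hk e => by
  have := List.all_eq_true.mp (List.all_eq_true.mp h (i - a) (List.mem_range.mpr (by omega))) k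
    (List.mem_range.mpr (by omega))
  rw [Nat.add_sub_cancel' h1, e.1, e.2, Nat.beq_refl, Nat.beq_refl] at this
  exact Bool.noConfusion this

theorem of_sortOK {srt pos : List (List ℕ)} (h : D.sortOK srt pos = true) :
    ∀ i < D.m, ∀ k < i, ¬(D.mask i = D.mask k ∧ D.mark i = D.mark k) := by
  simp only [sortOK, Bool.and_eq_true, List.all_eq_true, List.mem_range, Nat.blt_eq] at h
  obtain ⟨hs, hp⟩ := h
  set key := fun k => D.mask (get2 srt k) * 32 + D.mark (get2 srt k) with hkey
  have hmono : ∀ d k, k + d + 1 < D.m → key k < key (k + d + 1) := by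
    intro d
    induction d with
    | zero => exact fun k hk => hs k (by omega)
    | succ d ih => exact fun k hk => (ih k (by omega)).trans (hs (k + d + 1) (by omega))
  intro i hi k hk e
  obtain ⟨pi, ei⟩ := hp i hi
  obtain ⟨pk, ek⟩ := hp k (hk.trans hi)
  have hv : key (get2 pos i) = key (get2 pos k) := by
    simp only [hkey, Nat.eq_of_beq_eq_true ei, Nat.eq_of_beq_eq_true ek, e.1, e.2]
  rcases lt_trichotomy (get2 pos i) (get2 pos k) with hlt | heq | hgt
  · have := hmono (get2 pos k - get2 pos i - 1) (get2 pos i) (by omega)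
    rw [show get2 pos i + (get2 pos k - get2 pos i - 1) + 1 = get2 pos k by omega] at this
    omega
  · have h2 := Nat.eq_of_beq_eq_true ei
    rw [heq, Nat.eq_of_beq_eq_true ek] at h2
    omega
  · have := hmono (get2 pos i - get2 pos k - 1) (get2 pos k) (by omega)
    rw [show get2 pos k + (get2 pos i - get2 pos k - 1) + 1 = get2 pos i by omega] at this
    omega

theorem of_rowOK {a b : ℕ} (h : D.rowOK a b = true) {i : ℕ} (h1 : a ≤ i) (h2 : i < b) :
    Nat.beq (D.row i) (D.fold i) = true ∧ ∀ k < D.deg,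
      (Nat.blt (D.arcEnd i k) D.m && Nat.blt 0 (D.arcLab i k) && Nat.ble (D.arcLab i k) D.q &&
        Nat.beq (fld (D.row i) (D.arcEnd i k)) (D.arcLab i k)) = true := by
  have := List.all_eq_true.mp h (i - a) (List.mem_range.mpr (by omega))
  rw [Bool.and_eq_true, Nat.add_sub_cancel' h1] at this
  exact ⟨this.1, fun k hk => List.all_eq_true.mp this.2 k (List.mem_range.mpr hk)⟩

theorem of_keepOK {j a b : ℕ} (h : D.keepOK j a b = true) {i : ℕ} (h1 : a ≤ i) (h2 : i < b) :
    ∀ k < D.deg, Nat.beq (fld (D.row (D.act j i)) (D.act j (D.arcEnd i k)))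
      ((D.arcLab i k - 1 + D.lab j i + (D.q - D.lab j (D.arcEnd i k))) % D.q + 1) = true := fun k hk => by
  have := List.all_eq_true.mp (List.all_eq_true.mp h (i - a) (List.mem_range.mpr (by omega))) k (List.mem_range.mpr hk)
  rwa [Nat.add_sub_cancel' h1] at this

end Data

theorem testBit_fld (x i t : ℕ) : (fld x i).testBit t = (decide (t < 4) && x.testBit (4 * i + t)) := by
  rw [fld, show (16 : ℕ) = 2 ^ 4 from rfl, Nat.testBit_mod_two_pow, Nat.testBit_shiftRight]

theorem fld_zero (i : ℕ) : fld 0 i = 0 := by simp [fld]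

theorem fld_or (x y i : ℕ) : fld (x ||| y) i = fld x i ||| fld y i := by
  rw [fld, fld, fld, Nat.shiftRight_or_distrib, show (16 : ℕ) = 2 ^ 4 from rfl, Nat.or_mod_two_pow]

theorem fld_shift {v c i : ℕ} (hv : v < 16) : fld (v <<< (4 * c)) i = if i = c then v else 0 := by
  refine Nat.eq_of_testBit_eq fun t => ?_
  have hhi : ∀ s, 4 ≤ s → v.testBit s = false := fun s hs =>
    Nat.testBit_lt_two_pow (hv.trans_le (le_trans (show 16 ≤ 2 ^ 4 by norm_num) (Nat.pow_le_pow_right Nat.two_pos hs)))
  rw [testBit_fld, Nat.testBit_shiftLeft]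
  by_cases h : i = c
  · rw [if_pos h, h]
    by_cases ht : t < 4
    · simp [ht]
    · simp [ht, hhi t (by omega)]
  · rw [if_neg h, Nat.zero_testBit]
    by_cases ht : t < 4
    · by_cases hge : 4 * c ≤ 4 * i + t
      · simp [hhi (4 * i + t - 4 * c) (by omega)]
      · simp [hge]
    · simp [ht]

variable (D : Data) {n : ℕ} (cs : List ℕ)

abbrev Pts := Fin D.m × ZMod D.q

/-- A monomial permutation. -/
def mono (p : Perm (Fin D.m)) (c : Fin D.m → ZMod D.q) : Perm (Pts D) where
  toFun x := (p x.1, x.2 + c x.1)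
  invFun y := (p.symm y.1, y.2 - c (p.symm y.1))
  left_inv x := by simp
  right_inv y := by simp

theorem mono_apply (p : Perm (Fin D.m)) (c : Fin D.m → ZMod D.q) (x : Pts D) :
    mono D p c x = (p x.1, x.2 + c x.1) := rfl

theorem mono_mul (p r : Perm (Fin D.m)) (c d : Fin D.m → ZMod D.q) :
    mono D p c * mono D r d = mono D (p * r) (fun i => d i + c (r i)) := by
  ext x <;> simp [mono_apply, Perm.mul_apply, add_assoc]

/-- A labelled arc. -/
def Arc (a b : Fin D.m) (l : ZMod D.q) : Prop := fld (D.row a) b = l.val + 1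

/-- An element over a monomial permutation which carries the objects and the arcs. -/
def Good (x : ↥(CfsgPC.genG n cs) × Perm (Pts D)) : Prop :=
  ∃ p c, x.2 = mono D p c ∧
    (∀ (i : Fin D.m) (t : Fin n), (D.mask i).testBit t = (D.mask (p i)).testBit ((x.1 : Perm (Fin n)) t) ∧
      (D.mark i = (t : ℕ) ↔ D.mark (p i) = ((x.1 : Perm (Fin n)) t : ℕ))) ∧
    ∀ a b l, Arc D a b l → Arc D (p a) (p b) (l + c a - c b)

theorem good_one : Good D (n := n) cs 1 :=
  ⟨1, fun _ => 0, by ext x <;> simp [mono_apply], fun i t => ⟨rfl, Iff.rfl⟩, fun a b l h => by simpa using h⟩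

theorem good_mul {x y : ↥(CfsgPC.genG n cs) × Perm (Pts D)} (hx : Good D cs x) (hy : Good D cs y) :
    Good D cs (x * y) := by
  obtain ⟨p, c, ex, lx, ax⟩ := hx
  obtain ⟨r, d, ey, ly, ay⟩ := hy
  refine ⟨p * r, fun i => d i + c (r i), by rw [Prod.snd_mul, ex, ey, mono_mul], fun i t => ?_, fun a b l h => ?_⟩
  · exact ⟨(ly i t).1.trans (lx (r i) _).1, (ly i t).2.trans (lx (r i) _).2⟩
  · have := ax _ _ _ (ay a b l h)
    rw [show l + (d a + c (r a)) - (d b + c (r b)) = l + d a - d b + c (r a) - c (r b) by abel]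
    exact this

/-- The good pairs. -/
def goodGroup [NeZero D.q] : Subgroup (↥(CfsgPC.genG n cs) × Perm (Pts D)) where
  carrier := {x | Good D cs x}
  one_mem' := good_one D cs
  mul_mem' := good_mul D cs
  inv_mem' := by
    intro x hx
    haveI : Finite ↥(CfsgPC.genG n cs) := inferInstance
    rw [show x⁻¹ = x ^ (orderOf x - 1) from by
      rw [inv_eq_iff_mul_eq_one, ← pow_succ', Nat.sub_add_cancel (orderOf_pos x), pow_orderOf_eq_one]]
    generalize orderOf x - 1 = e
    induction e with
    | zero => rw [pow_zero]; exact good_one D cs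
    | succ e ih => rw [pow_succ]; exact good_mul D cs ih hx

section Sound

variable {D cs} (ok : D.OK n cs) (hv : CfsgPC.Valid n cs)

include ok

theorem neZero : NeZero D.q := ⟨(Nat.lt_trans Nat.one_pos ok.one_lt).ne'⟩

theorem pos : 0 < D.m := by
  have h := ok.perms
  simp only [Data.permsOK, Bool.and_eq_true, Nat.blt_eq] at h
  exact h.1.1.2

theorem lab_lt {j i : ℕ} (hj : j < 2) (hi : i < D.m) : D.lab j i < D.q := by
  have h := ok.perms
  simp only [Data.permsOK, Bool.and_eq_true, List.all_eq_true, List.mem_range, Nat.blt_eq] at h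
  exact h.2 j hj i hi

theorem perm_rep {j : ℕ} (hj : j < 2) :
    CfsgPCV.Rep D.m (D.codes.getD j (0, 0)).1 (CfsgPCV.decP D.m (D.codes.getD j (0, 0)).1) := by
  have h := ok.perms
  simp only [Data.permsOK, Bool.and_eq_true, List.all_eq_true] at h
  have hl : j < D.codes.length := (Nat.eq_of_beq_eq_true h.1.1.1).symm ▸ hj
  rw [List.getD_eq_getElem _ _ hl]
  exact CfsgPCV.decP_rep (h.1.2 _ (List.getElem_mem hl))

/-- An arc comes from the list of arcs. -/
theorem arc_list {a : ℕ} (ha : a < D.m) {b : ℕ} (hb : fld (D.row a) b ≠ 0) :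
    ∃ k < D.deg, D.arcEnd a k = b ∧ D.arcLab a k = fld (D.row a) b := by
  obtain ⟨hf, hk⟩ := ok.rowFold a ha
  rw [Nat.eq_of_beq_eq_true hf, Data.fold] at hb
  have key : ∀ L : List ℕ, fld (L.foldr (fun k x => (D.arcLab a k <<< (4 * D.arcEnd a k)) ||| x) 0) b ≠ 0 →
      ∃ k ∈ L, D.arcEnd a k = b := by
    intro L
    induction L with
    | nil => intro h; exact absurd (fld_zero b) h
    | cons k L ih =>
      intro h
      rw [List.foldr_cons, fld_or, fld_shift (v := D.arcLab a k) (Nat.mod_lt _ (by norm_num))] at h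
      by_cases e : b = D.arcEnd a k
      · exact ⟨k, List.mem_cons_self .., e.symm⟩
      · rw [if_neg e, Nat.zero_or] at h
        obtain ⟨k', hk', e'⟩ := ih h
        exact ⟨k', List.mem_cons_of_mem _ hk', e'⟩
  obtain ⟨k, hmem, e⟩ := key _ hb
  have hkd := List.mem_range.mp hmem
  have := hk k hkd
  simp only [Bool.and_eq_true] at this
  exact ⟨k, hkd, e, by rw [← e]; exact (Nat.eq_of_beq_eq_true this.2).symm⟩

/-- A generator of the cover. -/
noncomputable def gen (hv : CfsgPC.Valid n cs) (j : Fin 2) : ↥(CfsgPC.genG n cs) × Perm (Pts D) :=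
  (⟨(hv _ (List.getElem_mem (ok.len.symm ▸ j.2 : (j : ℕ) < cs.length))).choose,
    CfsgPC.Valid.mem (List.getElem_mem _) (hv _ (List.getElem_mem _)).choose_spec⟩,
    mono D (CfsgPCV.decP D.m (D.codes.getD j (0, 0)).1) fun i => (D.lab j i : ZMod D.q))

include hv

theorem gen_rep (j : Fin 2) : CfsgPC.Rep n (cs.getD j 0) ((gen ok hv j).1 : Perm (Fin n)) := by
  have hj : (j : ℕ) < cs.length := ok.len.symm ▸ j.2
  rw [List.getD_eq_getElem _ _ hj]
  exact (hv _ (List.getElem_mem hj)).choose_spec

theorem gen_good (j : Fin 2) : Good D cs (gen ok hv j) := by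
  haveI := neZero ok
  refine ⟨CfsgPCV.decP D.m (D.codes.getD j (0, 0)).1, fun i => (D.lab j i : ZMod D.q), rfl, fun i t => ?_,
    fun a b l h => ?_⟩
  · have h := List.all_eq_true.mp (List.all_eq_true.mp (List.all_eq_true.mp ok.move j (List.mem_range.mpr j.2))
      i (List.mem_range.mpr i.2)) t (List.mem_range.mpr t.2)
    simp only [Bool.and_eq_true, beq_iff_eq, Data.act] at h
    rw [gen_rep ok hv j t, perm_rep ok j.2 i] at h
    refine ⟨h.1, ?_⟩
    rw [← Nat.beq_eq, ← Nat.beq_eq, h.2]
  · obtain ⟨k, hk, hb, hl⟩ := arc_list ok a.2 (b := b) (by rw [h]; exact Nat.succ_ne_zero _)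
    have e := Nat.eq_of_beq_eq_true (ok.keep j j.2 a a.2 k hk)
    rw [hb, hl, h, Data.act, Data.act, perm_rep ok j.2 a, perm_rep ok j.2 b, Nat.add_sub_cancel] at e
    show fld (D.row _) _ = _
    rw [e]
    congr 1
    rw [← ZMod.val_natCast, Nat.cast_add, Nat.cast_add, Nat.cast_sub (lab_lt ok j.2 b.2).le, ZMod.natCast_self,
      ZMod.natCast_val, ZMod.cast_id]
    congr 1
    ring

/-- The cover. -/
abbrev Cover := ↥(closure (Set.range (gen ok hv)))

/-- The projection. -/
noncomputable def proj : Cover ok hv →* ↥(CfsgPC.genG n cs) :=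
  (MonoidHom.fst _ _).comp (closure (Set.range (gen ok hv))).subtype

theorem cover_good (x : Cover ok hv) : Good D cs (x : ↥(CfsgPC.genG n cs) × Perm (Pts D)) := by
  haveI := neZero ok
  exact (closure_le (goodGroup D cs)).mpr (by rintro _ ⟨j, rfl⟩; exact gen_good ok hv j) x.2

theorem proj_surjective : Function.Surjective (proj ok hv) := by
  rintro ⟨x, hx⟩
  suffices hs : x ∈ (proj ok hv).range.map (CfsgPC.genG n cs).subtype by
    obtain ⟨-, ⟨g, rfl⟩, e⟩ := hs
    exact ⟨g, Subtype.ext e⟩
  refine closure_le _ |>.mpr ?_ hx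
  rintro x ⟨c, hc, hx⟩
  obtain ⟨j, hj, rfl⟩ := List.getElem_of_mem hc
  have hr := gen_rep ok hv ⟨j, ok.len ▸ hj⟩
  rw [List.getD_eq_getElem _ _ hj] at hr
  exact ⟨proj ok hv ⟨_, subset_closure ⟨⟨j, ok.len ▸ hj⟩, rfl⟩⟩, ⟨_, rfl⟩, hr.unique hx⟩

/-- An element over the identity adds a constant. -/
theorem ker_proj {x : Cover ok hv} (hx : x ∈ (proj ok hv).ker) :
    ∃ s : ZMod D.q, (x : ↥(CfsgPC.genG n cs) × Perm (Pts D)).2 = mono D 1 fun _ => s := by
  haveI := neZero ok
  obtain ⟨p, c, e, hlk, harc⟩ := cover_good ok hv x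
  have h1 : (x : ↥(CfsgPC.genG n cs) × Perm (Pts D)).1 = 1 := hx
  simp only [h1, OneMemClass.coe_one, Perm.one_apply] at hlk
  have hob := ok.obj
  simp only [Data.objOK, Bool.and_eq_true, List.all_eq_true, List.mem_range, Nat.blt_eq, Nat.ble_eq] at hob
  have hp : p = 1 := by
    refine Equiv.ext fun i => ?_
    by_contra hne
    have hmask : D.mask (p i) = D.mask i := Nat.eq_of_testBit_eq fun t => by
      by_cases ht : t < n
      · exact ((hlk i ⟨t, ht⟩).1).symm
      · have hpts : 2 ^ n ≤ 2 ^ t := Nat.pow_le_pow_right (by norm_num) (by omega)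
        rw [Nat.testBit_lt_two_pow ((hob _ (p i).2).1.trans_le hpts),
          Nat.testBit_lt_two_pow ((hob _ i.2).1.trans_le hpts)]
    have hmark : D.mark (p i) = D.mark i := by
      have b1 := (hob _ i.2).2
      have b2 := (hob _ (p i).2).2
      by_cases hi : D.mark i < n
      · exact (hlk i ⟨_, hi⟩).2.mp rfl
      · by_contra hm
        exact hm ((hlk i ⟨D.mark (p i), by omega⟩).2.mpr rfl).symm
    rcases lt_trichotomy ((p i : Fin D.m) : ℕ) i with hlt | heq | hgt
    · exact ok.inj i i.2 _ hlt ⟨hmask.symm, hmark.symm⟩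
    · exact hne (Fin.ext heq)
    · exact ok.inj (p i) (p i).2 _ hgt ⟨hmask, hmark⟩
  subst hp
  have hedge : ∀ a b : Fin D.m, fld (D.row a) b ≠ 0 → c a = c b := by
    intro a b h
    obtain ⟨k, hk, hb, hl⟩ := arc_list ok a.2 h
    have hh := (ok.rowFold a a.2).2 k hk
    simp only [Bool.and_eq_true, Nat.blt_eq, Nat.ble_eq] at hh
    have h0 : Arc D a b ((D.arcLab a k - 1 : ℕ) : ZMod D.q) := by
      show fld _ _ = _
      rw [ZMod.val_natCast_of_lt (by omega), ← hl]
      omega
    have h2 := harc a b _ h0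
    simp only [Arc, Perm.one_apply] at h0 h2
    rw [h0] at h2
    have := ZMod.val_injective D.q (Nat.succ.inj h2)
    rw [eq_comm, add_sub_assoc, add_eq_left, sub_eq_zero] at this
    exact this
  have hall : ∀ n, ∀ hn : n < D.m, c ⟨n, hn⟩ = c ⟨0, pos ok⟩ := by
    intro n
    induction n using Nat.strong_induction_on with
    | _ n ih =>
      intro hn
      have ht := List.all_eq_true.mp ok.tree n (List.mem_range.mpr hn)
      simp only [Bool.or_eq_true, Bool.and_eq_true, Nat.blt_eq, Bool.not_eq_true'] at ht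
      rcases ht with ht | ⟨hlt, ht⟩
      · obtain rfl := Nat.eq_of_beq_eq_true ht
        rfl
      · have hne : ∀ v, Nat.beq v 0 = false → v ≠ 0 := by rintro v hv' rfl; exact Bool.noConfusion hv'
        rw [← ih _ hlt (hlt.trans hn)]
        rcases ht with ht | ht
        · exact (hedge ⟨_, hlt.trans hn⟩ ⟨n, hn⟩ (hne _ ht)).symm
        · exact hedge ⟨n, hn⟩ ⟨_, hlt.trans hn⟩ (hne _ ht)
  exact ⟨c ⟨0, pos ok⟩, e.trans (congrArg _ (funext fun i => hall i i.2))⟩

/-- A generator, as an element of the cover. -/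
noncomputable def gel (j : ℕ) : Cover ok hv :=
  if h : j < 2 then ⟨gen ok hv ⟨j, h⟩, subset_closure ⟨_, rfl⟩⟩ else 1

/-- The value of a word, first letter first. -/
noncomputable def val : List ℕ → Cover ok hv
  | [] => 1
  | j :: w => val w * gel ok hv j

theorem runPts_val : ∀ (w : List ℕ), (∀ j ∈ w, j < 2) → ∀ i : Fin n,
    Data.runPts cs w i = (((val ok hv w : Cover ok hv) : ↥(CfsgPC.genG n cs) × Perm (Pts D)).1 : Perm (Fin n)) i := by
  intro w
  induction w with
  | nil => intro _ i; rfl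
  | cons j w ih =>
    intro hw i
    have hj : j < 2 := hw j (List.mem_cons_self ..)
    have hg : gel ok hv j = ⟨gen ok hv ⟨j, hj⟩, subset_closure ⟨_, rfl⟩⟩ := dif_pos hj
    rw [Data.runPts, val, hg, gen_rep ok hv ⟨j, hj⟩ i, ih fun x hx => hw x (List.mem_cons_of_mem _ hx)]
    rfl

theorem run_val : ∀ (w : List ℕ), (∀ j ∈ w, j < 2) → ∀ (i : Fin D.m) (t : ℕ),
    ((((val ok hv w : Cover ok hv) : ↥(CfsgPC.genG n cs) × Perm (Pts D)).2 (i, (t : ZMod D.q))).1 : ℕ) =
      (D.run w (i, t)).1 ∧
    (((val ok hv w : Cover ok hv) : ↥(CfsgPC.genG n cs) × Perm (Pts D)).2 (i, (t : ZMod D.q))).2 =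
      ((D.run w (i, t)).2 : ZMod D.q) := by
  intro w
  induction w with
  | nil => intro _ i t; exact ⟨rfl, rfl⟩
  | cons j w ih =>
    intro hw i t
    have hj : j < 2 := hw j (List.mem_cons_self ..)
    have hg : gel ok hv j = ⟨gen ok hv ⟨j, hj⟩, subset_closure ⟨_, rfl⟩⟩ := dif_pos hj
    have key := ih (fun x hx => hw x (List.mem_cons_of_mem _ hx)) (CfsgPCV.decP D.m (D.codes.getD j (0, 0)).1 i)
      ((t + D.lab j i) % D.q)
    rw [ZMod.natCast_mod, Nat.cast_add, ← perm_rep ok hj i] at key
    rw [Data.run, val, hg]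
    exact key

theorem of_val (w : List ℕ) (hw : ∀ j ∈ w, j < 2) : Abelianization.of (val ok hv w) =
    Abelianization.of (gel ok hv 0) ^ (w.filter (· == 0)).length *
      Abelianization.of (gel ok hv 1) ^ (w.filter (· == 1)).length := by
  induction w with
  | nil => simp [val]
  | cons j w ih =>
    rw [val, map_mul, ih fun x hx => hw x (List.mem_cons_of_mem _ hx)]
    have hj : j < 2 := hw j (List.mem_cons_self ..)
    interval_cases j
    · simp only [List.filter_cons, beq_self_eq_true, if_true, List.length_cons, pow_succ,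
        show ((0 : ℕ) == 1) = false from rfl]
      simp only [Bool.false_eq_true, if_false]
      rw [mul_right_comm]
    · simp only [List.filter_cons, beq_self_eq_true, if_true, List.length_cons, pow_succ,
        show ((1 : ℕ) == 0) = false from rfl]
      simp only [Bool.false_eq_true, if_false]
      rw [mul_assoc]

/-- A word trivial on the points adds the constant it adds at the first object. -/
theorem val_of_run (w : List ℕ) (hlt : ∀ j ∈ w, j < 2) (hpts : ∀ i < n, Data.runPts cs w i = i) {s : ℕ}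
    (hr : (D.run w (0, 0)).2 = s) :
    ((val ok hv w : Cover ok hv) : ↥(CfsgPC.genG n cs) × Perm (Pts D)) = (1, mono D 1 fun _ => (s : ZMod D.q)) := by
  haveI := neZero ok
  have h1 : ((val ok hv w : Cover ok hv) : ↥(CfsgPC.genG n cs) × Perm (Pts D)).1 = 1 :=
    Subtype.ext (Equiv.ext fun i => Fin.ext (by
      rw [← runPts_val ok hv _ hlt i, hpts i i.2]; rfl))
  obtain ⟨t, ht⟩ := ker_proj ok hv (x := val ok hv w) h1
  refine Prod.ext h1 ?_
  obtain ⟨-, e⟩ := run_val ok hv w hlt ⟨0, pos ok⟩ 0
  rw [ht, mono_apply, hr, Nat.cast_zero, zero_add] at e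
  rw [ht]
  exact congrArg _ (funext fun _ => e)

/-- The relator has the constant value one. -/
theorem val_word : ((val ok hv D.word : Cover ok hv) : ↥(CfsgPC.genG n cs) × Perm (Pts D)) = (1, mono D 1 fun _ => 1) := by
  have hw := ok.word
  simp only [Data.wordOK, Bool.and_eq_true, List.all_eq_true, Nat.blt_eq, List.mem_range] at hw
  obtain ⟨⟨⟨⟨⟨hpts, -⟩, hr2⟩, -⟩, -⟩, hlt⟩ := hw
  rw [val_of_run ok hv D.word hlt (fun i hi => Nat.eq_of_beq_eq_true (hpts i hi)) (Nat.eq_of_beq_eq_true hr2),
    Nat.cast_one]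

theorem pow_word (k : ℕ) :
    ((val ok hv D.word ^ k : Cover ok hv) : ↥(CfsgPC.genG n cs) × Perm (Pts D)) = (1, mono D 1 fun _ => (k : ZMod D.q)) := by
  rw [SubgroupClass.coe_pow, val_word]
  induction k with
  | zero => rw [pow_zero]; ext x <;> simp [mono_apply]
  | succ k ih =>
    rw [pow_succ, ih, Prod.mk_mul_mk, one_mul, mono_mul, one_mul]
    congr 2
    funext i
    push_cast
    ring

theorem ker_eq : (proj ok hv).ker = zpowers (val ok hv D.word) := by
  haveI := neZero ok
  refine le_antisymm (fun x hx => ?_) (zpowers_le.mpr ?_)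
  · obtain ⟨s, hs⟩ := ker_proj ok hv hx
    refine ⟨(s.val : ℤ), Subtype.ext (Prod.ext ?_ ?_)⟩
    · show ((val ok hv D.word ^ ((s.val : ℕ) : ℤ) : Cover ok hv) : ↥(CfsgPC.genG n cs) × Perm (Pts D)).1 = _
      rw [zpow_natCast, pow_word]
      exact hx.symm
    · show ((val ok hv D.word ^ ((s.val : ℕ) : ℤ) : Cover ok hv) : ↥(CfsgPC.genG n cs) × Perm (Pts D)).2 = _
      rw [zpow_natCast, pow_word, hs, ZMod.natCast_val, ZMod.cast_id]
  · exact congrArg Prod.fst (val_word ok hv)

theorem order_word : orderOf (val ok hv D.word) = D.q := by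
  haveI := neZero ok
  refine Nat.dvd_antisymm (orderOf_dvd_of_pow_eq_one (Subtype.ext ?_)) ((ZMod.natCast_eq_zero_iff _ _).mp ?_)
  · rw [pow_word, ZMod.natCast_self]
    ext x <;> simp [mono_apply]
  · have h := pow_word ok hv (orderOf (val ok hv D.word))
    rw [pow_orderOf_eq_one] at h
    have h2 := congrArg (fun y : ↥(CfsgPC.genG n cs) × Perm (Pts D) => (y.2 (⟨0, pos ok⟩, 0)).2) h
    simpa [mono_apply] using h2.symm

/-- A perfect group has the cover as a stem extension with cyclic kernel of order `q`. -/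
theorem cover_stem (hperf : _root_.commutator ↥(CfsgPC.genG n cs) = ⊤) :
    Finite (Cover ok hv) ∧ Cfsg.IsStemExtension (proj ok hv) ∧ Nat.card (proj ok hv).ker = D.q := by
  haveI := neZero ok
  haveI : Finite (Cover ok hv) := inferInstance
  set z := val ok hv D.word with hz
  have hord : z ^ D.q = 1 := by rw [← order_word ok hv]; exact pow_orderOf_eq_one _
  have hzc : zpowers z ≤ center (Cover ok hv) := by
    refine zpowers_le.mpr (mem_center_iff.mpr fun x => ?_)
    obtain ⟨p, c, e, -, -⟩ := cover_good ok hv x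
    refine Subtype.ext (Prod.ext ?_ ?_)
    · rw [Subgroup.coe_mul, Subgroup.coe_mul, Prod.fst_mul, Prod.fst_mul, hz, val_word, mul_one, one_mul]
    · rw [Subgroup.coe_mul, Subgroup.coe_mul, Prod.snd_mul, Prod.snd_mul, hz, val_word, e, mono_mul, mono_mul,
        mul_one, one_mul]
      exact congrArg _ (funext fun i => add_comm _ _)
  have hpow : ∀ x : Cover ok hv, Abelianization.of x ^ D.q = 1 := fun x => by
    have hm : proj ok hv x ∈ (_root_.commutator (Cover ok hv)).map (proj ok hv) := by
      rw [_root_.commutator_def, map_commutator, map_top_of_surjective _ (proj_surjective ok hv),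
        ← _root_.commutator_def, hperf]
      exact mem_top _
    obtain ⟨d, hd, he⟩ := hm
    obtain ⟨k, hk⟩ := mem_zpowers_iff.mp
      (ker_eq ok hv ▸ (show d⁻¹ * x ∈ (proj ok hv).ker by simp [MonoidHom.mem_ker, he]))
    rw [show x = d * z ^ k by rw [hk, mul_inv_cancel_left], map_mul,
      show Abelianization.of d = 1 by rw [← MonoidHom.mem_ker, Abelianization.ker_of]; exact hd, one_mul, map_zpow,
      ← zpow_natCast, ← zpow_mul, mul_comm, zpow_mul, zpow_natCast, ← map_pow, hord, map_one, one_zpow]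
  have hcm : z ∈ _root_.commutator (Cover ok hv) := by
    have hw := ok.word
    simp only [Data.wordOK, Bool.and_eq_true, List.all_eq_true, Nat.blt_eq] at hw
    obtain ⟨⟨⟨-, h0⟩, h1⟩, hlt⟩ := hw
    rw [← Abelianization.ker_of, MonoidHom.mem_ker, hz, of_val ok hv D.word hlt,
      ← Nat.div_add_mod (D.word.filter (· == 0)).length D.q, Nat.eq_of_beq_eq_true h0,
      ← Nat.div_add_mod (D.word.filter (· == 1)).length D.q, Nat.eq_of_beq_eq_true h1,
      add_zero, add_zero, pow_mul, pow_mul, hpow, hpow, one_pow, one_pow, mul_one]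
  refine ⟨inferInstance, ⟨proj_surjective ok hv, ker_eq ok hv ▸ hzc, ker_eq ok hv ▸ zpowers_le.mpr hcm⟩, ?_⟩
  rw [ker_eq, Nat.card_zpowers, order_word]

end Sound

end CfsgLib.StemSylow.LabelCover
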