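/-
Collector certificates for groups of coded permutations of the twenty-four points.
-/
import Mathlib
import Cfsg.Agent.Lib.Golay.Fast
import Cfsg.Agent.Lib.Golay.Elems
import Cfsg.Agent.Lib.StemSylow.Collect

set_option autoImplicit false
set_option linter.style.haveILetI false

namespace CfsgLib.StemSylow.Collect

open CfsgGolay Cfsg Subgroup

universe u

/-- The code of a word. -/
def evC (gc : List ℕ) : List ℕ → ℕ
  | [] => pid
  | a :: l => pcomp (gc.getD a pid) (evC gc l)

/-- All facts hold on codes. -/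
def factsOK (C : Cert) (gc tc : List ℕ) : Bool :=
  Nat.beq (tc.getD 0 pid) pid && (List.range C.facts.length).all fun m =>
    Nat.beq (pcomp (tc.getD (C.fact m).1 pid) (evC gc (C.fact m).2.1))
      (pcomp (evC gc (C.fact m).2.2) (tc.getD (C.fact m).1 pid))

/-- The normal words in the last `d` of `n` generators. -/
def prods (gc : List ℕ) (n : ℕ) : ℕ → List ℕ
  | 0 => [pid]
  | d + 1 => prods gc n d ++ (prods gc n d).map (pcomp (gc.getD (n - (d + 1)) pid))

/-- No repetition. -/
def distinctB : List ℕ → Bool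
  | [] => true
  | a :: l => (l.all fun b => !Nat.beq a b) && distinctB l

theorem nodup_of_distinctB : ∀ {l : List ℕ}, distinctB l = true → l.Nodup
  | [], _ => List.nodup_nil
  | a :: l, h => by
    simp only [distinctB, Bool.and_eq_true, List.all_eq_true] at h
    exact List.nodup_cons.mpr ⟨fun hm => by simpa using h.1 a hm, nodup_of_distinctB h.2⟩

theorem length_prods (gc : List ℕ) (n : ℕ) : ∀ d, (prods gc n d).length = 2 ^ d
  | 0 => rfl
  | d + 1 => by simp [prods, length_prods gc n d, pow_succ, mul_two]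

theorem pid_lt : pid < 2 ^ 120 := (pack_spec (fun i => i % 32) (fun _ => Nat.mod_lt _ (by norm_num)) 24).1

variable {M : Subgroup (Equiv.Perm GolayPt)}

theorem code_eq {c d : ℕ} {g : M} (hc : c < 2 ^ 120) (hd : d < 2 ^ 120) (h1 : Repr c (g : Equiv.Perm GolayPt))
    (h2 : Repr d (g : Equiv.Perm GolayPt)) : c = d :=
  eq_of_papp hc hd fun i hi => by rw [← idx_pt hi, ← h1, ← h2]

theorem repr_ev {gc : List ℕ} {g : ℕ → M} (hg : ∀ k, Repr (gc.getD k pid) (g k : Equiv.Perm GolayPt)) :
    ∀ l : List ℕ, Repr (evC gc l) ((ev g l : M) : Equiv.Perm GolayPt)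
  | [] => by simpa [evC, ev_nil] using repr_pid
  | a :: l => by
    rw [ev_cons, Subgroup.coe_mul]
    exact (hg a).comp (repr_ev hg l)

/-- A checked certificate makes squaring surjective on the kernel of a stem extension. -/
theorem sq_surjective_of_codes (C : Cert) (gc tc : List ℕ) (hC : C.check = true) (hf : factsOK C gc tc = true)
    (hd : distinctB (prods gc C.n C.n) = true)
    (hmem : ∀ c ∈ gc ++ tc, ∃ g : M, Repr c (g : Equiv.Perm GolayPt)) {r : ℕ}
    (hM : Nat.card M = 2 ^ C.n * r) (hr : Odd r)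
    {Γ : Type u} [Group Γ] [Finite Γ] {σ : Γ →* M} (hσ : Cfsg.IsStemExtension σ) :
    ∀ z ∈ σ.ker, ∃ y ∈ σ.ker, y * y = z := by
  classical
  have hex : ∀ (l : List ℕ), (∀ c ∈ l, ∃ g : M, Repr c (g : Equiv.Perm GolayPt)) →
      ∀ k, ∃ g : M, Repr (l.getD k pid) (g : Equiv.Perm GolayPt) := by
    intro l hl k
    rcases Nat.lt_or_ge k l.length with h | h
    · exact hl _ (by rw [List.getD_eq_getElem _ _ h]; exact List.getElem_mem h)
    · exact ⟨1, by rw [List.getD_eq_default _ _ h]; simpa using repr_pid⟩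
  choose g hg using hex gc fun c hc => hmem c (List.mem_append_left _ hc)
  choose t ht using hex tc fun c hc => hmem c (List.mem_append_right _ hc)
  simp only [factsOK, Bool.and_eq_true, List.all_eq_true, List.mem_range] at hf
  obtain ⟨hf0, hf⟩ := hf
  have ht0 : t 0 = 1 := Subtype.ext ((ht 0).unique (by rw [Nat.eq_of_beq_eq_true hf0]; simpa using repr_pid))
  have hfacts : ∀ m < C.facts.length,
      t (C.fact m).1 * ev g (C.fact m).2.1 * (t (C.fact m).1)⁻¹ = ev g (C.fact m).2.2 := by
    intro m hm
    rw [mul_inv_eq_iff_eq_mul]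
    refine Subtype.ext (Repr.unique (c := pcomp (tc.getD (C.fact m).1 pid) (evC gc (C.fact m).2.1)) ?_ ?_)
    · rw [Subgroup.coe_mul]; exact (ht _).comp (repr_ev hg _)
    · rw [Nat.eq_of_beq_eq_true (hf m hm), Subgroup.coe_mul]; exact (repr_ev hg _).comp (ht _)
  set P := closure (g '' {k | k < C.n}) with hP
  have hprods : ∀ d ≤ C.n, ∀ c ∈ prods gc C.n d, c < 2 ^ 120 ∧ ∃ x ∈ P, Repr c (x : Equiv.Perm GolayPt) := by
    intro d hd
    induction d with
    | zero =>
      intro c hc
      simp only [prods, List.mem_singleton] at hc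
      subst hc
      exact ⟨pid_lt, 1, one_mem _, by simpa using repr_pid⟩
    | succ d ih =>
      intro c hc
      rcases List.mem_append.mp hc with hc | hc
      · exact ih (by omega) c hc
      · obtain ⟨c', hc', rfl⟩ := List.mem_map.mp hc
        obtain ⟨-, x, hx, hr⟩ := ih (by omega) c' hc'
        refine ⟨pcomp_lt _ _, g (C.n - (d + 1)) * x, mul_mem (subset_closure ⟨_, ?_, rfl⟩) hx, ?_⟩
        · show C.n - (d + 1) < C.n
          omega
        · rw [Subgroup.coe_mul]; exact (hg _).comp hr
  have hlow : 2 ^ C.n ≤ Nat.card P := by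
    choose x hx hxr using fun c (hc : c ∈ prods gc C.n C.n) => (hprods C.n le_rfl c hc).2
    let F : {c // c ∈ prods gc C.n C.n} → P := fun c => ⟨x c.1 c.2, hx c.1 c.2⟩
    have hF : Function.Injective F := fun a b h => Subtype.ext (code_eq (hprods C.n le_rfl _ a.2).1
      (hprods C.n le_rfl _ b.2).1 (hxr a.1 a.2) (by
        have e : x a.1 a.2 = x b.1 b.2 := congrArg Subtype.val h
        rw [e]; exact hxr b.1 b.2))
    refine le_trans (le_of_eq ?_) (Nat.card_le_card_of_injective F hF)
    rw [Nat.subtype_card (prods gc C.n C.n).toFinset (fun c => List.mem_toFinset),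
      List.toFinset_card_of_nodup (nodup_of_distinctB hd), length_prods]
  have hup : Nat.card P ≤ 2 ^ C.n := by
    have h1 : ∀ m (y : M), Commute ((fun _ => 1 : ℕ → M) m) y := fun _ y => Commute.one_left y
    have hz : ∀ N f, zz (fun _ => (1 : M)) N f = 1 := fun N f => by
      induction N with
      | zero => rfl
      | succ N ih => simp [zz, ih]
    have := card_lift C (Gl := g) (Tl := t) (E := fun _ => 1) h1 (fun _ => mul_one 1) ht0 (fun m => by
      show _ = _ * (1 : M)
      rw [mul_one]
      by_cases hm : m < C.facts.length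
      · exact hfacts m hm
      · have hd : C.fact m = (0, [], []) := List.getD_eq_default _ _ (not_lt.mp hm)
        simp [hd, ev_nil, ht0]) hC
    simpa only [hz, mul_one] using this
  have hidx : P.index = r := by
    have h := P.card_mul_index
    rw [hM, le_antisymm hup hlow] at h
    exact Nat.eq_of_mul_eq_mul_left (Nat.two_pow_pos _) h
  intro z hz
  refine sq_surjective hσ ?_ hz
  intro Δ _ _ τ hτ hexp
  rw [eq_bot_iff]
  intro w hw
  have hwi := pow_index_eq_one hτ hexp C hC g t ht0 hfacts hlow hw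
  rw [← hP, hidx] at hwi
  obtain ⟨k, rfl⟩ := hr
  rw [mem_bot]
  rwa [pow_succ, pow_mul, sq, hexp w hw, one_pow, one_mul] at hwi

end CfsgLib.StemSylow.Collect
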