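/-
The collector of `StemSylow/Collect.lean` with two surviving kernel elements: an elementary abelian kernel
of a stem extension has order at most four when two extra forms make every relation of the Sylow group exact.
-/
import Mathlib
import Cfsg.Agent.Lib.StemSylow.Collect

set_option autoImplicit false
set_option linter.style.haveILetI false
set_option linter.unusedSectionVars false

namespace CfsgLib.StemSylow.CollectRank

open Subgroup CfsgLib.StemSylow.Collect
open scoped commutatorElement

universe u v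

/-- A sum of the two extra forms, selected by the low bits of `k`. -/
def mask (ex1 ex2 k : ℕ) : ℕ :=
  (if k.testBit 0 then ex1 else 0) ^^^ (if k.testBit 1 then ex2 else 0)

/-- A relation is exact up to the two extra forms. -/
def relOK2 (C : Cert) (ex1 ex2 : ℕ) (sel : List ℕ) (i j : ℕ) : Bool :=
  C.isRel i j (C.rel i j) && C.shape i j (C.fact (C.rel i j)).2.2 &&
    decide (C.comb (C.combos.getD (C.rel i j) []) =
      some (C.target i j ^^^ mask ex1 ex2 (sel.getD (C.rel i j) 0)))

/-- All relations are exact up to the two extra forms. -/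
def check2 (C : Cert) (ex1 ex2 : ℕ) (sel : List ℕ) : Bool :=
  (List.range C.n).all fun i => (List.range C.n).all fun j => Nat.blt j i || relOK2 C ex1 ex2 sel i j

section Sound

variable (C : Cert) {Γ : Type*} [Group Γ] {Gl Tl : ℕ → Γ} {E : ℕ → Γ} {ex1 ex2 : ℕ} {sel : List ℕ}
  (hc : ∀ m g, Commute (E m) g) (h2 : ∀ m, E m * E m = 1) (hT : Tl 0 = 1)
  (hf : ∀ m, FactAt C Gl Tl (E := E) m)
  (he1 : zz E C.facts.length ex1 = 1) (he2 : zz E C.facts.length ex2 = 1)

include hc h2 hT hf he1 he2

/-- The corrected lifts satisfy a relation exactly. -/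
theorem rel_sound2 {i j : ℕ} (h : relOK2 C ex1 ex2 sel i j = true) :
    ev (fun k => Gl k * zz E C.facts.length (C.sv k)) [j, i] =
      ev (fun k => Gl k * zz E C.facts.length (C.sv k)) (C.fact (C.rel i j)).2.2 := by
  simp only [relOK2, Cert.isRel, Bool.and_eq_true, decide_eq_true_eq, Nat.blt_eq] at h
  obtain ⟨⟨⟨⟨hlt, h0⟩, hq⟩, -⟩, hcb⟩ := h
  have hm := hf (C.rel i j)
  rw [FactAt, Nat.eq_of_beq_eq_true h0, hT, inv_one, mul_one, one_mul, hq] at hm
  have ht := comb_sound C hc h2 hT hf _ _ hcb
  have hmask : ∀ k, zz E C.facts.length (mask ex1 ex2 k) = 1 := by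
    intro k
    rw [mask, zz_xor hc h2]
    split_ifs <;> simp only [he1, he2, zz_zero, mul_one]
  rw [zz_xor hc h2, hmask, mul_one, Cert.target, zz_xor hc h2, zz_xor hc h2, zz_two_pow hlt] at ht
  rw [ev_twist C hc h2, ev_twist C hc h2, hm, mul_assoc]
  refine congrArg (ev Gl _ * ·) ?_
  exact (mul_right_cancel (b := zz E C.facts.length (C.sx (C.fact (C.rel i j)).2.2))
    (by rw [ht, zz_self hc h2]))

/-- Corrected lifts modulo the two extra forms generate a group of order at most `2 ^ n`. -/
theorem card_lift2 [Finite Γ] (h : check2 C ex1 ex2 sel = true) :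
    Nat.card (closure ((fun k => Gl k * zz E C.facts.length (C.sv k)) '' {k | k < C.n})) ≤ 2 ^ C.n := by
  set G' := fun k => Gl k * zz E C.facts.length (C.sv k)
  have hk : ∀ d ≤ C.n, Nat.card (closure (G' '' {k | C.n - d ≤ k ∧ k < C.n})) ≤ 2 ^ d := by
    intro d hd
    induction d with
    | zero =>
      rw [show {k | C.n - 0 ≤ k ∧ k < C.n} = (∅ : Set ℕ) by ext k; simp, Set.image_empty, Subgroup.closure_empty,
        Subgroup.card_bot, pow_zero]
    | succ d ih =>
      set i := C.n - (d + 1)
      set N := closure (G' '' {k | C.n - d ≤ k ∧ k < C.n})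
      have hrel : ∀ j, i ≤ j → j < C.n → relOK2 C ex1 ex2 sel i j = true := by
        intro j hij hj
        simp only [check2, List.all_eq_true, List.mem_range, Bool.or_eq_true, Nat.blt_eq] at h
        exact (h i (by omega) j hj).resolve_left (by omega)
      have hin : ∀ x, i < x → x < C.n → G' x ∈ N := fun x h1 h2 =>
        subset_closure ⟨x, ⟨by omega, h2⟩, rfl⟩
      have hev : ∀ l : List ℕ, (∀ x ∈ l, i < x ∧ x < C.n) → ev G' l ∈ N := fun l hl =>
        list_prod_mem (fun y hy => by
          obtain ⟨x, hx, rfl⟩ := List.mem_map.mp hy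
          exact hin x (hl x hx).1 (hl x hx).2)
      have hshape : ∀ j, i ≤ j → j < C.n → C.shape i j (C.fact (C.rel i j)).2.2 = true := fun j a b => by
        have := hrel j a b
        simp only [relOK2, Bool.and_eq_true] at this
        exact this.1.2
      have hsq : G' i * G' i ∈ N := by
        have e := rel_sound2 C hc h2 hT hf he1 he2 (hrel i le_rfl (by omega))
        rw [ev_cons, ev_cons, ev_nil, mul_one] at e
        show G' i * G' i ∈ N
        rw [e]
        refine hev _ fun x hx => ?_
        have := hshape i le_rfl (by omega)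
        cases hp : (C.fact (C.rel i i)).2.2 with
        | nil => simp [hp] at hx
        | cons a l =>
          rw [hp] at this hx
          simp only [Cert.shape, Bool.and_eq_true, List.all_eq_true, Nat.blt_eq] at this
          rw [if_pos (Nat.beq_refl i)] at this
          simp only [Bool.and_eq_true, Nat.blt_eq] at this
          rcases List.mem_cons.mp hx with rfl | hx
          exacts [this.2, this.1 x hx]
      have hconj : ∀ a ∈ N, (G' i)⁻¹ * a * G' i ∈ N := by
        intro a ha
        induction ha using closure_induction with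
        | mem y hy =>
          obtain ⟨j, ⟨hj1, hj2⟩, rfl⟩ := hy
          have e := rel_sound2 C hc h2 hT hf he1 he2 (hrel j (by omega) hj2)
          rw [ev_cons, ev_cons, ev_nil, mul_one] at e
          have := hshape j (by omega) hj2
          have hne : Nat.beq j i = false := by
            rw [← Bool.not_eq_true]; intro hb; have := Nat.eq_of_beq_eq_true hb; omega
          cases hp : (C.fact (C.rel i j)).2.2 with
          | nil => rw [hp] at this; simp [Cert.shape, hne] at this
          | cons a l =>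
            rw [hp] at this e
            simp only [Cert.shape, Bool.and_eq_true, List.all_eq_true, Nat.blt_eq, hne] at this
            obtain ⟨hl, ha⟩ := this
            obtain rfl : a = i := Nat.eq_of_beq_eq_true (by simpa using ha)
            rw [mul_assoc, show G' j * G' i = G' i * ev G' l from e.trans (ev_cons _ _ _), inv_mul_cancel_left]
            exact hev l hl
        | one => simp
        | mul x y _ _ hx hy =>
          rw [show (G' i)⁻¹ * (x * y) * G' i = ((G' i)⁻¹ * x * G' i) * ((G' i)⁻¹ * y * G' i) by group]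
          exact mul_mem hx hy
        | inv x _ hx =>
          rw [show (G' i)⁻¹ * x⁻¹ * G' i = ((G' i)⁻¹ * x * G' i)⁻¹ by group]
          exact inv_mem hx
      have := card_double N hconj hsq (S := G' '' {k | i ≤ k ∧ k < C.n}) (by
        rintro _ ⟨k, ⟨hk1, hk2⟩, rfl⟩
        rcases Nat.lt_or_eq_of_le hk1 with hlt | heq
        · exact Or.inl (hin k hlt hk2)
        · exact Or.inr (by rw [heq]))
      calc _ ≤ 2 * Nat.card N := this
        _ ≤ 2 * 2 ^ d := Nat.mul_le_mul_left _ (ih (by omega))
        _ = 2 ^ (d + 1) := by ring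
  simpa using hk C.n le_rfl

end Sound

/-- Transfer, once the corrected lifts split the preimage of `P`. -/
theorem pow_index_eq_one_of_lifts {G : Type v} [Group G] {Γ : Type u} [Group Γ] [Finite Γ] {σ : Γ →* G}
    (hσ : Cfsg.IsStemExtension σ) {P : Subgroup G} (L : Subgroup Γ) (hmap : L.map σ = P)
    (hle : Nat.card L ≤ Nat.card P) {z : Γ} (hz : z ∈ σ.ker) : z ^ P.index = 1 := by
  haveI : Finite G := Finite.of_surjective σ hσ.1
  have hinj : ∀ x ∈ L, σ x = 1 → x = 1 := by
    have hsurj : Function.Surjective fun x : L => (⟨σ x, hmap ▸ mem_map_of_mem σ x.2⟩ : P) := by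
      rintro ⟨y, hy⟩
      rw [← hmap] at hy
      obtain ⟨x, hx, rfl⟩ := hy
      exact ⟨⟨x, hx⟩, rfl⟩
    have hb := (Nat.bijective_iff_surjective_and_card _).mpr
      ⟨hsurj, le_antisymm hle (Nat.card_le_card_of_surjective _ hsurj)⟩
    intro x hx h1
    have := @hb.1 ⟨x, hx⟩ ⟨1, one_mem L⟩ (Subtype.ext (by simp [h1]))
    exact congrArg Subtype.val this
  obtain ⟨hmem, hcm⟩ := CfsgLib.StSL.pow_index_mem hσ P hz
  have hcom : commutator (P.comap σ) ≤ L.subgroupOf (P.comap σ) := by
    rw [_root_.commutator_def, commutator_le]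
    rintro ⟨a, ha⟩ - ⟨b, hb⟩ -
    have hdec : ∀ a ∈ P.comap σ, ∃ l ∈ L, σ a = σ l := by
      intro a ha
      rw [mem_comap, ← hmap] at ha
      obtain ⟨l, hl, he⟩ := ha
      exact ⟨l, hl, he.symm⟩
    obtain ⟨la, hla, ea⟩ := hdec a ha
    obtain ⟨lb, hlb, eb⟩ := hdec b hb
    rw [mem_subgroupOf]
    show ⁅a, b⁆ ∈ L
    rw [CfsgLib.StSL.comm_congr hσ.2.1 ea eb]
    exact mul_mem (mul_mem (mul_mem hla hlb) (inv_mem hla)) (inv_mem hlb)
  exact hinj _ (mem_subgroupOf.mp (hcom hcm)) (MonoidHom.mem_ker.mp (pow_mem hz _))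

/-- An elementary abelian two-kernel has order at most four. -/
theorem card_ker_le_four {G : Type v} [Group G] {Γ : Type u} [Group Γ] [Finite Γ] {σ : Γ →* G}
    (hσ : Cfsg.IsStemExtension σ) (hexp : ∀ z ∈ σ.ker, z * z = 1) (C : Cert) {ex1 ex2 : ℕ} {sel : List ℕ}
    (hC : check2 C ex1 ex2 sel = true) (g t : ℕ → G) (ht : t 0 = 1)
    (hfacts : ∀ m < C.facts.length, t (C.fact m).1 * ev g (C.fact m).2.1 * (t (C.fact m).1)⁻¹ = ev g (C.fact m).2.2)
    (hcard : 2 ^ C.n ≤ Nat.card (closure (g '' {k | k < C.n})))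
    (hodd : Odd (closure (g '' {k | k < C.n})).index) : Nat.card σ.ker ≤ 4 := by
  classical
  haveI : Finite G := Finite.of_surjective σ hσ.1
  let Gl : ℕ → Γ := fun k => Function.surjInv hσ.1 (g k)
  let Tl : ℕ → Γ := fun k => if k = 0 then 1 else Function.surjInv hσ.1 (t k)
  let E : ℕ → Γ := fun m => (ev Gl (C.fact m).2.2)⁻¹ *
    (Tl (C.fact m).1 * ev Gl (C.fact m).2.1 * (Tl (C.fact m).1)⁻¹)
  have hG : ∀ k, σ (Gl k) = g k := fun k => Function.surjInv_eq hσ.1 _
  have hTl : ∀ k, σ (Tl k) = t k := fun k => by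
    by_cases hk : k = 0
    · simp [Tl, hk, ht]
    · simp [Tl, hk, Function.surjInv_eq hσ.1]
  have hev : ∀ l, σ (ev Gl l) = ev g l := fun l => by rw [map_ev]; simp only [hG]
  have hE : ∀ m, E m ∈ σ.ker := by
    intro m
    rw [MonoidHom.mem_ker]
    simp only [E, map_mul, map_inv, hev, hTl]
    by_cases hm : m < C.facts.length
    · rw [hfacts m hm, inv_mul_cancel]
    · have hd : C.fact m = (0, [], []) := List.getD_eq_default _ _ (not_lt.mp hm)
      simp [hd, ev_nil, ht]
  have hc : ∀ m x, Commute (E m) x := fun m x => (mem_center_iff.mp (hσ.2.1 (hE m)) x).symm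
  have h2 : ∀ m, E m * E m = 1 := fun m => hexp _ (hE m)
  have hzk : ∀ N f, zz E N f ∈ σ.ker := by
    intro N f
    induction N with
    | zero => exact one_mem _
    | succ N ih => refine mul_mem ih ?_; split; exacts [hE N, one_mem _]
  let F : Bool × Bool → Γ := fun p =>
    zz E C.facts.length ((if p.1 then ex1 else 0) ^^^ (if p.2 then ex2 else 0))
  have hF : ∀ p q, F p * F q = F (xor p.1 q.1, xor p.2 q.2) := by
    intro p q
    simp only [F, ← zz_xor hc h2]
    congr 1
    rcases p with ⟨_ | _, _ | _⟩ <;> rcases q with ⟨_ | _, _ | _⟩ <;>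
      simp [Nat.xor_assoc, Nat.xor_comm, Nat.xor_left_comm]
  let W : Subgroup Γ :=
    { carrier := Set.range F
      one_mem' := ⟨(false, false), by simp [F, zz_zero]⟩
      mul_mem' := by rintro _ _ ⟨p, rfl⟩ ⟨q, rfl⟩; exact ⟨_, (hF p q).symm⟩
      inv_mem' := by
        rintro _ ⟨p, rfl⟩
        exact ⟨p, eq_inv_of_mul_eq_one_left (zz_self hc h2 _ _)⟩ }
  have hWk : W ≤ σ.ker := by rintro _ ⟨p, rfl⟩; exact hzk _ _
  suffices hker : σ.ker ≤ W by
    refine (card_le_of_le hker).trans (le_trans ?_ (le_of_eq (by simp : Nat.card (Bool × Bool) = 4)))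
    exact Nat.card_le_card_of_surjective (fun p => (⟨F p, p, rfl⟩ : W)) (by rintro ⟨_, p, rfl⟩; exact ⟨p, rfl⟩)
  haveI : W.Normal := ⟨fun x hx a => by
    rw [mem_center_iff.mp (hσ.2.1 (hWk hx)) a, mul_inv_cancel_right]; exact hx⟩
  set π := QuotientGroup.mk' W with hπ
  set τ := QuotientGroup.lift W σ hWk with hτ
  have hmk : ∀ x, τ (π x) = σ x := fun x => QuotientGroup.lift_mk' W hWk x
  have hsurj := QuotientGroup.mk'_surjective W
  have hlift : ∀ d ∈ τ.ker, ∃ x ∈ σ.ker, π x = d := by
    intro d hd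
    obtain ⟨x, rfl⟩ := hsurj d
    exact ⟨x, by rwa [MonoidHom.mem_ker, hmk] at hd, rfl⟩
  have hst : Cfsg.IsStemExtension τ := by
    refine ⟨fun y => ?_, fun d hd => ?_, fun d hd => ?_⟩
    · obtain ⟨x, rfl⟩ := hσ.1 y
      exact ⟨π x, hmk x⟩
    · obtain ⟨x, hx, rfl⟩ := hlift d hd
      rw [mem_center_iff]
      intro a
      obtain ⟨a, rfl⟩ := hsurj a
      rw [← map_mul, ← map_mul, mem_center_iff.mp (hσ.2.1 hx) a]
    · obtain ⟨x, hx, rfl⟩ := hlift d hd
      have hm := mem_map_of_mem π (hσ.2.2 hx)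
      rw [_root_.commutator_def, map_commutator, map_top_of_surjective _ hsurj] at hm
      exact hm
  have hπzz : ∀ N f, π (zz E N f) = zz (fun m => π (E m)) N f := by
    intro N f
    induction N with
    | zero => exact map_one π
    | succ N ih => simp only [zz, map_mul, ih]; congr 1; split <;> simp
  have hc' : ∀ m (x : Γ ⧸ W), Commute (π (E m)) x := by
    intro m x
    obtain ⟨x, rfl⟩ := hsurj x
    exact (hc m x).map π
  have hle := card_lift2 C (Gl := fun k => π (Gl k)) (Tl := fun k => π (Tl k)) (E := fun m => π (E m))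
    hc' (fun m => by rw [← map_mul, h2, map_one]) (by simp [Tl]) (fun m => by
      show _ = _
      rw [← map_ev π, ← map_ev π, ← map_mul, ← map_inv, ← map_mul, ← map_mul]
      exact congrArg π (mul_inv_cancel_left _ _).symm)
    (by rw [← hπzz, hπ, QuotientGroup.mk'_apply, QuotientGroup.eq_one_iff]; exact ⟨(true, false), by simp [F]⟩)
    (by rw [← hπzz, hπ, QuotientGroup.mk'_apply, QuotientGroup.eq_one_iff]; exact ⟨(false, true), by simp [F]⟩)
    hC
  intro z hz
  have h1 : π z ^ (closure (g '' {k | k < C.n})).index = 1 := by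
    refine pow_index_eq_one_of_lifts hst _ ?_ (hle.trans hcard) (MonoidHom.mem_ker.mpr ((hmk z).trans hz))
    rw [MonoidHom.map_closure, Set.image_image]
    congr 1
    refine Set.image_congr fun k _ => ?_
    rw [map_mul, ← hπzz, hmk, hmk, MonoidHom.mem_ker.mp (hzk _ _), mul_one, hG]
  obtain ⟨k, hk⟩ := hodd
  rw [hk, pow_succ, pow_mul, sq, ← map_mul, hexp z hz, map_one, one_pow, one_mul] at h1
  rwa [hπ, QuotientGroup.mk'_apply, QuotientGroup.eq_one_iff] at h1

end CfsgLib.StemSylow.CollectRank
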