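/-
A certificate for the two-rank of the multiplier of PSL(3, 4) inside the group of the length-24 code
(checked in `Lib/StemSylow/PlaneCover.lean`).
-/
import Cfsg.Agent.Lib.StemSylow.CollectRank

set_option autoImplicit false

namespace CfsgLib.StemSylow.PlaneData

def gc : List ℕ :=
  [971836823997827022130526746590039072,
    971825875183417043241497792650645536,
    975723878459450471083300325448623136,
    975718496442583651407084914351680544,
    975726649136091593640438789241702432,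
    975715822418356939135336861837708320]

def tc : List ℕ :=
  [984818244535754528103549039458486304,
    967276375573136416468322514756815904,
    978927035172452579704480316776584224,
    971084517930466411659722882702561312]

def cert : CfsgLib.StemSylow.Collect.Cert where
  n := 6
  fuel := 101
  facts := [
    (0, [0, 0], []),
    (0, [1, 0], [0, 1, 2, 3, 4, 5]),
    (0, [2, 0], [0, 3, 4, 5]),
    (0, [3, 0], [0, 2, 4, 5]),
    (0, [4, 0], [0, 4]),
    (0, [5, 0], [0, 5]),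
    (0, [1, 1], [2, 3, 4, 5]),
    (0, [2, 1], [1, 2]),
    (0, [3, 1], [1, 3]),
    (0, [4, 1], [1, 2, 3, 4]),
    (0, [5, 1], [1, 2, 3, 5]),
    (0, [2, 2], [4, 5]),
    (0, [3, 2], [2, 3]),
    (0, [4, 2], [2, 5]),
    (0, [5, 2], [2, 4]),
    (0, [3, 3], [4, 5]),
    (0, [4, 3], [3, 5]),
    (0, [5, 3], [3, 4]),
    (0, [4, 4], []),
    (0, [5, 4], [4, 5]),
    (0, [5, 5], []),
    (1, [0, 1], [5]),
    (1, [2, 4], [0, 2, 3, 4]),
    (2, [0, 1], [0, 4]),
    (2, [2, 4], [0, 2, 3]),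
    (3, [0, 1], [0, 1]),
    (3, [2, 5], [0, 1, 4, 5]),
    (3, [3, 5], [2, 3]),
    (3, [4, 5], [0, 1, 2, 5])
  ]
  eqs := [
    .ins [1] [0, 0] [],
    .ins [1] [1, 0] [],
    .ins [1] [1, 1] [],
    .ins [2] [0, 0] [],
    .ins [2] [1, 0] [],
    .ins [2] [2, 0] [],
    .ins [2] [2, 1] [],
    .ins [2] [2, 2] [],
    .ins [3] [1, 0] [],
    .ins [4] [1, 0] [],
    .ins [4] [2, 0] [],
    .conj [21, 21] [],
    .conj [22, 21] [21, 22],
    .conj [22, 22] [],
    .conj [23, 23] [],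
    .conj [24, 24] [],
    .conj [26, 25] [25, 26]
  ]
  s := [0, 0, 0, 512, 0, 514]
  combos := [
    [0, 1, 2, 3, 5, 7, 9, 10, 11, 12, 14, 16],
    [],
    [],
    [0, 5, 7],
    [3, 5, 9, 10, 12, 16],
    [1, 3, 4, 7, 12, 16],
    [0, 1, 3, 4, 5, 8, 9, 13, 14, 15],
    [],
    [0, 1, 6, 7],
    [],
    [2, 4, 5, 6, 10],
    [0, 2, 3, 4, 5, 7, 8, 12],
    [0, 1, 4, 7],
    [1, 3, 5, 9, 10, 11, 14, 15, 16],
    [1, 2, 4, 5, 11, 14, 15, 16],
    [0, 1, 5, 12],
    [2, 9, 11, 14, 15, 16],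
    [0, 1, 2, 3, 7, 8, 10, 11, 14, 15, 16],
    [1, 3, 8, 10, 12, 13, 15, 16],
    [2, 3, 4, 7, 9, 10],
    [0, 2, 3, 7, 8, 10, 12, 13, 15, 16]
  ]

def ex1 : ℕ := 6

def ex2 : ℕ := 128

def sel : List ℕ :=
  [0, 0, 1, 1, 0, 0, 0, 2, 2, 0, 0, 3, 0, 3, 3, 3, 3, 3, 0, 0, 0]

end CfsgLib.StemSylow.PlaneData
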