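/-
At most one quasisimple group with four-group centre covers PSL(3, 4).
-/
import Mathlib
import Cfsg.Prelude.Def_CaseTheorems
import Cfsg.Agent.Lib.SteinerPlane.M21
import Cfsg.Agent.Lib.StemSylow.CollectGolay
import Cfsg.Agent.Lib.StemSylow.CollectRank
import Cfsg.Agent.Lib.StemSylow.PlaneData

set_option autoImplicit false
set_option maxHeartbeats 800000
set_option maxRecDepth 8000
set_option linter.style.haveILetI false

namespace CfsgLib.StemSylow.PlaneCover

open CfsgGolay Cfsg Subgroup Collect PlaneData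
open scoped commutatorElement

universe u u₁ u₂ w

theorem plane_checked : CollectRank.check2 cert ex1 ex2 sel = true ∧ factsOK cert gc tc = true ∧
    distinctB (prods gc cert.n cert.n) = true ∧
    ((gc ++ tc).all fun c => permOK c && gensKept c && inSub [1, 0, 23] [] c) = true := by
  decide +kernel

theorem card_plane : Nat.card ↥(subG [1, 0, 23] []) = 20160 := by
  rw [show ([1, 0, 23] : List ℕ) = (baseL.take 3).reverse from rfl, subG_card_base]
  norm_num

theorem cert_n : cert.n = 6 := rfl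

attribute [local irreducible] evC pid pcomp papp gensKept permOK cert inSub

theorem exists_plane {c : ℕ} (hc : c ∈ gc ++ tc) :
    ∃ g : subG [1, 0, 23] [], Repr c (g : Equiv.Perm GolayPt) := by
  have h := List.all_eq_true.mp plane_checked.2.2.2 c hc
  simp only [Bool.and_eq_true] at h
  obtain ⟨g, hg⟩ := exists_repr_of_permOK h.1.1
  exact ⟨⟨g, mem_subG_of_inSub (mem_M24_of_gensKept hg h.1.2) hg h.2⟩, hg⟩

/-- An exponent two kernel of a stem extension of the group has order at most four. -/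
theorem card_ker_le {Γ : Type u} [Group Γ] [Finite Γ] {σ : Γ →* ↥(subG [1, 0, 23] [])}
    (hσ : Cfsg.IsStemExtension σ) (hexp : ∀ z ∈ σ.ker, z * z = 1) : Nat.card σ.ker ≤ 4 := by
  classical
  obtain ⟨hC, hf, hd, -⟩ := plane_checked
  have hex : ∀ (l : List ℕ), (∀ c ∈ l, c ∈ gc ++ tc) →
      ∀ k, ∃ g : subG [1, 0, 23] [], Repr (l.getD k pid) (g : Equiv.Perm GolayPt) := by
    intro l hl k
    rcases Nat.lt_or_ge k l.length with h | h
    · exact exists_plane (hl _ (by rw [List.getD_eq_getElem _ _ h]; exact List.getElem_mem h))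
    · exact ⟨1, by rw [List.getD_eq_default _ _ h]; simpa using repr_pid⟩
  choose g hg using hex gc fun c hc => List.mem_append_left _ hc
  choose t ht using hex tc fun c hc => List.mem_append_right _ hc
  simp only [factsOK, Bool.and_eq_true, List.all_eq_true, List.mem_range] at hf
  obtain ⟨hf0, hf⟩ := hf
  have ht0 : t 0 = 1 := Subtype.ext ((ht 0).unique (by rw [Nat.eq_of_beq_eq_true hf0]; simpa using repr_pid))
  have hfacts : ∀ m < cert.facts.length,
      t (cert.fact m).1 * ev g (cert.fact m).2.1 * (t (cert.fact m).1)⁻¹ = ev g (cert.fact m).2.2 := by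
    intro m hm
    rw [mul_inv_eq_iff_eq_mul]
    refine Subtype.ext (Repr.unique (c := pcomp (tc.getD (cert.fact m).1 pid) (evC gc (cert.fact m).2.1)) ?_ ?_)
    · rw [Subgroup.coe_mul]; exact (ht _).comp (repr_ev hg _)
    · rw [Nat.eq_of_beq_eq_true (hf m hm), Subgroup.coe_mul]; exact (repr_ev hg _).comp (ht _)
  set P := closure (g '' {k | k < cert.n}) with hP
  have hprods : ∀ d ≤ cert.n, ∀ c ∈ prods gc cert.n d, c < 2 ^ 120 ∧ ∃ x ∈ P, Repr c (x : Equiv.Perm GolayPt) := by
    intro d hd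
    induction d with
    | zero =>
      intro c hc
      simp only [prods, List.mem_singleton] at hc
      subst hc
      exact ⟨pid_lt, 1, one_mem _, by simpa using repr_pid⟩
    | succ d ih =>
      intro c hc
      rcases List.mem_append.mp hc with hc | hc
      · exact ih (by omega) c hc
      · obtain ⟨c', hc', rfl⟩ := List.mem_map.mp hc
        obtain ⟨-, x, hx, hr⟩ := ih (by omega) c' hc'
        refine ⟨pcomp_lt _ _, g (cert.n - (d + 1)) * x, mul_mem (subset_closure ⟨_, ?_, rfl⟩) hx, ?_⟩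
        · show cert.n - (d + 1) < cert.n
          omega
        · rw [Subgroup.coe_mul]; exact (hg _).comp hr
  have hlow : 2 ^ cert.n ≤ Nat.card P := by
    choose x hx hxr using fun c (hc : c ∈ prods gc cert.n cert.n) => (hprods cert.n le_rfl c hc).2
    let F : {c // c ∈ prods gc cert.n cert.n} → P := fun c => ⟨x c.1 c.2, hx c.1 c.2⟩
    have hF : Function.Injective F := fun a b h => Subtype.ext (code_eq (hprods cert.n le_rfl _ a.2).1
      (hprods cert.n le_rfl _ b.2).1 (hxr a.1 a.2) (by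
        have e : x a.1 a.2 = x b.1 b.2 := congrArg Subtype.val h
        rw [e]; exact hxr b.1 b.2))
    refine le_trans (le_of_eq ?_) (Nat.card_le_card_of_injective F hF)
    rw [Nat.subtype_card (prods gc cert.n cert.n).toFinset (fun c => List.mem_toFinset),
      List.toFinset_card_of_nodup (nodup_of_distinctB hd), length_prods]
  have hz : ∀ N f, zz (fun _ => (1 : subG [1, 0, 23] [])) N f = 1 := fun N f => by
    induction N with
    | zero => rfl
    | succ N ih => simp [zz, ih]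
  have hup : Nat.card P ≤ 2 ^ cert.n := by
    have h1 : ∀ m (y : subG [1, 0, 23] []), Commute ((fun _ => 1 : ℕ → subG [1, 0, 23] []) m) y :=
      fun _ y => Commute.one_left y
    have := CollectRank.card_lift2 cert (Gl := g) (Tl := t) (E := fun _ => 1) h1 (fun _ => mul_one 1) ht0 (fun m => by
      show _ = _ * (1 : subG [1, 0, 23] [])
      rw [mul_one]
      by_cases hm : m < cert.facts.length
      · exact hfacts m hm
      · have hd : cert.fact m = (0, [], []) := List.getD_eq_default _ _ (not_lt.mp hm)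
        simp [hd, ev_nil, ht0]) (hz _ _) (hz _ _) hC
    simpa only [hz, mul_one] using this
  refine CollectRank.card_ker_le_four hσ hexp cert hC g t ht0 hfacts hlow ?_
  have h := P.card_mul_index
  rw [card_plane, le_antisymm hup hlow, cert_n] at h
  norm_num at h
  rw [← hP]
  exact ⟨157, by omega⟩

/-- Two covers with elementary abelian centres of order four are isomorphic. -/
theorem unique_of_card_ker_le {M : Type w} [Group M] [Finite M]
    (hker : ∀ (Γ : Type (max u₁ u₂)) [Group Γ] [Finite Γ] (σ : Γ →* M), Cfsg.IsStemExtension σ →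
      (∀ z ∈ σ.ker, z * z = 1) → Nat.card σ.ker ≤ 4)
    {L₁ : Type u₁} {L₂ : Type u₂} [Group L₁] [Finite L₁] [Group L₂] [Finite L₂]
    (hp₁ : Group.IsPerfect L₁) (hp₂ : Group.IsPerfect L₂)
    (hc₁ : Nat.card (center L₁) = 4) (hc₂ : Nat.card (center L₂) = 4)
    (he₁ : ∀ x ∈ center L₁, x * x = 1) (he₂ : ∀ x ∈ center L₂, x * x = 1)
    (σ₁ : L₁ →* M) (σ₂ : L₂ →* M) (hs₁ : Function.Surjective σ₁) (hs₂ : Function.Surjective σ₂)
    (hk₁ : σ₁.ker = center L₁) (hk₂ : σ₂.ker = center L₂) : Nonempty (L₁ ≃* L₂) := by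
  classical
  let D : Subgroup (L₁ × L₂) := (σ₁.comp (MonoidHom.fst L₁ L₂)).eqLocus (σ₂.comp (MonoidHom.snd L₁ L₂))
  let K : Subgroup (L₁ × L₂) := ⁅D, D⁆
  have hKD : K ≤ D := commutator_le_self D
  let f : L₁ × L₂ →* M := σ₁.comp (MonoidHom.fst L₁ L₂)
  have hfD : D.map f = ⊤ := by
    rw [eq_top_iff]
    intro m _
    obtain ⟨a, rfl⟩ := hs₁ m
    obtain ⟨b, hb⟩ := hs₂ (σ₁ a)
    exact ⟨(a, b), hb.symm, rfl⟩
  have hMp : ⁅(⊤ : Subgroup M), (⊤ : Subgroup M)⁆ = ⊤ := by
    rw [← map_top_of_surjective σ₁ hs₁, ← map_commutator, ← _root_.commutator_def, hp₁.commutator_eq_top]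
  have hfK : K.map f = ⊤ := by rw [map_commutator, hfD, hMp]
  have hcen : ∀ d ∈ D, f d = 1 → d ∈ center (L₁ × L₂) := by
    rintro ⟨a, b⟩ hd hfd
    have h1 : a ∈ center L₁ := hk₁ ▸ MonoidHom.mem_ker.mpr hfd
    have h2 : b ∈ center L₂ := by
      rw [← hk₂, MonoidHom.mem_ker]
      exact (show σ₁ a = σ₂ b from hd).symm.trans hfd
    rw [mem_center_iff]
    rintro ⟨x, y⟩
    exact Prod.ext (mem_center_iff.mp h1 x) (mem_center_iff.mp h2 y)
  have hKK : ⁅K, K⁆ = K := by
    refine le_antisymm (commutator_le_self K) ((commutator_le).mpr ?_)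
    intro a ha b hb
    have key : ∀ d ∈ D, ∃ k ∈ K, k⁻¹ * d ∈ center (L₁ × L₂) := by
      intro d hd
      obtain ⟨k, hk, e⟩ := (show f d ∈ K.map f by rw [hfK]; trivial)
      exact ⟨k, hk, hcen _ (D.mul_mem (D.inv_mem (hKD hk)) hd) (by rw [map_mul, map_inv, e, inv_mul_cancel])⟩
    obtain ⟨k, hk, hka⟩ := key a ha
    obtain ⟨l, hl, hlb⟩ := key b hb
    have e : ⁅a, b⁆ = ⁅k, l⁆ := by
      have h1 : ∀ g, g * (k⁻¹ * a) = (k⁻¹ * a) * g := fun g => mem_center_iff.mp hka g
      have h2 : ∀ g, g * (l⁻¹ * b) = (l⁻¹ * b) * g := fun g => mem_center_iff.mp hlb g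
      rw [show a = k * (k⁻¹ * a) by group, show b = l * (l⁻¹ * b) by group]
      generalize hu : k⁻¹ * a = u at h1
      generalize hv : l⁻¹ * b = v at h2
      rw [commutatorElement_def, commutatorElement_def, mul_inv_rev, mul_inv_rev]
      calc k * u * (l * v) * (u⁻¹ * k⁻¹) * (v⁻¹ * l⁻¹)
          = k * (u * (l * v)) * u⁻¹ * (k⁻¹ * v⁻¹) * l⁻¹ := by group
        _ = k * ((l * v) * u) * u⁻¹ * (k⁻¹ * v⁻¹) * l⁻¹ := by rw [h1 (l * v)]
        _ = k * l * ((v * k⁻¹) * v⁻¹) * l⁻¹ := by group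
        _ = k * l * ((k⁻¹ * v) * v⁻¹) * l⁻¹ := by rw [h2 k⁻¹]
        _ = k * l * k⁻¹ * l⁻¹ := by group
    rw [e]
    exact commutator_mem_commutator hk hl
  let σ : K →* M := f.comp K.subtype
  have hσs : Function.Surjective σ := by
    intro m
    obtain ⟨k, hk, e⟩ := (show m ∈ K.map f by rw [hfK]; trivial)
    exact ⟨⟨k, hk⟩, e⟩
  have hperf : commutator K = ⊤ := by
    refine map_injective K.subtype_injective ?_
    rw [_root_.commutator_def, map_commutator, ← MonoidHom.range_eq_map, range_subtype]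
    exact hKK
  have hσ : Cfsg.IsStemExtension σ := by
    refine ⟨hσs, fun x hx => ?_, hperf ▸ le_top⟩
    rw [mem_center_iff]
    intro y
    exact Subtype.ext (mem_center_iff.mp (hcen _ (hKD x.2) hx) y)
  have hexp : ∀ z ∈ σ.ker, z * z = 1 := by
    intro z hz
    have hd := hKD z.2
    refine Subtype.ext (Prod.ext ?_ ?_)
    · exact he₁ _ (hk₁ ▸ MonoidHom.mem_ker.mpr hz)
    · exact he₂ _ (hk₂ ▸ MonoidHom.mem_ker.mpr ((show σ₁ (z : L₁ × L₂).1 = σ₂ (z : L₁ × L₂).2 from hd).symm.trans hz))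
  have hle := hker K σ hσ hexp
  have hK : Nat.card K ≤ Nat.card M * 4 := by
    rw [← σ.ker.card_mul_index, index_ker, MonoidHom.range_eq_top.mpr hσs, card_top, mul_comm]
    exact Nat.mul_le_mul_left _ hle
  have h₁ : Function.Bijective ((MonoidHom.fst L₁ L₂).comp K.subtype) := by
    have hs : Function.Surjective ((MonoidHom.fst L₁ L₂).comp K.subtype) := by
      rw [← MonoidHom.range_eq_top]
      have hDf : D.map (MonoidHom.fst L₁ L₂) = ⊤ := by
        rw [eq_top_iff]
        intro a _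
        obtain ⟨b, hb⟩ := hs₂ (σ₁ a)
        exact ⟨(a, b), hb.symm, rfl⟩
      rw [MonoidHom.range_comp, range_subtype, map_commutator, hDf, ← _root_.commutator_def, hp₁.commutator_eq_top]
    refine (Nat.bijective_iff_surjective_and_card _).mpr ⟨hs, le_antisymm ?_ (Nat.card_le_card_of_surjective _ hs)⟩
    rw [← σ₁.ker.card_mul_index, index_ker, MonoidHom.range_eq_top.mpr hs₁, card_top, hk₁, hc₁, mul_comm]
    exact hK
  have h₂ : Function.Bijective ((MonoidHom.snd L₁ L₂).comp K.subtype) := by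
    have hs : Function.Surjective ((MonoidHom.snd L₁ L₂).comp K.subtype) := by
      rw [← MonoidHom.range_eq_top]
      have hDf : D.map (MonoidHom.snd L₁ L₂) = ⊤ := by
        rw [eq_top_iff]
        intro b _
        obtain ⟨a, ha⟩ := hs₁ (σ₂ b)
        exact ⟨(a, b), ha, rfl⟩
      rw [MonoidHom.range_comp, range_subtype, map_commutator, hDf, ← _root_.commutator_def, hp₂.commutator_eq_top]
    refine (Nat.bijective_iff_surjective_and_card _).mpr ⟨hs, le_antisymm ?_ (Nat.card_le_card_of_surjective _ hs)⟩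
    rw [← σ₂.ker.card_mul_index, index_ker, MonoidHom.range_eq_top.mpr hs₂, card_top, hk₂, hc₂, mul_comm]
    exact hK
  exact ⟨(MulEquiv.ofBijective _ h₁).symm.trans (MulEquiv.ofBijective _ h₂)⟩

theorem s5387 {L₁ : Type u₁} {L₂ : Type u₂} [Group L₁] [Finite L₁] [Group L₂] [Finite L₂] (F : Type) [Field F] [Fintype F]
    (hF : Fintype.card F = 4) (h₁ : Cfsg.IsQuasisimple L₁) (h₂ : Cfsg.IsQuasisimple L₂)
    (hc₁ : Nat.card (center L₁) = 4) (hc₂ : Nat.card (center L₂) = 4)
    (he₁ : ∀ x ∈ center L₁, x * x = 1) (he₂ : ∀ x ∈ center L₂, x * x = 1)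
    (e₁ : L₁ ⧸ center L₁ ≃* Matrix.ProjectiveSpecialLinearGroup (Fin 3) F)
    (e₂ : L₂ ⧸ center L₂ ≃* Matrix.ProjectiveSpecialLinearGroup (Fin 3) F) : Nonempty (L₁ ≃* L₂) := by
  have n01 : (none : GolayPt) ≠ pt 0 := by decide
  have n02 : (none : GolayPt) ≠ pt 1 := by decide
  have n12 : pt 0 ≠ pt 1 := by decide
  obtain ⟨a⟩ := CfsgPlane.stab3_equiv n01 n02 n12
  obtain ⟨b⟩ := CfsgPlane.s0380 n01 n02 n12 F hF
  let e : Matrix.ProjectiveSpecialLinearGroup (Fin 3) F ≃* ↥(subG [1, 0, 23] []) := (a.trans b).symm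
  refine unique_of_card_ker_le.{u₁, u₂} (fun Γ _ _ σ hσ hexp => card_ker_le hσ hexp) h₁.1 h₂.1 hc₁ hc₂ he₁ he₂
    ((e₁.trans e).toMonoidHom.comp (QuotientGroup.mk' _)) ((e₂.trans e).toMonoidHom.comp (QuotientGroup.mk' _))
    ((e₁.trans e).surjective.comp (QuotientGroup.mk'_surjective _))
    ((e₂.trans e).surjective.comp (QuotientGroup.mk'_surjective _)) ?_ ?_
  · ext x
    simp
  · ext x
    simp

end CfsgLib.StemSylow.PlaneCover
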