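/-
Kernel checks for PSL(3, 4) on 24 points and its fourfold covers on 248 points.
-/
import Cfsg.Agent.Lib.StemSylow.PlaneFourData
import Cfsg.Agent.Lib.StemSylow.CollectGolay
import Cfsg.Agent.Lib.PermChain.Closed

set_option autoImplicit false
set_option maxRecDepth 30000
set_option maxHeartbeats 1000000

namespace CfsgLib.StemSylow.PlaneFour

open CfsgPC

theorem small_perm : (smallGens.all fun c => isPerm 24 c.1 c.2) = true ∧ smallGens.length = 2 ∧ golayGens.length = 2 := by decide +kernel

theorem golay_ok : (golayGens.all fun c => CfsgGolay.permOK c && CfsgGolay.gensKept c && CfsgGolay.inSub [1, 0, 23] [] c) = true ∧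
    ((List.range 2).all fun a => (List.range 24).all fun i =>
      Nat.beq (CfsgGolay.papp (golayGens.getD a 0) i) (ap (smallGens.getD a (0, 0)).1 i)) = true := by decide +kernel

theorem small_shape : shapeOK 24 smallChain (smallGens.map Prod.fst) = true ∧
    (smallChain.map fun L => L.tr.length) = [21, 20, 16, 3] ∧ sizeOfChain smallChain = 20160 := by decide +kernel

theorem small_entries : ((List.range 4).all fun j => entriesOK 24 smallChain (smallGens.map Prod.fst) j 0
    ([21, 20, 16, 3].getD j 0)) = true := by decide +kernel

/-- Composition on all points, as a list of images. -/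
def img (cs : List ℕ) : List ℕ := (List.range 24).map fun i => cs.foldr ap i

theorem two_mem : memOK 24 smallChain twoCodes = true ∧ twoCodes.length = 6 := by decide +kernel

theorem two_sq : ((List.range 6).all fun k => decide (img [(twoCodes.getD k (0, 0)).1, (twoCodes.getD k (0, 0)).1] = img [])) = true := by
  decide +kernel

theorem two_comm : ([(0, 1), (0, 4), (0, 5), (1, 4), (1, 5), (2, 3), (2, 4), (2, 5), (3, 4), (3, 5), (4, 5)].all fun p =>
    decide (img [(twoCodes.getD p.1 (0, 0)).1, (twoCodes.getD p.2 (0, 0)).1] =
      img [(twoCodes.getD p.2 (0, 0)).1, (twoCodes.getD p.1 (0, 0)).1])) = true := by decide +kernel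

theorem two_cross : ([(0, 2), (0, 3), (1, 2), (1, 3)].all fun p => [[], [4], [5], [4, 5]].any fun w =>
    decide (img [(twoCodes.getD p.1 (0, 0)).1, (twoCodes.getD p.2 (0, 0)).1] =
      img (w.map (fun k => (twoCodes.getD k (0, 0)).1) ++ [(twoCodes.getD p.2 (0, 0)).1, (twoCodes.getD p.1 (0, 0)).1]))) = true := by
  decide +kernel

theorem three_mem : memOK 24 smallChain threeCodes = true ∧ threeCodes.length = 2 := by decide +kernel

theorem three_ok : img [(threeCodes.getD 0 (0, 0)).1, (threeCodes.getD 0 (0, 0)).1, (threeCodes.getD 0 (0, 0)).1] = img [] ∧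
    img [(threeCodes.getD 1 (0, 0)).1, (threeCodes.getD 1 (0, 0)).1, (threeCodes.getD 1 (0, 0)).1] = img [] ∧
    img [(threeCodes.getD 0 (0, 0)).1, (threeCodes.getD 1 (0, 0)).1] =
      img [(threeCodes.getD 1 (0, 0)).1, (threeCodes.getD 0 (0, 0)).1] := by decide +kernel

theorem cyc_ok : (cycCodes.all fun d => isPerm 24 d.2.1 d.2.2 && sift 24 smallChain d.2.1 &&
    (List.range 24).all (fun i => Nat.beq (apN d.2.1 d.1 i) i) &&
    !((List.range 24).all fun i => Nat.beq (ap d.2.1 i) i)) = true ∧ cycCodes.map Prod.fst = [5, 7] := by decide +kernel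

theorem z_ok : isPerm 248 zCode.1 zCode.2 = true ∧
    ((List.range 24).all fun i => Nat.beq (ap zCode.1 i) i) = true ∧
    Nat.beq (ap zCode.1 (ap zCode.1 24)) 24 = false ∧
    ((List.range 248).all fun i => Nat.beq (apN zCode.1 4 i) i) = true := by decide +kernel

theorem comm_same : ((List.range 4).all fun k => (List.range 24).all fun i =>
    Nat.beq (ap (commCodesA.getD k (0, 0)).1 i) (ap (commCodesB.getD k (0, 0)).1 i)) = true := by decide +kernel

theorem shapetwoChain : shapeOK 24 twoChain (twoCodes.map Prod.fst) = true ∧
    (twoChain.map fun L => L.tr.length) = [16, 4] ∧ sizeOfChain twoChain = 64 ∧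
    ((gensAt 24 twoChain (twoCodes.map Prod.fst) 2).all fun c => (List.range 24).all fun i => Nat.beq (ap c i) i) = true := by
  decide +kernel

theorem entriestwoChain0 : entriesOK 24 twoChain (twoCodes.map Prod.fst) 0 0 16 = true := by decide +kernel

theorem closedtwoChain0 : closedOK 24 twoChain (twoCodes.map Prod.fst) 0 0 16 = true := by decide +kernel

theorem entriestwoChain1 : entriesOK 24 twoChain (twoCodes.map Prod.fst) 1 0 4 = true := by decide +kernel

theorem closedtwoChain1 : closedOK 24 twoChain (twoCodes.map Prod.fst) 1 0 4 = true := by decide +kernel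

theorem shapethreeChain : shapeOK 24 threeChain (threeCodes.map Prod.fst) = true ∧
    (threeChain.map fun L => L.tr.length) = [3, 3] ∧ sizeOfChain threeChain = 9 ∧
    ((gensAt 24 threeChain (threeCodes.map Prod.fst) 2).all fun c => (List.range 24).all fun i => Nat.beq (ap c i) i) = true := by
  decide +kernel

theorem entriesthreeChain0 : entriesOK 24 threeChain (threeCodes.map Prod.fst) 0 0 3 = true := by decide +kernel

theorem closedthreeChain0 : closedOK 24 threeChain (threeCodes.map Prod.fst) 0 0 3 = true := by decide +kernel

theorem entriesthreeChain1 : entriesOK 24 threeChain (threeCodes.map Prod.fst) 1 0 3 = true := by decide +kernel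

theorem closedthreeChain1 : closedOK 24 threeChain (threeCodes.map Prod.fst) 1 0 3 = true := by decide +kernel

theorem shapecoverChainA : shapeOK 248 coverChainA (coverGensA.map Prod.fst) = true ∧
    (coverChainA.map fun L => L.tr.length) = [21, 20, 16, 3, 4] ∧ sizeOfChain coverChainA = 80640 ∧
    ((gensAt 248 coverChainA (coverGensA.map Prod.fst) 5).all fun c => (List.range 248).all fun i => Nat.beq (ap c i) i) = true := by
  decide +kernel

theorem entriescoverChainA0 : entriesOK 248 coverChainA (coverGensA.map Prod.fst) 0 0 21 = true := by decide +kernel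

theorem closedcoverChainA0 : closedOK 248 coverChainA (coverGensA.map Prod.fst) 0 0 21 = true := by decide +kernel

theorem entriescoverChainA1 : entriesOK 248 coverChainA (coverGensA.map Prod.fst) 1 0 20 = true := by decide +kernel

theorem closedcoverChainA1 : closedOK 248 coverChainA (coverGensA.map Prod.fst) 1 0 20 = true := by decide +kernel

theorem entriescoverChainA2 : entriesOK 248 coverChainA (coverGensA.map Prod.fst) 2 0 16 = true := by decide +kernel

theorem closedcoverChainA2 : closedOK 248 coverChainA (coverGensA.map Prod.fst) 2 0 16 = true := by decide +kernel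

theorem entriescoverChainA3 : entriesOK 248 coverChainA (coverGensA.map Prod.fst) 3 0 3 = true := by decide +kernel

theorem closedcoverChainA3 : closedOK 248 coverChainA (coverGensA.map Prod.fst) 3 0 3 = true := by decide +kernel

theorem entriescoverChainA4 : entriesOK 248 coverChainA (coverGensA.map Prod.fst) 4 0 4 = true := by decide +kernel

theorem closedcoverChainA4 : closedOK 248 coverChainA (coverGensA.map Prod.fst) 4 0 4 = true := by decide +kernel

theorem permA : (coverGensA.all fun c => isPerm 248 c.1 c.2) = true ∧ coverGensA.length = 2 := by decide +kernel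

theorem projA : ((List.range 2).all fun a => (List.range 24).all fun i =>
    Nat.beq (ap (coverGensA.getD a (0, 0)).1 i) (ap (smallGens.getD a (0, 0)).1 i)) = true := by decide +kernel

theorem zsiftA : sift 248 coverChainA zCode.1 = true ∧ ((List.range 248).all fun i => (coverGensA.map Prod.fst).all fun g =>
      Nat.beq (ap g (ap zCode.1 i)) (ap zCode.1 (ap g i))) = true := by decide +kernel

theorem commA_mem : memOK 248 coverChainA commCodesA = true ∧ commCodesA.length = 4 := by decide +kernel

theorem commA0 : ((List.range 248).all fun i =>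
    Nat.beq (ap (commCodesA.getD 0 (0, 0)).1 (ap (commCodesA.getD 1 (0, 0)).1
      (ap (commCodesA.getD 0 (0, 0)).2 (ap (commCodesA.getD 1 (0, 0)).2 i)))) (ap zCode.1 i)) = true := by decide +kernel

theorem commA1 : ((List.range 248).all fun i =>
    Nat.beq (ap (commCodesA.getD 2 (0, 0)).1 (ap (commCodesA.getD 3 (0, 0)).1
      (ap (commCodesA.getD 2 (0, 0)).2 (ap (commCodesA.getD 3 (0, 0)).2 i)))) i) = true := by decide +kernel

theorem shapecoverChainB : shapeOK 248 coverChainB (coverGensB.map Prod.fst) = true ∧
    (coverChainB.map fun L => L.tr.length) = [21, 20, 16, 3, 4] ∧ sizeOfChain coverChainB = 80640 ∧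
    ((gensAt 248 coverChainB (coverGensB.map Prod.fst) 5).all fun c => (List.range 248).all fun i => Nat.beq (ap c i) i) = true := by
  decide +kernel

theorem entriescoverChainB0 : entriesOK 248 coverChainB (coverGensB.map Prod.fst) 0 0 21 = true := by decide +kernel

theorem closedcoverChainB0 : closedOK 248 coverChainB (coverGensB.map Prod.fst) 0 0 21 = true := by decide +kernel

theorem entriescoverChainB1 : entriesOK 248 coverChainB (coverGensB.map Prod.fst) 1 0 20 = true := by decide +kernel

theorem closedcoverChainB1 : closedOK 248 coverChainB (coverGensB.map Prod.fst) 1 0 20 = true := by decide +kernel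

theorem entriescoverChainB2 : entriesOK 248 coverChainB (coverGensB.map Prod.fst) 2 0 16 = true := by decide +kernel

theorem closedcoverChainB2 : closedOK 248 coverChainB (coverGensB.map Prod.fst) 2 0 16 = true := by decide +kernel

theorem entriescoverChainB3 : entriesOK 248 coverChainB (coverGensB.map Prod.fst) 3 0 3 = true := by decide +kernel

theorem closedcoverChainB3 : closedOK 248 coverChainB (coverGensB.map Prod.fst) 3 0 3 = true := by decide +kernel

theorem entriescoverChainB4 : entriesOK 248 coverChainB (coverGensB.map Prod.fst) 4 0 4 = true := by decide +kernel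

theorem closedcoverChainB4 : closedOK 248 coverChainB (coverGensB.map Prod.fst) 4 0 4 = true := by decide +kernel

theorem permB : (coverGensB.all fun c => isPerm 248 c.1 c.2) = true ∧ coverGensB.length = 2 := by decide +kernel

theorem projB : ((List.range 2).all fun a => (List.range 24).all fun i =>
    Nat.beq (ap (coverGensB.getD a (0, 0)).1 i) (ap (smallGens.getD a (0, 0)).1 i)) = true := by decide +kernel

theorem zsiftB : sift 248 coverChainB zCode.1 = true ∧ ((List.range 248).all fun i => (coverGensB.map Prod.fst).all fun g =>
      Nat.beq (ap g (ap zCode.1 i)) (ap zCode.1 (ap g i))) = true := by decide +kernel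

theorem commB_mem : memOK 248 coverChainB commCodesB = true ∧ commCodesB.length = 4 := by decide +kernel

theorem commB0 : ((List.range 248).all fun i =>
    Nat.beq (ap (commCodesB.getD 0 (0, 0)).1 (ap (commCodesB.getD 1 (0, 0)).1
      (ap (commCodesB.getD 0 (0, 0)).2 (ap (commCodesB.getD 1 (0, 0)).2 i)))) i) = true := by decide +kernel

theorem commB1 : ((List.range 248).all fun i =>
    Nat.beq (ap (commCodesB.getD 2 (0, 0)).1 (ap (commCodesB.getD 3 (0, 0)).1
      (ap (commCodesB.getD 2 (0, 0)).2 (ap (commCodesB.getD 3 (0, 0)).2 i)))) (ap zCode.1 i)) = true := by decide +kernel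

end CfsgLib.StemSylow.PlaneFour
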