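/-
PSL(3, 4) as a group of permutations of 24 points.
-/
import Cfsg.Agent.Lib.StemSylow.PlaneCover
import Cfsg.Agent.Lib.StemSylow.PlaneFourChecks
import Cfsg.Agent.Lib.PermChain.Model
import Cfsg.Agent.Lib.SLPerfect

set_option autoImplicit false
set_option maxRecDepth 30000
set_option linter.unusedSectionVars false

namespace CfsgLib.StemSylow.PlaneFour

open Equiv CfsgPC

attribute [local irreducible] smallChain smallGens golayGens

/-- PSL(3, 4) on 24 points. -/
abbrev SmallPlane := ↥(genG 24 (smallGens.map Prod.fst))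

theorem plane_model : Valid 24 (smallGens.map Prod.fst) ∧ TableOK 24 smallChain (smallGens.map Prod.fst) ∧
    prodSet 24 smallChain = genG 24 (smallGens.map Prod.fst) ∧ Nat.card SmallPlane = 20160 ∧
    Nonempty (↥(CfsgGolay.subG [1, 0, 23] []) ≃* SmallPlane) := by
  have hv : Valid 24 (smallGens.map Prod.fst) := fun c hc => by
    obtain ⟨d, hd, rfl⟩ := List.mem_map.mp hc
    exact ⟨_, decP_rep (List.all_eq_true.mp small_perm.1 d hd)⟩
  obtain ⟨hs, hlens, hsize⟩ := small_shape
  have hT : TableOK 24 smallChain (smallGens.map Prod.fst) := tableOK_of_checks hs fun j hj k hk => by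
    have hl : smallChain.length = 4 := by simpa using congrArg List.length hlens
    refine of_entriesOK (List.all_eq_true.mp small_entries j (List.mem_range.mpr (hl ▸ hj))) (Nat.zero_le _) ?_
    rw [← hlens, List.getD_eq_getElem _ _ (by simpa using hj), List.getElem_map]
    rwa [List.getD_eq_getElem _ _ hj] at hk
  have hinj : Function.Injective fun i : Fin 24 => CfsgGolay.pt i := fun i j h => Fin.ext (by
    have := congrArg CfsgGolay.idx h
    rwa [CfsgGolay.idx_pt i.2, CfsgGolay.idx_pt j.2] at this)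
  have hg : ∀ c ∈ smallGens.map Prod.fst, ∃ g : ↥(CfsgGolay.subG [1, 0, 23] []), ∃ p : Perm (Fin 24), Rep 24 c p ∧
      ∀ i : Fin 24, g • CfsgGolay.pt i = CfsgGolay.pt (p i) := by
    intro c hc
    obtain ⟨a, ha, rfl⟩ := List.getElem_of_mem hc
    rw [List.length_map] at ha
    have ha2 : a < 2 := small_perm.2.1 ▸ ha
    have ha' : a < golayGens.length := by rw [small_perm.2.2]; exact ha2
    obtain ⟨p, hp⟩ := hv _ hc
    have h := List.all_eq_true.mp golay_ok.1 _ (List.getElem_mem ha')
    simp only [Bool.and_eq_true] at h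
    obtain ⟨g, hg⟩ := CfsgGolay.exists_repr_of_permOK h.1.1
    refine ⟨⟨g, CfsgGolay.mem_subG_of_inSub (CfsgGolay.mem_M24_of_gensKept hg h.1.2) hg h.2⟩, p, hp,
      fun i => ?_⟩
    show g (CfsgGolay.pt i) = CfsgGolay.pt (p i)
    rw [hg.apply_pt i.2]
    have e := Nat.eq_of_beq_eq_true
      (List.all_eq_true.mp (List.all_eq_true.mp golay_ok.2 a (List.mem_range.mpr ha2)) i (List.mem_range.mpr i.2))
    rw [List.getD_eq_getElem _ _ ha', List.getD_eq_getElem _ _ ha] at e
    rw [e, ← hp i, List.getElem_map]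
  have hge : 20160 ≤ Nat.card SmallPlane := by
    obtain ⟨hsub, hc⟩ := table_products (by norm_num) hT hv
    rw [← hsize, ← hc, ← Nat.card_coe_set_eq]
    exact Nat.card_mono (Set.toFinite _) hsub
  haveI : Finite ↥(CfsgGolay.subG [1, 0, 23] []) := Nat.finite_of_card_ne_zero (by rw [PlaneCover.card_plane]; norm_num)
  obtain ⟨e⟩ := exists_model hinj hg (PlaneCover.card_plane.trans_le hge)
  have hcard : Nat.card SmallPlane = 20160 := (Nat.card_congr e.toEquiv).symm.trans PlaneCover.card_plane
  obtain ⟨heq, -⟩ := table_eq (by norm_num) hT hv (by rw [hcard, hsize])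
  exact ⟨hv, hT, heq, hcard, ⟨e⟩⟩

/-- An isomorphism of fields gives one of the projective special linear groups. -/
theorem psl_map {F K : Type*} [Field F] [Field K] (r : F ≃+* K) :
    Nonempty (Matrix.ProjectiveSpecialLinearGroup (Fin 3) F ≃* Matrix.ProjectiveSpecialLinearGroup (Fin 3) K) := by
  let e : Matrix.SpecialLinearGroup (Fin 3) F ≃* Matrix.SpecialLinearGroup (Fin 3) K :=
    { Matrix.SpecialLinearGroup.map (r : F →+* K) with
      invFun := Matrix.SpecialLinearGroup.map (r.symm : K →+* F)
      left_inv := fun A => Subtype.ext (Matrix.ext fun i j => r.symm_apply_apply _)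
      right_inv := fun A => Subtype.ext (Matrix.ext fun i j => r.apply_symm_apply _) }
  refine ⟨QuotientGroup.congr _ _ e ?_⟩
  ext x
  rw [Subgroup.mem_map]
  constructor
  · rintro ⟨y, hy, rfl⟩
    refine Subgroup.mem_center_iff.mpr fun g => e.symm.injective ?_
    simp only [map_mul]
    erw [e.symm_apply_apply]
    exact Subgroup.mem_center_iff.mp hy _
  · intro hx
    refine ⟨e.symm x, Subgroup.mem_center_iff.mpr fun g => e.injective ?_, e.apply_symm_apply x⟩
    simp only [map_mul, e.apply_symm_apply]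
    exact Subgroup.mem_center_iff.mp hx _

/-- The group over any field of four elements is the group on 24 points. -/
theorem equiv_small {F : Type*} [Field F] [Fintype F] (hF : Fintype.card F = 4) :
    Nonempty (Matrix.ProjectiveSpecialLinearGroup (Fin 3) F ≃* SmallPlane) := by
  classical
  haveI : Fact (Nat.Prime 2) := ⟨Nat.prime_two⟩
  haveI : Fintype (GaloisField 2 2) := Fintype.ofFinite _
  have hK : Fintype.card (GaloisField 2 2) = 4 := by
    rw [← Nat.card_eq_fintype_card, GaloisField.card 2 2 (by norm_num)]; norm_num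
  have n01 : (none : Cfsg.GolayPt) ≠ CfsgGolay.pt 0 := by decide
  have n02 : (none : Cfsg.GolayPt) ≠ CfsgGolay.pt 1 := by decide
  have n12 : CfsgGolay.pt 0 ≠ CfsgGolay.pt 1 := by decide
  obtain ⟨a⟩ := CfsgPlane.stab3_equiv n01 n02 n12
  obtain ⟨b⟩ := CfsgPlane.s0380 n01 n02 n12 (GaloisField 2 2) hK
  obtain ⟨c⟩ := psl_map (FiniteField.ringEquivOfCardEq (K := F) (K' := GaloisField 2 2) (hF.trans hK.symm))
  obtain ⟨-, -, -, -, ⟨d⟩⟩ := plane_model
  exact ⟨c.trans ((a.trans b).symm.trans d)⟩

end CfsgLib.StemSylow.PlaneFour
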