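/-
A stem extension of PSL(3, 4) has a kernel of exponent twelve generated by one element of order three and two
of order four.
-/
import Cfsg.Agent.Lib.StemSylow.PlaneFourGroup
import Cfsg.Agent.Lib.StSL.Small

set_option autoImplicit false
set_option maxRecDepth 30000
set_option linter.unusedSectionVars false
set_option linter.style.haveILetI false

namespace CfsgLib.StemSylow.PlaneFour

open Equiv Subgroup
open scoped commutatorElement

universe u v

section Abstract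

variable {G : Type v} [Group G] {Γ : Type u} [Group Γ] {σ : Γ →* G}

/-- Commutators with a square fixed give the inverse. -/
theorem sq_comm_eq (a b : Γ) (h : Commute (a * a) b) : a * ⁅a, b⁆ * a⁻¹ * ⁅a, b⁆ = 1 := by
  rw [show a * ⁅a, b⁆ * a⁻¹ * ⁅a, b⁆ = ⁅a * a, b⁆ by simp only [commutatorElement_def]; group]
  exact commutatorElement_eq_one_iff_commute.mpr h

theorem commutator_expand (a b c : Γ) : ⁅a * b, c⁆ = a * ⁅b, c⁆ * a⁻¹ * ⁅a, c⁆ := by
  simp only [commutatorElement_def]; group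

theorem commutator_expand' (a b c : Γ) : ⁅a, b * c⁆ = ⁅a, b⁆ * (b * ⁅a, c⁆ * b⁻¹) := by
  simp only [commutatorElement_def]; group

/-- A central commutator with a fixed element is multiplicative. -/
theorem commutator_central {a b c : Γ} (h : ⁅a, c⁆ ∈ center Γ) : ⁅a, b * c⁆ = ⁅a, b⁆ * ⁅a, c⁆ := by
  rw [commutator_expand', mem_center_iff.mp h b, mul_inv_cancel_right]

variable (hsurj : Function.Surjective σ) (hcen : σ.ker ≤ center Γ) {E1 E2 : Subgroup G}
  (a1 : ∀ x ∈ E1, ∀ y ∈ E1, Commute x y) (a2 : ∀ x ∈ E2, ∀ y ∈ E2, Commute x y)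
  (s1 : ∀ x ∈ E1, x * x = 1) (s2 : ∀ x ∈ E2, x * x = 1)
  (h12 : ∀ a ∈ E1, ∀ b ∈ E2, ⁅a, b⁆ ∈ E1 ⊓ E2)

include hcen in
theorem comm_in_lift {E : Subgroup G} (ha : ∀ x ∈ E, ∀ y ∈ E, Commute x y) (hs : ∀ x ∈ E, x * x = 1) {a c : Γ}
    (h1 : a ∈ E.comap σ) (h2 : c ∈ E.comap σ) : ⁅a, c⁆ ∈ σ.ker ∧ ⁅a, c⁆ ^ 4 = 1 := by
  have hk : ⁅a, c⁆ ∈ σ.ker := by
    rw [MonoidHom.mem_ker, map_commutatorElement, commutatorElement_eq_one_iff_commute]
    exact ha _ h1 _ h2
  refine ⟨hk, ?_⟩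
  have hsq : a * a ∈ σ.ker := by rw [MonoidHom.mem_ker, map_mul]; exact hs _ h1
  have := sq_comm_eq a c (mem_center_iff.mp (hcen hsq) c).symm
  rw [mem_center_iff.mp (hcen hk) a, mul_inv_cancel_right, ← sq] at this
  rw [show (4 : ℕ) = 2 * 2 from rfl, pow_mul, this, one_pow]

include hsurj hcen a1 a2 s1 s2 h12 in
/-- The derived group of the preimage of the product of two elementary abelian subgroups has exponent four. -/
theorem derived_pow_four {z : Γ} (hz : z ∈ ⁅(E1 ⊔ E2).comap σ, (E1 ⊔ E2).comap σ⁆) : z ^ 4 = 1 := by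
  set A := E1.comap σ with hA
  set B := E2.comap σ with hB
  set D := A ⊓ B with hD
  have hAB : ∀ a ∈ A, ∀ b ∈ B, ⁅a, b⁆ ∈ D := fun a ha b hb => by
    have h := h12 _ ha _ hb
    rw [← map_commutatorElement σ a b] at h
    exact h
  have hK : σ.ker ≤ D := fun k hk => by
    refine ⟨?_, ?_⟩
    · show σ k ∈ E1
      rw [MonoidHom.mem_ker.mp hk]; exact one_mem _
    · show σ k ∈ E2
      rw [MonoidHom.mem_ker.mp hk]; exact one_mem _
  -- every element of the preimage is a product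
  let T : Set Γ := {x | ∃ a ∈ A, ∃ b ∈ B, x = a * b}
  have T1 : (1 : Γ) ∈ T := ⟨1, one_mem _, 1, one_mem _, (mul_one 1).symm⟩
  have Tmul : ∀ x ∈ T, ∀ y ∈ T, x * y ∈ T := by
    rintro _ ⟨a, ha, b, hb, rfl⟩ _ ⟨a', ha', b', hb', rfl⟩
    refine ⟨a * ((⁅a', b⁆)⁻¹ * a'), mul_mem ha (mul_mem (inv_mem (hAB a' ha' b hb).1) ha'), b * b', mul_mem hb hb', ?_⟩
    simp only [commutatorElement_def]
    group
  have Tinv : ∀ x ∈ T, x⁻¹ ∈ T := by
    rintro _ ⟨a, ha, b, hb, rfl⟩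
    rw [mul_inv_rev]
    exact Tmul _ ⟨1, one_mem _, b⁻¹, inv_mem hb, (one_mul _).symm⟩ _ ⟨a⁻¹, inv_mem ha, 1, one_mem _, (mul_one _).symm⟩
  let TS : Subgroup Γ :=
    { carrier := T, one_mem' := T1, mul_mem' := fun hx hy => Tmul _ hx _ hy, inv_mem' := fun hx => Tinv _ hx }
  have hP : ∀ x ∈ (E1 ⊔ E2).comap σ, x ∈ T := by
    intro x hx
    have hle : E1 ⊔ E2 ≤ TS.map σ := by
      refine sup_le (fun e he => ?_) fun e he => ?_
      · obtain ⟨a, rfl⟩ := hsurj e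
        exact ⟨a, ⟨a, he, 1, one_mem _, (mul_one a).symm⟩, rfl⟩
      · obtain ⟨b, rfl⟩ := hsurj e
        exact ⟨b, ⟨1, one_mem _, b, he, (one_mul b).symm⟩, rfl⟩
    obtain ⟨t, ht, e⟩ := hle hx
    have hk : t⁻¹ * x ∈ σ.ker := by rw [MonoidHom.mem_ker, map_mul, map_inv, e, inv_mul_cancel]
    have hmem := Tmul t ht (t⁻¹ * x) ⟨_, (hK hk).1, 1, one_mem _, (mul_one _).symm⟩
    rwa [mul_inv_cancel_left] at hmem
  -- the common part is centralised by all commutators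
  have hDx : ∀ d ∈ D, ∀ x ∈ T, ⁅d, x⁆ ∈ σ.ker := by
    rintro d hd _ ⟨a, ha, b, hb, rfl⟩
    have hb' := (comm_in_lift hcen a2 s2 hd.2 hb).1
    rw [commutator_central (hcen hb')]
    exact mul_mem (comm_in_lift hcen a1 s1 hd.1 ha).1 hb'
  have hDc : ∀ d ∈ D, ∀ x ∈ T, ∀ y ∈ T, Commute d ⁅x, y⁆ := by
    intro d hd x hx y hy
    have c : ∀ u ∈ T, ⁅d, u⁆ ∈ center Γ := fun u hu => hcen (hDx d hd u hu)
    have hinv : ∀ u ∈ T, ⁅d, u⁻¹⁆ = (⁅d, u⁆)⁻¹ := fun u hu => by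
      refine eq_inv_of_mul_eq_one_left ?_
      rw [← commutator_central (c u hu), inv_mul_cancel, commutatorElement_one_right]
    have hxy := Tmul x hx y hy
    rw [← commutatorElement_eq_one_iff_commute, commutatorElement_def x y,
      commutator_central (b := x * y * x⁻¹) (c _ (Tinv y hy)), commutator_central (b := x * y) (c _ (Tinv x hx)),
      commutator_central (b := x) (c y hy), hinv x hx, hinv y hy, mem_center_iff.mp (c y hy) ⁅d, x⁆,
      mul_inv_cancel_right, mul_inv_cancel]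
  let Q : Set Γ := {w | w ∈ D ∧ w ^ 4 = 1 ∧ ∀ d ∈ D, Commute d w}
  have Qmul : ∀ u ∈ Q, ∀ w ∈ Q, u * w ∈ Q := fun u hu w hw =>
    ⟨mul_mem hu.1 hw.1, by rw [(hw.2.2 u hu.1).mul_pow, hu.2.1, hw.2.1, one_mul],
      fun d hd => (hu.2.2 d hd).mul_right (hw.2.2 d hd)⟩
  have Qinv : ∀ u ∈ Q, u⁻¹ ∈ Q := fun u hu =>
    ⟨inv_mem hu.1, by rw [inv_pow, hu.2.1, inv_one], fun d hd => (hu.2.2 d hd).inv_right⟩
  have Dnorm : ∀ g ∈ T, ∀ d ∈ D, g * d * g⁻¹ ∈ D := fun g hg d hd => by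
    have : g * d * g⁻¹ = (⁅d, g⁆)⁻¹ * d := by simp only [commutatorElement_def]; group
    rw [this]
    exact mul_mem (inv_mem (hK (hDx d hd g hg))) hd
  have inA : ∀ a ∈ A, a ∈ T := fun a ha => ⟨a, ha, 1, one_mem _, (mul_one a).symm⟩
  have inB : ∀ b ∈ B, b ∈ T := fun b hb => ⟨1, one_mem _, b, hb, (one_mul b).symm⟩
  have atom : ∀ g ∈ T, ∀ x ∈ T, ∀ y ∈ T, ⁅x, y⁆ ∈ D → ⁅x, y⁆ ^ 4 = 1 → g * ⁅x, y⁆ * g⁻¹ ∈ Q := by
    intro g hg x hx y hy hd h4
    refine ⟨Dnorm g hg _ hd, by rw [conj_pow, h4, mul_one, mul_inv_cancel], fun d hd' => ?_⟩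
    rw [show g * ⁅x, y⁆ * g⁻¹ = ⁅g * x * g⁻¹, g * y * g⁻¹⁆ by simp only [commutatorElement_def]; group]
    exact hDc d hd' _ (Tmul _ (Tmul g hg x hx) _ (Tinv g hg)) _ (Tmul _ (Tmul g hg y hy) _ (Tinv g hg))
  have key : ∀ x ∈ T, ∀ y ∈ T, ⁅x, y⁆ ∈ Q := by
    rintro _ ⟨a, ha, b, hb, rfl⟩ _ ⟨a', ha', b', hb', rfl⟩
    have fA := comm_in_lift hcen a1 s1 ha ha'
    have fB := comm_in_lift hcen a2 s2 hb hb'
    have fc : ∀ u ∈ A, ∀ w ∈ B, ⁅u, w⁆ ∈ D ∧ ⁅u, w⁆ ^ 4 = 1 := by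
      intro u hu w hw
      have hd := hAB u hu w hw
      obtain ⟨-, h4⟩ := comm_in_lift hcen a1 s1 hu hd.1
      refine ⟨hd, ?_⟩
      have huk : ⁅u, ⁅u, w⁆⁆ ∈ σ.ker := (comm_in_lift hcen a1 s1 hu hd.1).1
      have hsq : u * u ∈ σ.ker := by rw [MonoidHom.mem_ker, map_mul]; exact s1 _ hu
      have e := sq_comm_eq u w (mem_center_iff.mp (hcen hsq) w).symm
      rw [show u * ⁅u, w⁆ * u⁻¹ = ⁅u, ⁅u, w⁆⁆ * ⁅u, w⁆ by simp only [commutatorElement_def]; group, mul_assoc] at e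
      rw [show ⁅u, w⁆ ^ 4 = (⁅u, w⁆ * ⁅u, w⁆) * (⁅u, w⁆ * ⁅u, w⁆) by rw [← sq, ← sq, ← pow_mul],
        eq_inv_of_mul_eq_one_right e, ← mul_inv_rev, inv_eq_one]
      have hs : ⁅u, ⁅u, w⁆⁆ * ⁅u, ⁅u, w⁆⁆ = 1 := by
        have hsq' := sq_comm_eq u ⁅u, w⁆ (mem_center_iff.mp (hcen hsq) _).symm
        rwa [mem_center_iff.mp (hcen huk) u, mul_inv_cancel_right] at hsq'
      exact hs
    have t1 : ⁅b, a'⁆ = (⁅a', b⁆)⁻¹ := (commutatorElement_inv a' b).symm
    have q1 : ⁅a', b⁆ ∈ Q := by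
      have := atom 1 (T1) a' (inA _ ha') b (inB _ hb) (fc a' ha' b hb).1 (fc a' ha' b hb).2
      simpa using this
    have q3 : ∀ g ∈ T, g * ⁅b, b'⁆ * g⁻¹ ∈ Q := fun g hg => atom g hg b (inB _ hb) b' (inB _ hb') (hK fB.1) fB.2
    rw [commutator_expand, commutator_expand' b a' b', commutator_expand' a a' b']
    refine Qmul _ ?_ _ (Qmul _ ?_ _ ?_)
    · rw [conj_mul.symm, t1, ← conj_inv]
      refine Qmul _ (Qinv _ (atom a (inA _ ha) a' (inA _ ha') b (inB _ hb) (fc a' ha' b hb).1 (fc a' ha' b hb).2)) _ ?_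
      rw [show a * (a' * ⁅b, b'⁆ * a'⁻¹) * a⁻¹ = (a * a') * ⁅b, b'⁆ * (a * a')⁻¹ by group]
      exact q3 _ (Tmul _ (inA _ ha) _ (inA _ ha'))
    · simpa using atom 1 T1 a (inA _ ha) a' (inA _ ha') (hK fA.1) fA.2
    · exact atom a' (inA _ ha') a (inA _ ha) b' (inB _ hb') (fc a ha b' hb').1 (fc a ha b' hb').2
  let QS : Subgroup Γ :=
    { carrier := Q, one_mem' := ⟨one_mem _, one_pow 4, fun d _ => Commute.one_right d⟩
      mul_mem' := fun hu hw => Qmul _ hu _ hw, inv_mem' := fun hu => Qinv _ hu }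
  have hle : ⁅(E1 ⊔ E2).comap σ, (E1 ⊔ E2).comap σ⁆ ≤ QS :=
    Subgroup.commutator_le.mpr fun x hx y hy => key x (hP x hx) y (hP y hy)
  exact (hle hz).2.1

/-- Commutators inside a generated subgroup stay among given central elements. -/
theorem commutator_mem_of_gens {W : Subgroup Γ} (hW : W ≤ center Γ) {s : Set Γ}
    (h : ∀ a ∈ s, ∀ b ∈ s, ⁅a, b⁆ ∈ W) : ⁅closure s, closure s⁆ ≤ W := by
  haveI : W.Normal := ⟨fun x hx g => by rw [mem_center_iff.mp (hW hx) g, mul_inv_cancel_right]; exact hx⟩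
  refine Subgroup.commutator_le.mpr fun x hx y hy => ?_
  rw [← QuotientGroup.eq_one_iff, ← QuotientGroup.mk'_apply, map_commutatorElement, commutatorElement_eq_one_iff_commute]
  induction hx, hy using closure_induction₂ with
  | mem a b ha hb =>
    rw [← commutatorElement_eq_one_iff_commute, ← map_commutatorElement, QuotientGroup.mk'_apply, QuotientGroup.eq_one_iff]
    exact h a ha b hb
  | one_left x _ => rw [map_one]; exact Commute.one_left _
  | one_right x _ => rw [map_one]; exact Commute.one_right _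
  | mul_left x y z _ _ _ h1 h2 => rw [map_mul]; exact h1.mul_left h2
  | mul_right y z x _ _ _ h1 h2 => rw [map_mul]; exact h1.mul_right h2
  | inv_left x y _ _ h => rw [map_inv]; exact h.inv_left
  | inv_right x y _ _ h => rw [map_inv]; exact h.inv_right

include hsurj hcen in
/-- The derived group of the preimage of two commuting elements is cyclic of order at most three. -/
theorem derived_three {g h : G} (hgh : Commute g h) (hg : g ^ 3 = 1) :
    ∃ w ∈ σ.ker, w ^ 3 = 1 ∧ ⁅(closure {g, h}).comap σ, (closure {g, h}).comap σ⁆ ≤ zpowers w := by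
  obtain ⟨a, ha⟩ := hsurj g
  obtain ⟨b, hb⟩ := hsurj h
  have hw : ⁅a, b⁆ ∈ σ.ker := by
    rw [MonoidHom.mem_ker, map_commutatorElement, ha, hb, commutatorElement_eq_one_iff_commute]
    exact hgh
  refine ⟨⁅a, b⁆, hw, ?_, ?_⟩
  · have hconj : ∀ k : ℕ, a ^ k * b * (a ^ k)⁻¹ = ⁅a, b⁆ ^ k * b := by
      intro k
      induction k with
      | zero => simp
      | succ k ih =>
        calc a ^ (k + 1) * b * (a ^ (k + 1))⁻¹ = a * (a ^ k * b * (a ^ k)⁻¹) * a⁻¹ := by group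
          _ = a * ⁅a, b⁆ ^ k * b * a⁻¹ := by rw [ih]; group
          _ = ⁅a, b⁆ ^ k * (a * b * a⁻¹) := by rw [mem_center_iff.mp (pow_mem (hcen hw) k) a]; group
          _ = _ := by rw [pow_succ]; simp only [commutatorElement_def]; group
    have h3 : a ^ 3 ∈ σ.ker := by rw [MonoidHom.mem_ker, map_pow, ha, hg]
    have := hconj 3
    rw [show a ^ 3 * b = b * a ^ 3 from (mem_center_iff.mp (hcen h3) b).symm, mul_inv_cancel_right] at this
    exact right_eq_mul.mp this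
  · have hle : (closure {g, h}).comap σ ≤ closure ({a, b} ∪ (σ.ker : Set Γ)) := by
      intro x hx
      have himg : σ '' {a, b} = {g, h} := by rw [Set.image_pair, ha, hb]
      rw [mem_comap, ← himg, ← MonoidHom.map_closure] at hx
      obtain ⟨y, hy, e⟩ := hx
      rw [← mul_inv_cancel_left y x]
      refine mul_mem (closure_mono Set.subset_union_left hy) (subset_closure (Or.inr ?_))
      rw [SetLike.mem_coe, MonoidHom.mem_ker, map_mul, map_inv, e, inv_mul_cancel]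
    refine (commutator_mono hle hle).trans (commutator_mem_of_gens (zpowers_le.mpr (hcen hw)) ?_)
    have c1 : ∀ k ∈ σ.ker, ∀ y : Γ, ⁅k, y⁆ = 1 := fun k hk y =>
      commutatorElement_eq_one_iff_commute.mpr (mem_center_iff.mp (hcen hk) y).symm
    have c2 : ∀ k ∈ σ.ker, ∀ y : Γ, ⁅y, k⁆ = 1 := fun k hk y =>
      commutatorElement_eq_one_iff_commute.mpr (mem_center_iff.mp (hcen hk) y)
    intro x hx y hy
    rcases hx with (rfl | rfl) | hx <;> rcases hy with (rfl | rfl) | hy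
    all_goals first
      | (rw [c1 _ hx]; exact one_mem _)
      | (rw [c2 _ hy]; exact one_mem _)
      | (rw [commutatorElement_self]; exact one_mem _)
      | exact mem_zpowers _
      | (rw [← Subgroup.zpowers_inv, commutatorElement_inv]; exact mem_zpowers _)

end Abstract

end CfsgLib.StemSylow.PlaneFour
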