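/-
The kernel of a stem extension of PSL(3, 4) is an image of Z3 × Z4 × Z4.
-/
import Cfsg.Agent.Lib.StemSylow.PlaneFourBound
import Cfsg.Agent.Lib.PermChain.Schur

set_option autoImplicit false
set_option maxRecDepth 30000
set_option linter.unusedSectionVars false
set_option linter.style.haveILetI false

namespace CfsgLib.StemSylow.PlaneFour

open Equiv Subgroup CfsgPC
open scoped commutatorElement

universe u v

attribute [local irreducible] smallChain smallGens golayGens twoCodes threeCodes twoChain threeChain cycCodes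

/-- Commutators between two generated groups stay among elements fixed by both. -/
theorem comm_closures {G : Type v} [Group G] {W : Subgroup G} {s t : Set G}
    (hs : ∀ a ∈ s, ∀ w ∈ W, Commute a w) (ht : ∀ b ∈ t, ∀ w ∈ W, Commute b w)
    (h : ∀ a ∈ s, ∀ b ∈ t, ⁅a, b⁆ ∈ W) {a b : G} (ha : a ∈ closure s) (hb : b ∈ closure t) : ⁅a, b⁆ ∈ W := by
  have hfix : ∀ {r : Set G}, (∀ x ∈ r, ∀ w ∈ W, Commute x w) → ∀ x ∈ closure r, ∀ w ∈ W, Commute x w := by
    intro r hr x hx w hw
    induction hx using closure_induction with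
    | mem x hx => exact hr x hx w hw
    | one => exact Commute.one_left w
    | mul x y _ _ h1 h2 => exact h1.mul_left h2
    | inv x _ h1 => exact h1.inv_left
  have step : ∀ c ∈ t, ∀ x ∈ closure s, ⁅x, c⁆ ∈ W := by
    intro c hc x hx
    induction hx using closure_induction with
    | mem x hx => exact h x hx c hc
    | one => rw [commutatorElement_one_left]; exact one_mem _
    | mul x y hx _ h1 h2 =>
      rw [commutator_expand, (hfix hs x hx _ h2).eq, mul_inv_cancel_right]
      exact mul_mem h2 h1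
    | inv x hx h1 =>
      rw [show ⁅x⁻¹, c⁆ = x⁻¹ * ⁅x, c⁆⁻¹ * x by simp only [commutatorElement_def]; group, mul_assoc,
        ((hfix hs x hx _ (inv_mem h1)).symm).eq, inv_mul_cancel_left]
      exact inv_mem h1
  induction hb using closure_induction with
  | mem c hc => exact step c hc a ha
  | one => rw [commutatorElement_one_right]; exact one_mem _
  | mul x y hx _ h1 h2 =>
    rw [commutator_expand', (hfix ht x hx _ h2).eq, mul_inv_cancel_right]
    exact mul_mem h1 h2
  | inv x hx h1 =>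
    rw [show ⁅a, x⁻¹⁆ = x⁻¹ * ⁅a, x⁆⁻¹ * x by simp only [commutatorElement_def]; group, mul_assoc,
      ((hfix ht x hx _ (inv_mem h1)).symm).eq, inv_mul_cancel_left]
    exact inv_mem h1

/-- A generated group of commuting involutions. -/
theorem elementary_closure {G : Type v} [Group G] {s : Set G} (hc : ∀ a ∈ s, ∀ b ∈ s, Commute a b)
    (h2 : ∀ a ∈ s, a * a = 1) :
    (∀ x ∈ closure s, ∀ y ∈ closure s, Commute x y) ∧ ∀ x ∈ closure s, x * x = 1 := by
  have hcc : ∀ x ∈ closure s, ∀ y ∈ closure s, Commute x y := by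
    intro x hx y hy
    induction hx, hy using closure_induction₂ with
    | mem a b ha hb => exact hc a ha b hb
    | one_left x _ => exact Commute.one_left x
    | one_right x _ => exact Commute.one_right x
    | mul_left x y z _ _ _ h1 h2 => exact h1.mul_left h2
    | mul_right y z x _ _ _ h1 h2 => exact h1.mul_right h2
    | inv_left x y _ _ h => exact h.inv_left
    | inv_right x y _ _ h => exact h.inv_right
  refine ⟨hcc, fun x hx => ?_⟩
  induction hx using closure_induction with
  | mem a ha => exact h2 a ha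
  | one => exact one_mul 1
  | mul a b ha hb e1 e2 => rw [(hcc b hb a ha).mul_mul_mul_comm, e1, e2, one_mul]
  | inv a _ e => rw [← mul_inv_rev, e, inv_one]

/-- A small subgroup given by codes with a closed table. -/
theorem sub_spec {cs : List (ℕ × ℕ)} {ls : List Level} {lens : List ℕ} {N : ℕ}
    (hm : memOK 24 smallChain cs = true)
    (hs : shapeOK 24 ls (cs.map Prod.fst) = true ∧ (ls.map fun L => L.tr.length) = lens ∧ sizeOfChain ls = N ∧
      ((gensAt 24 ls (cs.map Prod.fst) lens.length).all fun c => (List.range 24).all fun i => Nat.beq (ap c i) i) = true)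
    (he : ∀ j < lens.length, entriesOK 24 ls (cs.map Prod.fst) j 0 (lens.getD j 0) = true)
    (hcl : ∀ j < lens.length, closedOK 24 ls (cs.map Prod.fst) j 0 (lens.getD j 0) = true) :
    ∃ e : ℕ → SmallPlane, (∀ k < cs.length, Rep 24 (cs.getD k (0, 0)).1 (e k : Perm (Fin 24))) ∧
      Nat.card (closure (e '' {k | k < cs.length})) = N := by
  classical
  obtain ⟨hv, hT, -⟩ := plane_model
  obtain ⟨hsh, hlens, hsz, hlast⟩ := hs
  have hm' : ∀ k, ∃ g : SmallPlane, k < cs.length → Rep 24 (cs.getD k (0, 0)).1 (g : Perm (Fin 24)) := by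
    intro k
    by_cases hk : k < cs.length
    · have h := List.all_eq_true.mp hm _ (List.getElem_mem hk)
      rw [Bool.and_eq_true] at h
      refine ⟨⟨_, mem_of_sift (by norm_num) hT hv _ _ (decP_rep h.1) h.2⟩, fun _ => ?_⟩
      rw [List.getD_eq_getElem _ _ hk]
      exact decP_rep h.1
    · exact ⟨1, fun h => absurd h hk⟩
  choose e he' using hm'
  refine ⟨e, he', ?_⟩
  have hvs : Valid 24 (cs.map Prod.fst) := fun c hc => by
    obtain ⟨k, hk, rfl⟩ := List.getElem_of_mem hc
    rw [List.length_map] at hk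
    refine ⟨e k, ?_⟩
    rw [List.getElem_map, ← List.getD_eq_getElem (d := (0, 0)) _ hk]
    exact he' k hk
  have hl : ls.length = lens.length := by rw [← hlens, List.length_map]
  have hb : ∀ j < ls.length, ∀ k < (ls.getD j ⟨0, [], [], []⟩).tr.length, k < lens.getD j 0 := fun j hj k hk => by
    rw [← hlens, List.getD_eq_getElem _ _ (by simpa using hj), List.getElem_map]
    rwa [List.getD_eq_getElem _ _ hj] at hk
  have hTs : TableOK 24 ls (cs.map Prod.fst) := tableOK_of_checks hsh fun j hj k hk =>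
    of_entriesOK (he j (hl ▸ hj)) (Nat.zero_le _) (hb j hj k hk)
  have hp := table_closed (by norm_num) hTs hvs
    (fun j hj k hk => of_closedOK (hcl j (hl ▸ hj)) (Nat.zero_le _) (hb j hj k hk))
    (fun c hc i hi => by
      rw [hl] at hc
      exact Nat.eq_of_beq_eq_true (List.all_eq_true.mp (List.all_eq_true.mp hlast c hc) i (List.mem_range.mpr hi)))
  have himg : (closure (e '' {k | k < cs.length})).map (genG 24 (smallGens.map Prod.fst)).subtype =
      genG 24 (cs.map Prod.fst) := by
    rw [MonoidHom.map_closure]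
    show Subgroup.closure _ = Subgroup.closure _
    congr 1
    ext g
    constructor
    · rintro ⟨_, ⟨k, hk, rfl⟩, rfl⟩
      exact ⟨_, List.mem_map.mpr ⟨_, List.getElem_mem hk, rfl⟩, by rw [← List.getD_eq_getElem _ (0, 0) hk]; exact he' k hk⟩
    · rintro ⟨c, hc, hg⟩
      obtain ⟨k, hk, rfl⟩ := List.getElem_of_mem hc
      rw [List.length_map] at hk
      refine ⟨e k, ⟨k, hk, rfl⟩, ?_⟩
      refine (he' k hk).unique ?_
      rw [List.getD_eq_getElem _ _ hk]
      simpa only [List.getElem_map] using hg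
  rw [← card_map_of_injective (K := closure (e '' {k | k < cs.length})) (genG 24 (smallGens.map Prod.fst)).subtype_injective,
    himg, ← hsz, ← (table_products (by norm_num) hTs hvs).2, hp, ← Nat.card_coe_set_eq]
  rfl

/-- Products of listed elements act by their codes. -/
theorem prod_of_img {cs : List (ℕ × ℕ)} {e : ℕ → SmallPlane}
    (he : ∀ k < cs.length, Rep 24 (cs.getD k (0, 0)).1 (e k : Perm (Fin 24))) {ks ls : List ℕ}
    (hks : ∀ k ∈ ks, k < cs.length) (hls : ∀ k ∈ ls, k < cs.length)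
    (h : img (ks.map fun k => (cs.getD k (0, 0)).1) = img (ls.map fun k => (cs.getD k (0, 0)).1)) :
    (ks.map e).prod = (ls.map e).prod := by
  have key : ∀ ks : List ℕ, (∀ k ∈ ks, k < cs.length) → ∀ i : Fin 24,
      List.foldr ap i (ks.map fun k => (cs.getD k (0, 0)).1) = (((ks.map e).prod : SmallPlane) : Perm (Fin 24)) i := by
    intro ks
    induction ks with
    | nil => intro _ i; rfl
    | cons k ks ih =>
      intro hk i
      rw [List.map_cons, List.map_cons, List.prod_cons, List.foldr_cons, ih (fun x hx => hk x (List.mem_cons_of_mem _ hx)),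
        he k (hk k (List.mem_cons_self ..)), Subgroup.coe_mul, Perm.mul_apply]
  refine Subtype.ext (Equiv.ext fun i => Fin.ext ?_)
  have h' := congrArg (fun l : List ℕ => l.getD i 0) h
  simp only [img] at h'
  rw [List.getD_eq_getElem _ _ (by simp), List.getD_eq_getElem _ _ (by simp)] at h'
  simp only [List.getElem_map, List.getElem_range] at h'
  rw [← key ks hks i, ← key ls hls i, h']

/-- The transfer into a preimage lands in its derived group. -/
theorem pow_index_derived {G : Type v} [Group G] {Γ : Type u} [Group Γ] [Finite Γ] {σ : Γ →* G}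
    (hσ : Cfsg.IsStemExtension σ) (P : Subgroup G) {z : Γ} (hz : z ∈ σ.ker) :
    z ^ P.index ∈ ⁅P.comap σ, P.comap σ⁆ := by
  obtain ⟨h, hm⟩ := StSL.pow_index_mem hσ P hz
  have := mem_map_of_mem (P.comap σ).subtype hm
  rwa [_root_.commutator_def, map_commutator, ← MonoidHom.range_eq_map, range_subtype] at this

/-- An exponent two group of order at most four has two generators. -/
theorem two_generated {K : Type u} [Group K] [Finite K] (h2 : ∀ a : K, a * a = 1) (h4 : Nat.card K ≤ 4) :
    ∃ a b : K, closure {a, b} = ⊤ := by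
  by_cases h1 : ∀ x : K, x = 1
  · exact ⟨1, 1, eq_top_iff.mpr fun x _ => by rw [h1 x]; exact one_mem _⟩
  push Not at h1
  obtain ⟨a, ha⟩ := h1
  by_cases hb : ∀ x : K, x ∈ zpowers a
  · exact ⟨a, a, eq_top_iff.mpr fun x _ => by rw [Set.pair_eq_singleton, ← zpowers_eq_closure]; exact hb x⟩
  push Not at hb
  obtain ⟨b, hb⟩ := hb
  refine ⟨a, b, eq_top_of_le_card _ (h4.trans ?_)⟩
  have hle : zpowers a ≤ closure {a, b} := zpowers_le.mpr (subset_closure (by simp))
  have hd := card_dvd_of_le hle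
  have hlt : Nat.card (zpowers a) < Nat.card (closure {a, b}) := by
    show Nat.card (zpowers a : Set K) < Nat.card (closure {a, b} : Set K)
    rw [Nat.card_coe_set_eq, Nat.card_coe_set_eq]
    refine Set.ncard_lt_ncard ?_ (Set.toFinite _)
    exact Set.ssubset_iff_subset_ne.mpr ⟨hle, fun e => hb (SetLike.mem_coe.mp (by rw [e]; exact subset_closure (by simp)))⟩
  rw [Nat.card_zpowers, orderOf_eq_prime (by rw [sq, h2]) ha] at hd hlt
  obtain ⟨m, hm⟩ := hd
  omega

theorem ker_small {Γ : Type u} [Group Γ] [Finite Γ] {σ : Γ →* SmallPlane} (hσ : Cfsg.IsStemExtension σ) :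
    ∃ w u v : Γ, w ∈ σ.ker ∧ u ∈ σ.ker ∧ v ∈ σ.ker ∧ w ^ 3 = 1 ∧ u ^ 4 = 1 ∧ v ^ 4 = 1 ∧
      σ.ker ≤ closure {w, u, v} := by
  classical
  obtain ⟨hvS, hTS, -, hcard, ⟨iso⟩⟩ := plane_model
  -- the group of order sixty-four
  obtain ⟨hm2, hl2⟩ := two_mem
  obtain ⟨e, he, hP⟩ := sub_spec hm2 shapetwoChain
    (fun j hj => by
      simp only [List.length_cons, List.length_nil] at hj
      interval_cases j
      exacts [entriestwoChain0, entriestwoChain1])
    (fun j hj => by
      simp only [List.length_cons, List.length_nil] at hj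
      interval_cases j
      exacts [closedtwoChain0, closedtwoChain1])
  rw [hl2] at hP
  have hsq : ∀ k < 6, e k * e k = 1 := fun k hk => by
    have h := prod_of_img he (ks := [k, k]) (ls := []) (by simp [hl2, hk]) (by simp)
      (of_decide_eq_true (List.all_eq_true.mp two_sq k (List.mem_range.mpr hk)))
    simpa using h
  have hcm : ∀ p ∈ [(0, 1), (0, 4), (0, 5), (1, 4), (1, 5), (2, 3), (2, 4), (2, 5), (3, 4), (3, 5), (4, 5)],
      p.1 < 6 → p.2 < 6 → Commute (e p.1) (e p.2) := fun p hp h1 h2 => by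
    have h := prod_of_img he (ks := [p.1, p.2]) (ls := [p.2, p.1]) (by simp [hl2, h1, h2]) (by simp [hl2, h1, h2])
      (of_decide_eq_true (List.all_eq_true.mp two_comm p hp))
    simpa [Commute, SemiconjBy] using h
  have hcm' : ∀ i j : ℕ, i < 6 → j < 6 → ((i, j) ∈ [(0, 1), (0, 4), (0, 5), (1, 4), (1, 5), (2, 3), (2, 4), (2, 5), (3, 4), (3, 5), (4, 5)] ∨
      (j, i) ∈ [(0, 1), (0, 4), (0, 5), (1, 4), (1, 5), (2, 3), (2, 4), (2, 5), (3, 4), (3, 5), (4, 5)] ∨ i = j) → Commute (e i) (e j) := by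
    intro i j hi hj h
    rcases h with h | h | rfl
    exacts [hcm _ h hi hj, (hcm _ h hj hi).symm, Commute.refl _]
  let E1 : Subgroup SmallPlane := closure (e '' {0, 1, 4, 5})
  let E2 : Subgroup SmallPlane := closure (e '' {2, 3, 4, 5})
  let W : Subgroup SmallPlane := closure (e '' {4, 5})
  have hW : W ≤ E1 ⊓ E2 := le_inf (closure_mono (Set.image_mono (by intro x; simp; tauto)))
    (closure_mono (Set.image_mono (by intro x; simp; tauto)))
  have hsup : E1 ⊔ E2 = closure (e '' {k | k < 6}) := by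
    rw [← Subgroup.closure_union, ← Set.image_union]
    congr 2
    ext k
    simp only [Set.mem_union, Set.mem_insert_iff, Set.mem_singleton_iff, Set.mem_setOf_eq]
    omega
  have el1 := elementary_closure (s := e '' {0, 1, 4, 5})
    (by
      rintro _ ⟨i, hi, rfl⟩ _ ⟨j, hj, rfl⟩
      rcases hi with rfl | rfl | rfl | rfl <;> rcases hj with rfl | rfl | rfl | rfl
      all_goals exact hcm' _ _ (by norm_num) (by norm_num) (by simp))
    (by rintro _ ⟨i, hi, rfl⟩; rcases hi with rfl | rfl | rfl | rfl <;> exact hsq _ (by norm_num))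
  have el2 := elementary_closure (s := e '' {2, 3, 4, 5})
    (by
      rintro _ ⟨i, hi, rfl⟩ _ ⟨j, hj, rfl⟩
      rcases hi with rfl | rfl | rfl | rfl <;> rcases hj with rfl | rfl | rfl | rfl
      all_goals exact hcm' _ _ (by norm_num) (by norm_num) (by simp))
    (by rintro _ ⟨i, hi, rfl⟩; rcases hi with rfl | rfl | rfl | rfl <;> exact hsq _ (by norm_num))
  have h12 : ∀ a ∈ E1, ∀ b ∈ E2, ⁅a, b⁆ ∈ E1 ⊓ E2 := fun a ha b hb => hW <| comm_closures
    (fun x hx w hw => el1.1 x (subset_closure hx) w (hW hw).1) (fun x hx w hw => el2.1 x (subset_closure hx) w (hW hw).2)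
    (by
      rintro _ ⟨i, hi, rfl⟩ _ ⟨j, hj, rfl⟩
      have hij : i < 6 ∧ j < 6 := by
        rcases hi with rfl | rfl | rfl | rfl <;> rcases hj with rfl | rfl | rfl | rfl <;> norm_num
      by_cases hc : Commute (e i) (e j)
      · rw [commutatorElement_eq_one_iff_commute.mpr hc]; exact one_mem _
      have hmem : (i, j) ∈ [(0, 2), (0, 3), (1, 2), (1, 3)] := by
        have hn := fun h => hc (hcm' i j hij.1 hij.2 h)
        revert hn
        rcases hi with rfl | rfl | rfl | rfl <;> rcases hj with rfl | rfl | rfl | rfl <;> simp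
      obtain ⟨w, hw, hd⟩ := List.any_eq_true.mp (List.all_eq_true.mp two_cross _ hmem)
      have hw' : ∀ k ∈ w, k = 4 ∨ k = 5 := by
        simp only [List.mem_cons, List.not_mem_nil, or_false] at hw
        rcases hw with rfl | rfl | rfl | rfl <;> simp
      have h := prod_of_img he (ks := [i, j]) (ls := w ++ [j, i]) (by simp [hl2, hij.1, hij.2])
        (by
          intro k hk
          rw [hl2]
          simp only [List.mem_append, List.mem_cons, List.not_mem_nil, or_false] at hk
          rcases hk with hk | rfl | rfl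
          exacts [by rcases hw' k hk with rfl | rfl <;> norm_num, hij.2, hij.1])
        (by rw [List.map_append]; exact of_decide_eq_true hd)
      simp only [List.map_append, List.map_cons, List.map_nil, List.prod_append, List.prod_cons, List.prod_nil,
        mul_one] at h
      rw [commutatorElement_def, h]
      rw [show (w.map e).prod * (e j * e i) * (e i)⁻¹ * (e j)⁻¹ = (w.map e).prod by group]
      refine list_prod_mem fun x hx => ?_
      obtain ⟨k, hk, rfl⟩ := List.mem_map.mp hx
      exact subset_closure ⟨k, by simpa using hw' k hk, rfl⟩) ha hb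
  have hi2 : (E1 ⊔ E2).index = 315 := by
    have h := (E1 ⊔ E2).card_mul_index
    rw [hcard, show Nat.card ↥(E1 ⊔ E2) = 64 by rw [hsup]; exact hP] at h
    omega
  -- the group of order nine
  obtain ⟨hm3, hl3⟩ := three_mem
  obtain ⟨t, ht, hQ⟩ := sub_spec hm3 shapethreeChain
    (fun j hj => by
      simp only [List.length_cons, List.length_nil] at hj
      interval_cases j
      exacts [entriesthreeChain0, entriesthreeChain1])
    (fun j hj => by
      simp only [List.length_cons, List.length_nil] at hj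
      interval_cases j
      exacts [closedthreeChain0, closedthreeChain1])
  rw [hl3] at hQ
  have g3 : t 0 ^ 3 = 1 := by
    have h := prod_of_img ht (ks := [0, 0, 0]) (ls := []) (by simp [hl3]) (by simp) three_ok.1
    rw [pow_three]; simpa using h
  have gh : Commute (t 0) (t 1) := by
    have h := prod_of_img ht (ks := [0, 1]) (ls := [1, 0]) (by simp [hl3]) (by simp [hl3]) three_ok.2.2
    simpa [Commute, SemiconjBy] using h
  have hQ' : Nat.card (closure {t 0, t 1}) = 9 := by
    rw [← hQ, show t '' {k | k < 2} = {t 0, t 1} from ?_]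
    ext x
    constructor
    · rintro ⟨k, hk, rfl⟩
      rcases (show k = 0 ∨ k = 1 by simp at hk; omega) with rfl | rfl <;> simp
    · rintro (rfl | rfl) <;> exact ⟨_, by simp, rfl⟩
  have hi3 : (closure {t 0, t 1}).index = 2240 := by
    have h := (closure {t 0, t 1}).card_mul_index
    rw [hcard, hQ'] at h
    omega
  obtain ⟨w, hwk, hw3, hwle⟩ := derived_three hσ.1 hσ.2.1 gh g3
  have hA : ∀ z ∈ σ.ker, (z ^ 315) ^ 4 = 1 := fun z hz =>
    derived_pow_four hσ.1 hσ.2.1 el1.1 el2.1 el1.2 el2.2 h12 (hi2 ▸ pow_index_derived hσ _ hz)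
  have hB : ∀ z ∈ σ.ker, z ^ 2240 ∈ zpowers w := fun z hz => hwle (hi3 ▸ pow_index_derived hσ _ hz)
  -- exponent twelve
  obtain ⟨hall, hmap⟩ := cyc_ok
  have kc : ∀ p ∈ [5, 7], ∀ x ∈ σ.ker, x ^ p = 1 → x = 1 := fun p hp x hx hxp => by
    rw [← hmap] at hp
    obtain ⟨d, hd, rfl⟩ := List.mem_map.mp hp
    have hd5 : d.1 = 5 ∨ d.1 = 7 := by
      have : d.1 ∈ cycCodes.map Prod.fst := List.mem_map_of_mem hd
      simpa [hmap] using this
    have h' := List.all_eq_true.mp hall d hd
    simp only [Bool.and_eq_true, Bool.not_eq_true', List.all_eq_true, List.mem_range] at h'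
    obtain ⟨⟨⟨hp', hs⟩, hpow⟩, hne⟩ := h'
    have hr := decP_rep hp'
    let g : SmallPlane := ⟨_, mem_of_sift (by norm_num) hTS hvS _ _ hr hs⟩
    refine no_torsion_cyclic (by rcases hd5 with e | e <;> rw [e] <;> norm_num) (g := g)
      (Subtype.ext (Equiv.ext fun i => Fin.ext ?_)) (fun e' => ?_) ?_ hσ hx hxp
    · rw [SubgroupClass.coe_pow, ← rep_apN hr, Nat.eq_of_beq_eq_true (hpow i i.2)]
      rfl
    · have e'' : decP 24 d.2.1 = 1 := congrArg Subtype.val e'
      rw [← Bool.not_eq_true, List.all_eq_true] at hne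
      refine hne fun i hi => ?_
      have := hr ⟨i, List.mem_range.mp hi⟩
      rw [e''] at this
      rw [show ap d.2.1 i = i from this, Nat.beq_refl]
    · rw [hcard]; rcases hd5 with e | e <;> rw [e] <;> norm_num
  have kill : ∀ p ∈ [5, 7], ∀ m : ℕ, ∀ z ∈ σ.ker, z ^ (p * m) = 1 → z ^ m = 1 := fun p hp m z hz h' =>
    kc p hp _ (pow_mem hz m) (by rw [← pow_mul, mul_comm]; exact h')
  have h12' : ∀ z ∈ σ.ker, z ^ 12 = 1 := fun z hz => by
    have a1 : z ^ 1260 = 1 := by rw [show 1260 = 315 * 4 from rfl, pow_mul]; exact hA z hz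
    have a2 : z ^ 6720 = 1 := by
      obtain ⟨k, hk⟩ := mem_zpowers_iff.mp (hB z hz)
      rw [show 6720 = 2240 * 3 from rfl, pow_mul, ← hk, ← zpow_natCast, ← zpow_mul, mul_comm, zpow_mul,
        show w ^ ((3 : ℕ) : ℤ) = 1 by rw [zpow_natCast]; exact hw3, one_zpow]
    have := pow_gcd_eq_one.mpr ⟨a1, a2⟩
    rw [show Nat.gcd 1260 6720 = 7 * (5 * 12) by norm_num] at this
    exact kill 5 (by simp) 12 z hz (kill 7 (by simp) _ z hz this)
  have hthree : ∀ z ∈ σ.ker, z ^ 4 ∈ zpowers w := fun z hz => by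
    have h := pow_mem (hB z hz) 2
    rwa [← pow_mul, show 2240 * 2 = 4 + 12 * 373 from rfl, pow_add, pow_mul z 12, h12' z hz, one_pow, mul_one] at h
  -- two generators modulo squares
  let S : Subgroup Γ :=
    { carrier := {x | ∃ y ∈ σ.ker, y ^ 2 = x}
      one_mem' := ⟨1, one_mem _, one_pow 2⟩
      mul_mem' := by
        rintro _ _ ⟨a, ha, rfl⟩ ⟨b, hb, rfl⟩
        exact ⟨a * b, mul_mem ha hb, (show Commute a b from mem_center_iff.mp (hσ.2.1 hb) a).mul_pow 2⟩
      inv_mem' := by
        rintro _ ⟨a, ha, rfl⟩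
        exact ⟨a⁻¹, inv_mem ha, inv_pow a 2⟩ }
  have hSk : S ≤ σ.ker := by rintro _ ⟨a, ha, rfl⟩; exact pow_mem ha 2
  haveI : S.Normal := ⟨fun x hx g => by
    rw [mem_center_iff.mp (hσ.2.1 (hSk hx)) g, mul_inv_cancel_right]; exact hx⟩
  let τ := QuotientGroup.lift S σ hSk
  have hmk : ∀ x, τ (QuotientGroup.mk' S x) = σ x := fun x => QuotientGroup.lift_mk' S hSk x
  let τ' := iso.symm.toMonoidHom.comp τ
  have hker : ∀ d, d ∈ τ'.ker ↔ ∃ x ∈ σ.ker, QuotientGroup.mk' S x = d := fun d => by
    obtain ⟨x, rfl⟩ := QuotientGroup.mk'_surjective S d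
    rw [MonoidHom.mem_ker, MonoidHom.comp_apply]
    constructor
    · intro h
      have := iso.symm.injective (h.trans (map_one iso.symm).symm)
      exact ⟨x, by rwa [MonoidHom.mem_ker, ← hmk], rfl⟩
    · rintro ⟨y, hy, hxy⟩
      rw [← hxy, hmk, MonoidHom.mem_ker.mp hy]
      exact map_one _
  have hst : Cfsg.IsStemExtension τ' := by
    refine ⟨iso.symm.surjective.comp fun y => ?_, fun d hd => ?_, fun d hd => ?_⟩
    · obtain ⟨x, rfl⟩ := hσ.1 y
      exact ⟨QuotientGroup.mk' S x, hmk x⟩
    · obtain ⟨x, hx, rfl⟩ := (hker d).mp hd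
      rw [mem_center_iff]
      intro g
      obtain ⟨g, rfl⟩ := QuotientGroup.mk'_surjective S g
      rw [← map_mul, ← map_mul, mem_center_iff.mp (hσ.2.1 hx) g]
    · obtain ⟨x, hx, rfl⟩ := (hker d).mp hd
      have hm := mem_map_of_mem (QuotientGroup.mk' S) (hσ.2.2 hx)
      rw [_root_.commutator_def, map_commutator, map_top_of_surjective _ (QuotientGroup.mk'_surjective S)] at hm
      exact hm
  have hexp : ∀ d ∈ τ'.ker, d * d = 1 := fun d hd => by
    obtain ⟨x, hx, rfl⟩ := (hker d).mp hd
    rw [← map_mul, ← sq, QuotientGroup.mk'_apply, QuotientGroup.eq_one_iff]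
    exact ⟨x, hx, rfl⟩
  obtain ⟨a, b, hab⟩ := two_generated (K := τ'.ker) (fun d => Subtype.ext (hexp _ d.2))
    (PlaneCover.card_ker_le hst hexp)
  obtain ⟨p, hp, hpa⟩ := (hker _).mp a.2
  obtain ⟨q, hq, hqb⟩ := (hker _).mp b.2
  refine ⟨w, p ^ 3, q ^ 3, hwk, pow_mem hp 3, pow_mem hq 3, hw3, by rw [← pow_mul]; exact h12' p hp,
    by rw [← pow_mul]; exact h12' q hq, ?_⟩
  set M := closure ({w, p ^ 3, q ^ 3} : Set Γ) with hM
  have hwM : zpowers w ≤ M := zpowers_le.mpr (subset_closure (by simp))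
  have back : ∀ x ∈ σ.ker, x ^ 3 ∈ M → x ∈ M := fun x hx h => by
    rw [show x = x ^ 4 * (x ^ 3)⁻¹ by group]
    exact mul_mem (hwM (hthree x hx)) (inv_mem h)
  have hpq : closure {p, q} ≤ M := (closure_le _).mpr (by
    rintro x (rfl | rfl)
    exacts [back _ hp (subset_closure (by simp)), back _ hq (subset_closure (by simp))])
  have hpqk : closure {p, q} ≤ σ.ker := (closure_le _).mpr (by rintro x (rfl | rfl); exacts [hp, hq])
  have mod2 : ∀ x ∈ σ.ker, ∃ m ∈ M, m ∈ σ.ker ∧ ∃ y ∈ σ.ker, x = m * y ^ 2 := by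
    intro x hx
    have hx' : (⟨QuotientGroup.mk' S x, (hker _).mpr ⟨x, hx, rfl⟩⟩ : τ'.ker) ∈ closure {a, b} := hab ▸ mem_top _
    have h := mem_map_of_mem τ'.ker.subtype hx'
    rw [MonoidHom.map_closure, Set.image_pair, coe_subtype, ← hpa, ← hqb, ← Set.image_pair, ← MonoidHom.map_closure] at h
    obtain ⟨m, hm, hmx⟩ := h
    obtain ⟨y, hy, hye⟩ : m⁻¹ * x ∈ S := by
      rw [← QuotientGroup.eq_one_iff, ← QuotientGroup.mk'_apply, map_mul, map_inv, hmx]
      exact inv_mul_cancel _
    exact ⟨m, hpq hm, hpqk hm, y, hy, by rw [hye, mul_inv_cancel_left]⟩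
  intro x hx
  obtain ⟨m, hm, -, y, hy, rfl⟩ := mod2 x hx
  obtain ⟨m', hm', hk', y', hy', rfl⟩ := mod2 y hy
  refine mul_mem hm ?_
  rw [(show Commute m' (y' ^ 2) from mem_center_iff.mp (hσ.2.1 (pow_mem hy' 2)) m').mul_pow, ← pow_mul]
  exact mul_mem (pow_mem hm' 2) (hwM (hthree y' hy'))

end CfsgLib.StemSylow.PlaneFour
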