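/-
The multiplier of PSL(3, 4) is Z3 × Z4 × Z4.
-/
import Cfsg.Agent.Lib.StemSylow.PlaneFourKernel

set_option autoImplicit false
set_option maxRecDepth 30000
set_option linter.unusedSectionVars false
set_option linter.style.haveILetI false

namespace CfsgLib.StemSylow.PlaneFour

open Equiv Subgroup CfsgPC
open scoped commutatorElement

universe u v

attribute [local irreducible] smallChain smallGens coverChainA coverChainB coverGensA coverGensB zCode commCodesA commCodesB

/-- The first 24 points. -/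
def lo (i : Fin 24) : Fin 248 := ⟨i, by omega⟩

theorem lo_injective : Function.Injective lo := fun a b h => Fin.ext (by simpa [lo] using congrArg Fin.val h)

/-- A fourfold cover on 248 points. -/
theorem cover_spec (gens : List (ℕ × ℕ)) (ls : List Level)
    (hperm : (gens.all fun c => isPerm 248 c.1 c.2) = true ∧ gens.length = 2)
    (hproj : ((List.range 2).all fun a => (List.range 24).all fun i =>
      Nat.beq (ap (gens.getD a (0, 0)).1 i) (ap (smallGens.getD a (0, 0)).1 i)) = true)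
    (hzs : sift 248 ls zCode.1 = true ∧ ((List.range 248).all fun i => (gens.map Prod.fst).all fun g =>
      Nat.beq (ap g (ap zCode.1 i)) (ap zCode.1 (ap g i))) = true)
    (hs : shapeOK 248 ls (gens.map Prod.fst) = true ∧ (ls.map fun L => L.tr.length) = [21, 20, 16, 3, 4] ∧
      sizeOfChain ls = 80640 ∧
      ((gensAt 248 ls (gens.map Prod.fst) 5).all fun c => (List.range 248).all fun i => Nat.beq (ap c i) i) = true)
    (he : ∀ j < 5, entriesOK 248 ls (gens.map Prod.fst) j 0 ([21, 20, 16, 3, 4].getD j 0) = true)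
    (hcl : ∀ j < 5, closedOK 248 ls (gens.map Prod.fst) j 0 ([21, 20, 16, 3, 4].getD j 0) = true) :
    TableOK 248 ls (gens.map Prod.fst) ∧ Valid 248 (gens.map Prod.fst) ∧
    ∃ (π : ↥(genG 248 (gens.map Prod.fst)) →* SmallPlane) (z : ↥(genG 248 (gens.map Prod.fst))),
      Function.Surjective π ∧ Rep 248 zCode.1 (z : Perm (Fin 248)) ∧ π.ker ≤ Subgroup.center _ ∧
      π.ker = zpowers z ∧ orderOf z = 4 ∧
      ∀ (g : ↥(genG 248 (gens.map Prod.fst))) i, (g : Perm (Fin 248)) (lo i) = lo ((π g : Perm (Fin 24)) i) := by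
  classical
  obtain ⟨hvS, -, -, hcardS, -⟩ := plane_model
  have hv : Valid 248 (gens.map Prod.fst) := fun c hc => by
    obtain ⟨d, hd, rfl⟩ := List.mem_map.mp hc
    exact ⟨_, decP_rep (List.all_eq_true.mp hperm.1 d hd)⟩
  obtain ⟨hsh, hlens, hsz, hlast⟩ := hs
  have hl : ls.length = 5 := by simpa using congrArg List.length hlens
  have hb : ∀ j < ls.length, ∀ k < (ls.getD j ⟨0, [], [], []⟩).tr.length, k < [21, 20, 16, 3, 4].getD j 0 :=
    fun j hj k hk => by
      rw [← hlens, List.getD_eq_getElem _ _ (by simpa using hj), List.getElem_map]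
      rwa [List.getD_eq_getElem _ _ hj] at hk
  have hT : TableOK 248 ls (gens.map Prod.fst) := tableOK_of_checks hsh fun j hj k hk =>
    of_entriesOK (he j (hl ▸ hj)) (Nat.zero_le _) (hb j hj k hk)
  have hcard : Nat.card (genG 248 (gens.map Prod.fst)) = 80640 := by
    have hp := table_closed (by norm_num) hT hv
      (fun j hj k hk => of_closedOK (hcl j (hl ▸ hj)) (Nat.zero_le _) (hb j hj k hk))
      (fun c hc i hi => by
        rw [hl] at hc
        exact Nat.eq_of_beq_eq_true (List.all_eq_true.mp (List.all_eq_true.mp hlast c hc) i (List.mem_range.mpr hi)))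
    rw [← hsz, ← (table_products (by norm_num) hT hv).2, hp, ← Nat.card_coe_set_eq]
    rfl
  have hsl : smallGens.length = 2 := small_perm.2.1
  have ovr : ∀ {a : ℕ}, a < 2 → ∀ {g : Perm (Fin 248)}, Rep 248 (gens.getD a (0, 0)).1 g →
      ∃ x : SmallPlane, Rep 24 (smallGens.getD a (0, 0)).1 (x : Perm (Fin 24)) ∧
        ∀ i, g (lo i) = lo ((x : Perm (Fin 24)) i) := by
    intro a ha g hg
    have ha' : a < smallGens.length := hsl.symm ▸ ha
    have hm : smallGens[a].1 ∈ smallGens.map Prod.fst := List.mem_map.mpr ⟨_, List.getElem_mem ha', rfl⟩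
    obtain ⟨x, hx⟩ := hvS _ hm
    refine ⟨⟨x, Valid.mem hm hx⟩, by rw [List.getD_eq_getElem _ _ ha']; exact hx, fun i => Fin.ext ?_⟩
    have := Nat.eq_of_beq_eq_true
      (List.all_eq_true.mp (List.all_eq_true.mp hproj a (List.mem_range.mpr ha)) i (List.mem_range.mpr i.2))
    rw [List.getD_eq_getElem (l := smallGens) _ ha', hx i] at this
    rw [← hg (lo i)]
    exact this
  have hex : ∀ g : ↥(genG 248 (gens.map Prod.fst)),
      ∃ x : SmallPlane, ∀ i, (g : Perm (Fin 248)) (lo i) = lo ((x : Perm (Fin 24)) i) := by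
    rintro ⟨g, hg⟩
    induction hg using closure_induction with
    | mem g hg =>
      obtain ⟨c, hc, hgr⟩ := hg
      obtain ⟨a, ha, rfl⟩ := List.getElem_of_mem hc
      rw [List.length_map] at ha
      rw [List.getElem_map, ← List.getD_eq_getElem (d := (0, 0)) _ ha] at hgr
      obtain ⟨x, -, hx⟩ := ovr (hperm.2 ▸ ha) hgr
      exact ⟨x, hx⟩
    | one => exact ⟨1, fun i => rfl⟩
    | mul a b _ _ ha hb =>
      obtain ⟨x, hx⟩ := ha
      obtain ⟨y, hy⟩ := hb
      exact ⟨x * y, fun i => by simp [Perm.mul_apply, hx, hy]⟩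
    | inv a _ ha =>
      obtain ⟨x, hx⟩ := ha
      refine ⟨x⁻¹, fun i => ?_⟩
      show a⁻¹ (lo i) = _
      rw [Perm.inv_eq_iff_eq, hx]
      simp
  let π : ↥(genG 248 (gens.map Prod.fst)) →* SmallPlane :=
    MonoidHom.mk' (fun g => (hex g).choose) fun g k => Subtype.ext (Equiv.ext fun i => lo_injective (by
      rw [← (hex (g * k)).choose_spec i, Subgroup.coe_mul, Subgroup.coe_mul, Perm.mul_apply, Perm.mul_apply,
        (hex k).choose_spec i, (hex g).choose_spec]))
  have happ : ∀ (g : ↥(genG 248 (gens.map Prod.fst))) i,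
      (g : Perm (Fin 248)) (lo i) = lo ((π g : Perm (Fin 24)) i) := fun g => (hex g).choose_spec
  have hsurj : Function.Surjective π := by
    rintro ⟨x, hx⟩
    suffices hs : x ∈ π.range.map (genG 24 (smallGens.map Prod.fst)).subtype by
      obtain ⟨-, ⟨g, rfl⟩, e⟩ := hs
      exact ⟨g, Subtype.ext e⟩
    refine closure_le _ |>.mpr ?_ hx
    rintro x ⟨c, hc, hx⟩
    obtain ⟨a, ha, rfl⟩ := List.getElem_of_mem hc
    rw [List.length_map] at ha
    rw [List.getElem_map, ← List.getD_eq_getElem (d := (0, 0)) _ ha] at hx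
    have ha3 : a < gens.length := by rw [hperm.2, ← hsl]; exact ha
    have hgr := decP_rep (List.all_eq_true.mp hperm.1 _ (List.getElem_mem ha3))
    obtain ⟨y, hy, hiy⟩ := ovr (hsl ▸ ha) (g := decP 248 gens[a].1) (by rwa [List.getD_eq_getElem _ _ ha3])
    refine ⟨π ⟨_, Valid.mem (List.mem_map.mpr ⟨_, List.getElem_mem ha3, rfl⟩) hgr⟩, ⟨_, rfl⟩, ?_⟩
    refine Equiv.ext fun i => lo_injective ?_
    show lo ((π _ : Perm (Fin 24)) i) = lo (x i)
    rw [← happ, hiy i, hy.unique hx]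
  obtain ⟨hzp, hzfix, hz2, hz4⟩ := z_ok
  have hzr := decP_rep hzp
  let z : ↥(genG 248 (gens.map Prod.fst)) :=
    ⟨decP 248 zCode.1, mem_of_sift (by norm_num) hT hv _ _ hzr hzs.1⟩
  have hzk : z ∈ π.ker := by
    refine MonoidHom.mem_ker.mpr (Subtype.ext (Equiv.ext fun i => lo_injective ?_))
    rw [← happ]
    refine Fin.ext ((hzr (lo i)).symm.trans ?_)
    exact Nat.eq_of_beq_eq_true (List.all_eq_true.mp hzfix i (List.mem_range.mpr i.2))
  have hord : orderOf z = 4 := by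
    haveI := Fact.mk Nat.prime_two
    refine orderOf_eq_prime_pow (p := 2) (n := 1) (fun e => ?_) (Subtype.ext (Equiv.ext fun i => Fin.ext ?_))
    · have h' := congrArg (fun g : ↥(genG 248 (gens.map Prod.fst)) => ((g : Perm (Fin 248)) ⟨24, by norm_num⟩ : ℕ)) e
      simp only [pow_one, sq, Subgroup.coe_mul, Perm.mul_apply, OneMemClass.coe_one, Perm.one_apply] at h'
      have e1 := hzr ⟨24, by norm_num⟩
      have e2 := hzr ((decP 248 zCode.1) ⟨24, by norm_num⟩)
      rw [← e1, show ((z : Perm (Fin 248)) ((z : Perm (Fin 248)) ⟨24, by norm_num⟩) : ℕ) = _ from h'] at e2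
      rw [show Nat.beq (ap zCode.1 (ap zCode.1 24)) 24 = true by rw [show ap zCode.1 (ap zCode.1 24) = 24 from e2]; rfl] at hz2
      exact Bool.noConfusion hz2
    · rw [show 2 ^ (1 + 1) = 4 from rfl, SubgroupClass.coe_pow, ← rep_apN hzr,
        Nat.eq_of_beq_eq_true (List.all_eq_true.mp hz4 i (List.mem_range.mpr i.2))]
      rfl
  have hker : π.ker = zpowers z := by
    refine (eq_of_le_of_card_ge (zpowers_le.mpr hzk) ?_).symm
    have h' := π.ker.card_mul_index
    rw [index_ker, MonoidHom.range_eq_top.mpr hsurj, card_top, hcardS, hcard] at h'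
    rw [Nat.card_zpowers, hord]
    omega
  refine ⟨hT, hv, π, z, hsurj, hzr, ?_, hker, hord, happ⟩
  rw [hker, zpowers_le]
  refine mem_center_iff.mpr fun y => Subtype.ext ?_
  show (y : Perm (Fin 248)) * decP 248 zCode.1 = decP 248 zCode.1 * y
  obtain ⟨y, hy⟩ := y
  refine (show y ∈ centralizer ({decP 248 zCode.1} : Set (Perm (Fin 248))) from ?_) |> fun h' =>
    (mem_centralizer_singleton_iff.mp h')
  refine (closure_le _).mpr ?_ hy
  rintro g ⟨c, hc, hg⟩
  refine mem_centralizer_singleton_iff.mpr (Equiv.ext fun i => Fin.ext ?_)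
  rw [Perm.mul_apply, Perm.mul_apply, ← hg, ← hzr, ← hzr, ← hg]
  exact Nat.eq_of_beq_eq_true (List.all_eq_true.mp (List.all_eq_true.mp hzs.2 i (List.mem_range.mpr i.2)) c hc)

/-- The members of a list of codes, as elements. -/
theorem elems_of {n : ℕ} (hn : n ≤ 512) {ls : List Level} {gens : List ℕ} (hT : TableOK n ls gens) (hv : Valid n gens)
    {cs : List (ℕ × ℕ)} (hm : memOK n ls cs = true) : ∀ k < cs.length, ∃ g : ↥(genG n gens),
      Rep n (cs.getD k (0, 0)).1 (g : Perm (Fin n)) ∧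
      Rep n (cs.getD k (0, 0)).2 ((g⁻¹ : ↥(genG n gens)) : Perm (Fin n)) := fun k hk => by
  have h := List.all_eq_true.mp hm _ (List.getElem_mem hk)
  rw [Bool.and_eq_true] at h
  rw [List.getD_eq_getElem _ _ hk]
  exact ⟨⟨_, mem_of_sift hn hT hv _ _ (decP_rep h.1) h.2⟩, decP_rep h.1, rep_inv hn (decP_rep h.1) h.1⟩

theorem groupA : TableOK 248 coverChainA (coverGensA.map Prod.fst) ∧ Valid 248 (coverGensA.map Prod.fst) ∧
    ∃ (π : ↥(genG 248 (coverGensA.map Prod.fst)) →* SmallPlane) (z : ↥(genG 248 (coverGensA.map Prod.fst))),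
      Function.Surjective π ∧ Rep 248 zCode.1 (z : Perm (Fin 248)) ∧ π.ker ≤ Subgroup.center _ ∧
      π.ker = zpowers z ∧ orderOf z = 4 ∧
      ∀ (g : ↥(genG 248 (coverGensA.map Prod.fst))) i, (g : Perm (Fin 248)) (lo i) = lo ((π g : Perm (Fin 24)) i) :=
  cover_spec coverGensA coverChainA permA projA zsiftA shapecoverChainA
    (fun j hj => by
      interval_cases j
      exacts [entriescoverChainA0, entriescoverChainA1, entriescoverChainA2, entriescoverChainA3, entriescoverChainA4])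
    (fun j hj => by
      interval_cases j
      exacts [closedcoverChainA0, closedcoverChainA1, closedcoverChainA2, closedcoverChainA3, closedcoverChainA4])

theorem groupB : TableOK 248 coverChainB (coverGensB.map Prod.fst) ∧ Valid 248 (coverGensB.map Prod.fst) ∧
    ∃ (π : ↥(genG 248 (coverGensB.map Prod.fst)) →* SmallPlane) (z : ↥(genG 248 (coverGensB.map Prod.fst))),
      Function.Surjective π ∧ Rep 248 zCode.1 (z : Perm (Fin 248)) ∧ π.ker ≤ Subgroup.center _ ∧
      π.ker = zpowers z ∧ orderOf z = 4 ∧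
      ∀ (g : ↥(genG 248 (coverGensB.map Prod.fst))) i, (g : Perm (Fin 248)) (lo i) = lo ((π g : Perm (Fin 24)) i) :=
  cover_spec coverGensB coverChainB permB projB zsiftB shapecoverChainB
    (fun j hj => by
      interval_cases j
      exacts [entriescoverChainB0, entriescoverChainB1, entriescoverChainB2, entriescoverChainB3, entriescoverChainB4])
    (fun j hj => by
      interval_cases j
      exacts [closedcoverChainB0, closedcoverChainB1, closedcoverChainB2, closedcoverChainB3, closedcoverChainB4])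

/-- The kernel of a fibre product. -/
theorem card_ker_fibre {X Y G : Type*} [Group X] [Group Y] [Group G] (f : X →* G) (g : Y →* G) :
    Nat.card ((f.comp (MonoidHom.fst X Y)).comp ((f.comp (MonoidHom.fst X Y)).eqLocus (g.comp (MonoidHom.snd X Y))).subtype).ker =
      Nat.card f.ker * Nat.card g.ker := by
  rw [← Nat.card_prod]
  refine Nat.card_congr
    { toFun := fun p => (⟨p.1.1.1, p.2⟩, ⟨p.1.1.2, MonoidHom.mem_ker.mpr ((p.1.2 : f p.1.1.1 = g p.1.1.2).symm.trans p.2)⟩)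
      invFun := fun q => ⟨⟨(q.1.1, q.2.1), (MonoidHom.mem_ker.mp q.1.2).trans (MonoidHom.mem_ker.mp q.2.2).symm⟩,
        MonoidHom.mem_ker.mpr (MonoidHom.mem_ker.mp q.1.2)⟩
      left_inv := fun p => rfl
      right_inv := fun q => rfl }

theorem cover_stem : ∃ (P : Type) (_ : Group P) (_ : Finite P) (τ : P →* SmallPlane),
    Cfsg.IsStemExtension τ ∧ Nat.card τ.ker = 16 := by
  classical
  obtain ⟨hTA, hvA, πA, zA, sA, rA, cA, kA, oA, aA⟩ := groupA
  obtain ⟨hTB, hvB, πB, zB, sB, rB, cB, kB, oB, aB⟩ := groupB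
  let P : Subgroup (↥(genG 248 (coverGensA.map Prod.fst)) × ↥(genG 248 (coverGensB.map Prod.fst))) :=
    (πA.comp (MonoidHom.fst _ _)).eqLocus (πB.comp (MonoidHom.snd _ _))
  let τ : P →* SmallPlane := (πA.comp (MonoidHom.fst _ _)).comp P.subtype
  have hsurj : Function.Surjective τ := fun s => by
    obtain ⟨a, ha⟩ := sA s
    obtain ⟨b, hb⟩ := sB s
    exact ⟨⟨(a, b), show πA a = πB b from ha.trans hb.symm⟩, ha⟩
  have hkk : ∀ p : P, p ∈ τ.ker → p.1.1 ∈ πA.ker ∧ p.1.2 ∈ πB.ker := fun p hp =>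
    ⟨MonoidHom.mem_ker.mpr hp, MonoidHom.mem_ker.mpr ((p.2 : πA p.1.1 = πB p.1.2).symm.trans hp)⟩
  obtain ⟨hmA, hlA⟩ := commA_mem
  obtain ⟨hmB, hlB⟩ := commB_mem
  have hel : ∀ k < 4, ∃ p : P, Rep 248 (commCodesA.getD k (0, 0)).1 (p.1.1 : Perm (Fin 248)) ∧
      Rep 248 (commCodesA.getD k (0, 0)).2 ((p.1.1⁻¹ : ↥(genG 248 (coverGensA.map Prod.fst))) : Perm (Fin 248)) ∧
      Rep 248 (commCodesB.getD k (0, 0)).1 (p.1.2 : Perm (Fin 248)) ∧
      Rep 248 (commCodesB.getD k (0, 0)).2 ((p.1.2⁻¹ : ↥(genG 248 (coverGensB.map Prod.fst))) : Perm (Fin 248)) := by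
    intro k hk
    obtain ⟨a, ha, ha'⟩ := elems_of (by norm_num) hTA hvA hmA k (by rw [hlA]; exact hk)
    obtain ⟨b, hb, hb'⟩ := elems_of (by norm_num) hTB hvB hmB k (by rw [hlB]; exact hk)
    refine ⟨⟨(a, b), Subtype.ext (Equiv.ext fun i => lo_injective ?_)⟩, ha, ha', hb, hb'⟩
    show lo ((πA a : Perm (Fin 24)) i) = lo ((πB b : Perm (Fin 24)) i)
    rw [← aA, ← aB]
    refine Fin.ext ?_
    rw [← ha, ← hb]
    exact Nat.eq_of_beq_eq_true
      (List.all_eq_true.mp (List.all_eq_true.mp comm_same k (List.mem_range.mpr hk)) i (List.mem_range.mpr i.2))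
  obtain ⟨x, xa, xa', xb, xb'⟩ := hel 0 (by norm_num)
  obtain ⟨y, ya, ya', yb, yb'⟩ := hel 1 (by norm_num)
  obtain ⟨r, ra, ra', rb, rb'⟩ := hel 2 (by norm_num)
  obtain ⟨s, sa, sa', sb, sb'⟩ := hel 3 (by norm_num)
  have c1 : (⁅x, y⁆ : P).1 = (zA, 1) := by
    refine Prod.ext (Subtype.ext (Equiv.ext fun i => Fin.ext ?_)) (Subtype.ext (Equiv.ext fun i => Fin.ext ?_))
    · show (((⁅x.1.1, y.1.1⁆ : ↥(genG 248 (coverGensA.map Prod.fst))) : Perm (Fin 248)) i : ℕ) =
          (((zA : ↥(genG 248 (coverGensA.map Prod.fst))) : Perm (Fin 248)) i : ℕ)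
      rw [commutatorElement_def]
      simp only [Subgroup.coe_mul, Perm.mul_apply]
      rw [← xa, ← ya, ← xa', ← ya', Nat.eq_of_beq_eq_true (List.all_eq_true.mp commA0 i (List.mem_range.mpr i.2)), rA i]
    · show (((⁅x.1.2, y.1.2⁆ : ↥(genG 248 (coverGensB.map Prod.fst))) : Perm (Fin 248)) i : ℕ) =
          (((1 : ↥(genG 248 (coverGensB.map Prod.fst))) : Perm (Fin 248)) i : ℕ)
      rw [commutatorElement_def]
      simp only [Subgroup.coe_mul, Perm.mul_apply]
      rw [← xb, ← yb, ← xb', ← yb', Nat.eq_of_beq_eq_true (List.all_eq_true.mp commB0 i (List.mem_range.mpr i.2))]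
      rfl
  have c2 : (⁅r, s⁆ : P).1 = (1, zB) := by
    refine Prod.ext (Subtype.ext (Equiv.ext fun i => Fin.ext ?_)) (Subtype.ext (Equiv.ext fun i => Fin.ext ?_))
    · show (((⁅r.1.1, s.1.1⁆ : ↥(genG 248 (coverGensA.map Prod.fst))) : Perm (Fin 248)) i : ℕ) =
          (((1 : ↥(genG 248 (coverGensA.map Prod.fst))) : Perm (Fin 248)) i : ℕ)
      rw [commutatorElement_def]
      simp only [Subgroup.coe_mul, Perm.mul_apply]
      rw [← ra, ← sa, ← ra', ← sa', Nat.eq_of_beq_eq_true (List.all_eq_true.mp commA1 i (List.mem_range.mpr i.2))]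
      rfl
    · show (((⁅r.1.2, s.1.2⁆ : ↥(genG 248 (coverGensB.map Prod.fst))) : Perm (Fin 248)) i : ℕ) =
          (((zB : ↥(genG 248 (coverGensB.map Prod.fst))) : Perm (Fin 248)) i : ℕ)
      rw [commutatorElement_def]
      simp only [Subgroup.coe_mul, Perm.mul_apply]
      rw [← rb, ← sb, ← rb', ← sb', Nat.eq_of_beq_eq_true (List.all_eq_true.mp commB1 i (List.mem_range.mpr i.2)), rB i]
  refine ⟨P, inferInstance, inferInstance, τ, ⟨hsurj, fun p hp => mem_center_iff.mpr fun q => Subtype.ext (Prod.ext ?_ ?_),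
    fun p hp => ?_⟩, ?_⟩
  · exact mem_center_iff.mp (cA (hkk p hp).1) q.1.1
  · exact mem_center_iff.mp (cB (hkk p hp).2) q.1.2
  · obtain ⟨i, hi⟩ := mem_zpowers_iff.mp (kA ▸ (hkk p hp).1)
    obtain ⟨j, hj⟩ := mem_zpowers_iff.mp (kB ▸ (hkk p hp).2)
    rw [show p = ⁅x, y⁆ ^ i * ⁅r, s⁆ ^ j from Subtype.ext (by
      rw [Subgroup.coe_mul, SubgroupClass.coe_zpow, SubgroupClass.coe_zpow, c1, c2]
      refine Prod.ext ?_ ?_ <;> simp [hi, hj])]
    exact mul_mem (zpow_mem (commutator_mem_commutator (mem_top x) (mem_top y)) i)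
      (zpow_mem (commutator_mem_commutator (mem_top r) (mem_top s)) j)
  · rw [card_ker_fibre, kA, kB, Nat.card_zpowers, Nat.card_zpowers, oA, oB]

/-- Stem extensions with kernels of coprime orders combine. -/
theorem combine {G : Type u} [Group G] {X : Type v} [Group X] [Finite X] {Y : Type u} [Group Y] [Finite Y]
    {f : X →* G} {g : Y →* G} (hf : Cfsg.IsStemExtension f) (hg : Cfsg.IsStemExtension g)
    (hco : (Nat.card f.ker).Coprime (Nat.card g.ker)) :
    Cfsg.IsStemExtension ((f.comp (MonoidHom.fst X Y)).comp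
      ((f.comp (MonoidHom.fst X Y)).eqLocus (g.comp (MonoidHom.snd X Y))).subtype) := by
  set P := (f.comp (MonoidHom.fst X Y)).eqLocus (g.comp (MonoidHom.snd X Y)) with hP
  set τ := (f.comp (MonoidHom.fst X Y)).comp P.subtype with hτ
  have hk : ∀ p : P, p ∈ τ.ker → p.1.1 ∈ f.ker ∧ p.1.2 ∈ g.ker := fun p hp =>
    ⟨MonoidHom.mem_ker.mpr hp, MonoidHom.mem_ker.mpr ((p.2 : f p.1.1 = g p.1.2).symm.trans hp)⟩
  have hsurj : Function.Surjective τ := fun s => by
    obtain ⟨a, ha⟩ := hf.1 s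
    obtain ⟨b, hb⟩ := hg.1 s
    exact ⟨⟨(a, b), show f a = g b from ha.trans hb.symm⟩, ha⟩
  have h1 : ((MonoidHom.fst X Y).comp P.subtype).range = ⊤ := MonoidHom.range_eq_top.mpr fun a => by
    obtain ⟨b, hb⟩ := hg.1 (f a)
    exact ⟨⟨(a, b), hb.symm⟩, rfl⟩
  have h2 : ((MonoidHom.snd X Y).comp P.subtype).range = ⊤ := MonoidHom.range_eq_top.mpr fun b => by
    obtain ⟨a, ha⟩ := hf.1 (g b)
    exact ⟨⟨(a, b), ha⟩, rfl⟩
  refine ⟨hsurj, fun p hp => mem_center_iff.mpr fun q => Subtype.ext (Prod.ext ?_ ?_), fun p hp => ?_⟩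
  · exact mem_center_iff.mp (hf.2.1 (hk p hp).1) q.1.1
  · exact mem_center_iff.mp (hg.2.1 (hk p hp).2) q.1.2
  -- both parts of the kernel are derived
  have hX : ∀ a ∈ f.ker, ∃ d ∈ _root_.commutator P, d.1.1 = a := fun a ha => by
    have hm : a ∈ (_root_.commutator P).map ((MonoidHom.fst X Y).comp P.subtype) := by
      rw [_root_.commutator_def, map_commutator, ← MonoidHom.range_eq_map, h1, ← _root_.commutator_def]
      exact hf.2.2 ha
    obtain ⟨d, hd, e⟩ := hm
    exact ⟨d, hd, e⟩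
  have hY : ∀ b ∈ g.ker, ∃ d ∈ _root_.commutator P, d.1.2 = b := fun b hb => by
    have hm : b ∈ (_root_.commutator P).map ((MonoidHom.snd X Y).comp P.subtype) := by
      rw [_root_.commutator_def, map_commutator, ← MonoidHom.range_eq_map, h2, ← _root_.commutator_def]
      exact hg.2.2 hb
    obtain ⟨d, hd, e⟩ := hm
    exact ⟨d, hd, e⟩
  obtain ⟨a, b, hab⟩ : ∃ a b : ℤ, (Nat.card f.ker : ℤ) * a + (Nat.card g.ker : ℤ) * b = 1 :=
    ⟨_, _, by rw [← Nat.gcd_eq_gcd_ab, hco.gcd_eq_one]; rfl⟩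
  have fm : ∀ x ∈ f.ker, x ^ ((Nat.card f.ker : ℤ) * a) = 1 := fun x hx => by
    rw [zpow_mul, zpow_natCast, show x ^ Nat.card f.ker = 1 from congrArg Subtype.val (pow_card_eq_one' (x := (⟨x, hx⟩ : f.ker))),
      one_zpow]
  have gm : ∀ y ∈ g.ker, y ^ ((Nat.card g.ker : ℤ) * b) = 1 := fun y hy => by
    rw [zpow_mul, zpow_natCast, show y ^ Nat.card g.ker = 1 from congrArg Subtype.val (pow_card_eq_one' (x := (⟨y, hy⟩ : g.ker))),
      one_zpow]
  obtain ⟨hpx, hpy⟩ := hk p hp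
  obtain ⟨d, hd, hdx⟩ := hX _ hpx
  obtain ⟨d', hd', hdy⟩ := hY _ hpy
  have hdk : d.1.2 ∈ g.ker := MonoidHom.mem_ker.mpr (by
    rw [show g d.1.2 = f d.1.1 from (d.2 : f d.1.1 = g d.1.2).symm, hdx, MonoidHom.mem_ker.mp hpx])
  have hdk' : d'.1.1 ∈ f.ker := MonoidHom.mem_ker.mpr (by
    rw [show f d'.1.1 = g d'.1.2 from d'.2, hdy, MonoidHom.mem_ker.mp hpy])
  rw [show p = d ^ ((Nat.card g.ker : ℤ) * b) * d' ^ ((Nat.card f.ker : ℤ) * a) from Subtype.ext (by
    rw [Subgroup.coe_mul, SubgroupClass.coe_zpow, SubgroupClass.coe_zpow]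
    refine Prod.ext ?_ ?_
    · rw [Prod.fst_mul, Prod.pow_fst, Prod.pow_fst]
      rw [hdx, fm _ hdk', mul_one]
      conv_lhs => rw [← zpow_one p.1.1, ← hab, zpow_add, fm _ hpx, one_mul]
    · rw [Prod.snd_mul, Prod.pow_snd, Prod.pow_snd]
      rw [hdy, gm _ hdk, one_mul]
      conv_lhs => rw [← zpow_one p.1.2, ← hab, zpow_add, gm _ hpy, mul_one])]
  exact mul_mem (zpow_mem hd _) (zpow_mem hd' _)

/-- A commutative group generated by elements of orders dividing three, four and four. -/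
theorem onto_of_three {K : Type u} [Group K] (hcomm : ∀ a b : K, a * b = b * a) {w x y : K} (hw : w ^ 3 = 1)
    (hx : x ^ 4 = 1) (hy : y ^ 4 = 1) (htop : closure {w, x, y} = ⊤) :
    ∃ π : Multiplicative (ZMod 3 × ZMod 4 × ZMod 4) →* K, Function.Surjective π := by
  letI : CommGroup K := { (inferInstance : Group K) with mul_comm := hcomm }
  let c : (n : ℕ) → {a : K // a ^ n = 1} → (ZMod n →+ Additive K) := fun n a =>
    ZMod.lift n ⟨zmultiplesHom (Additive K) (Additive.ofMul a.1), by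
      rw [zmultiplesHom_apply, natCast_zsmul, ← ofMul_pow, a.2, ofMul_one]⟩
  let f : ZMod 3 × ZMod 4 × ZMod 4 →+ Additive K :=
    (c 3 ⟨w, hw⟩).coprod ((c 4 ⟨x, hx⟩).coprod (c 4 ⟨y, hy⟩))
  refine ⟨AddMonoidHom.toMultiplicativeLeft f, ?_⟩
  have hone : ∀ (n : ℕ) (a : {a : K // a ^ n = 1}), c n a 1 = Additive.ofMul a.1 := fun n a => by
    show ZMod.lift n _ 1 = _
    rw [← Int.cast_one, ZMod.lift_coe]
    simp
  rw [← MonoidHom.range_eq_top, eq_top_iff, ← htop, closure_le]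
  rintro t (rfl | rfl | rfl)
  · exact ⟨Multiplicative.ofAdd (1, 0, 0), by simp [f, hone]⟩
  · exact ⟨Multiplicative.ofAdd (0, 1, 0), by simp [f, hone]⟩
  · exact ⟨Multiplicative.ofAdd (0, 0, 1), by simp [f, hone]⟩

theorem multiplier {F : Type u} [Field F] [Fintype F] (hF : Fintype.card F = 4) :
    Cfsg.HasSchurMultiplier (Matrix.ProjectiveSpecialLinearGroup (Fin 3) F)
      (Multiplicative (ZMod 3 × ZMod 4 × ZMod 4)) := by
  classical
  obtain ⟨e⟩ := equiv_small hF
  haveI : Finite (Matrix.ProjectiveSpecialLinearGroup (Fin 3) F) := Finite.of_equiv _ e.symm.toEquiv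
  have onto : ∀ (Γ : Type u) [Group Γ] [Finite Γ] (σ : Γ →* Matrix.ProjectiveSpecialLinearGroup (Fin 3) F),
      Cfsg.IsStemExtension σ → ∃ π : Multiplicative (ZMod 3 × ZMod 4 × ZMod 4) →* σ.ker, Function.Surjective π := by
    intro Γ _ _ σ hσ
    have hk : (e.toMonoidHom.comp σ).ker = σ.ker := MonoidHom.ker_mulEquiv_comp _ _
    obtain ⟨w, x, y, hw, hx, hy, hw3, hx4, hy4, hgen⟩ := ker_small (σ := e.toMonoidHom.comp σ)
      ⟨e.surjective.comp hσ.1, hk ▸ hσ.2.1, hk ▸ hσ.2.2⟩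
    rw [hk] at hw hx hy hgen
    refine onto_of_three (fun a b => Subtype.ext (mem_center_iff.mp (hσ.2.1 b.2) a)) (w := ⟨w, hw⟩) (x := ⟨x, hx⟩)
      (y := ⟨y, hy⟩) (Subtype.ext hw3) (Subtype.ext hx4) (Subtype.ext hy4) ?_
    refine map_injective σ.ker.subtype_injective ?_
    rw [MonoidHom.map_closure, ← MonoidHom.range_eq_map, range_subtype, Set.image_insert_eq, Set.image_pair]
    exact le_antisymm ((closure_le _).mpr (by rintro t (rfl | rfl | rfl); exacts [hw, hx, hy])) hgen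
  refine ⟨?_, onto⟩
  -- the cover
  obtain ⟨P0, _, _, τ0, hτ0, hc0⟩ := cover_stem
  let f : P0 →* Matrix.ProjectiveSpecialLinearGroup (Fin 3) F := e.symm.toMonoidHom.comp τ0
  have hfk : f.ker = τ0.ker := by ext; simp [f]
  have hf : Cfsg.IsStemExtension f := ⟨e.symm.surjective.comp hτ0.1, hfk ▸ hτ0.2.1, hfk ▸ hτ0.2.2⟩
  let g : Matrix.SpecialLinearGroup (Fin 3) F →* Matrix.ProjectiveSpecialLinearGroup (Fin 3) F :=
    QuotientGroup.mk' _
  have hgk : g.ker = center _ := QuotientGroup.ker_mk' _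
  have hg : Cfsg.IsStemExtension g :=
    ⟨QuotientGroup.mk'_surjective _, hgk.le, by rw [SLPerfect.commutator_eq_top le_rfl]; exact le_top⟩
  have hg3 : Nat.card g.ker = 3 := by
    have hu : Nat.card Fˣ = 3 := by rw [Nat.card_units, Nat.card_eq_fintype_card, hF]
    have hr : rootsOfUnity (max (Fintype.card (Fin 3)) 1) F = ⊤ := eq_top_iff.mpr fun t _ => by
      rw [mem_rootsOfUnity, show max (Fintype.card (Fin 3)) 1 = Nat.card Fˣ by rw [hu]; rfl]
      exact pow_card_eq_one'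
    rw [hgk, Nat.card_congr (Matrix.SpecialLinearGroup.center_equiv_rootsOfUnity).toEquiv, hr, card_top, hu]
  have hcard : Nat.card ((f.comp (MonoidHom.fst _ _)).comp
      ((f.comp (MonoidHom.fst P0 (Matrix.SpecialLinearGroup (Fin 3) F))).eqLocus (g.comp (MonoidHom.snd _ _))).subtype).ker = 48 := by
    rw [card_ker_fibre, hfk, hc0, hg3]
  have hst := combine hf hg (by rw [hfk, hc0, hg3]; norm_num)
  obtain ⟨π, hπ⟩ := onto _ _ hst
  refine ⟨_, inferInstance, inferInstance, _, hst, ⟨(MulEquiv.ofBijective π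
    ((Nat.bijective_iff_surjective_and_card _).mpr ⟨hπ, ?_⟩)).symm⟩⟩
  rw [hcard, Nat.card_eq_fintype_card]
  simp

end CfsgLib.StemSylow.PlaneFour
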