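/-
Two monomial covers with the same modulus whose relators separate them: the kernel of their fibre product is
derived.
-/
import Cfsg.Agent.Lib.StemSylow.LabelCover
import Cfsg.Agent.Lib.StemSylow.PlaneFourModel

set_option autoImplicit false
set_option linter.unusedSectionVars false
set_option linter.style.haveILetI false

namespace CfsgLib.StemSylow.LabelCover

open Equiv Subgroup

/-- The value of a word, first letter first. -/
def wordVal {K : Type*} [Group K] (g : ℕ → K) : List ℕ → K
  | [] => 1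
  | j :: w => wordVal g w * g j

theorem map_wordVal {K L : Type*} [Group K] [Group L] (f : K →* L) (g : ℕ → K) :
    ∀ w : List ℕ, f (wordVal g w) = wordVal (fun j => f (g j)) w
  | [] => map_one f
  | j :: w => by rw [wordVal, map_mul, map_wordVal f g w]; rfl

/-- A word in two letters with both exponents killed has a derived value. -/
theorem wordVal_mem {K : Type*} [Group K] {q : ℕ} (hpow : ∀ x : K, Abelianization.of x ^ q = 1) (g : ℕ → K)
    {w : List ℕ} (hlt : ∀ j ∈ w, j < 2) (h0 : (w.filter (· == 0)).length % q = 0)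
    (h1 : (w.filter (· == 1)).length % q = 0) : wordVal g w ∈ _root_.commutator K := by
  have key : ∀ w : List ℕ, (∀ j ∈ w, j < 2) → Abelianization.of (wordVal g w) =
      Abelianization.of (g 0) ^ (w.filter (· == 0)).length * Abelianization.of (g 1) ^ (w.filter (· == 1)).length := by
    intro w
    induction w with
    | nil => intro _; simp [wordVal]
    | cons j w ih =>
      intro hw
      rw [wordVal, map_mul, ih fun x hx => hw x (List.mem_cons_of_mem _ hx)]
      have hj : j < 2 := hw j (List.mem_cons_self ..)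
      interval_cases j
      · simp only [List.filter_cons, beq_self_eq_true, if_true, List.length_cons, pow_succ,
          show ((0 : ℕ) == 1) = false from rfl]
        simp only [Bool.false_eq_true, if_false]
        rw [mul_right_comm]
      · simp only [List.filter_cons, beq_self_eq_true, if_true, List.length_cons, pow_succ,
          show ((1 : ℕ) == 0) = false from rfl]
        simp only [Bool.false_eq_true, if_false]
        rw [mul_assoc]
  rw [← Abelianization.ker_of, MonoidHom.mem_ker, key w hlt, ← Nat.div_add_mod (w.filter (· == 0)).length q, h0,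
    ← Nat.div_add_mod (w.filter (· == 1)).length q, h1, add_zero, add_zero, pow_mul, pow_mul, hpow, hpow, one_pow,
    one_pow, mul_one]

variable {D D' : Data} {n : ℕ} {cs : List ℕ} (ok : D.OK n cs) (ok' : D'.OK n cs) (hv : CfsgPC.Valid n cs)

theorem val_eq : ∀ w : List ℕ, val ok hv w = wordVal (gel ok hv) w
  | [] => rfl
  | j :: w => by rw [val, wordVal, val_eq w]

include ok ok' hv in
/-- The fibre product of two covers separated by their relators is a stem extension. -/
theorem pair_stem (hperf : _root_.commutator ↥(CfsgPC.genG n cs) = ⊤) (hq : D'.q = D.q)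
    (hsep : (D'.run D.word (0, 0)).2 = 0) (hsep' : (D.run D'.word (0, 0)).2 = 0) :
    ∃ (P : Type) (_ : Group P) (_ : Finite P) (τ : P →* ↥(CfsgPC.genG n cs)),
      Cfsg.IsStemExtension τ ∧ Nat.card τ.ker = D.q * D.q := by
  classical
  obtain ⟨hfA, hsA, hkA⟩ := cover_stem ok hv hperf
  obtain ⟨hfB, hsB, hkB⟩ := cover_stem ok' hv hperf
  haveI := hfA
  haveI := hfB
  let π := proj ok hv
  let π' := proj ok' hv
  let P : Subgroup (Cover ok hv × Cover ok' hv) := (π.comp (MonoidHom.fst _ _)).eqLocus (π'.comp (MonoidHom.snd _ _))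
  let τ : P →* ↥(CfsgPC.genG n cs) := (π.comp (MonoidHom.fst _ _)).comp P.subtype
  have hkk : ∀ p : P, p ∈ τ.ker → p.1.1 ∈ π.ker ∧ p.1.2 ∈ π'.ker := fun p hp =>
    ⟨MonoidHom.mem_ker.mpr hp, MonoidHom.mem_ker.mpr ((p.2 : π p.1.1 = π' p.1.2).symm.trans hp)⟩
  have hsurj : Function.Surjective τ := fun s => by
    obtain ⟨a, ha⟩ := proj_surjective ok hv s
    obtain ⟨b, hb⟩ := proj_surjective ok' hv s
    exact ⟨⟨(a, b), show π a = π' b from ha.trans hb.symm⟩, ha⟩
  have hgmem : ∀ j, π (gel ok hv j) = π' (gel ok' hv j) := fun j => by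
    by_cases hj : j < 2
    · simp only [gel, dif_pos hj]
      rfl
    · simp only [gel, dif_neg hj, map_one]
  let g : ℕ → P := fun j => ⟨(gel ok hv j, gel ok' hv j), hgmem j⟩
  have hzA : val ok hv D.word ^ D.q = 1 := by rw [← order_word ok hv]; exact pow_orderOf_eq_one _
  have hzB : val ok' hv D'.word ^ D.q = 1 := by rw [← hq, ← order_word ok' hv]; exact pow_orderOf_eq_one _
  have hkpow : ∀ p : P, p ∈ τ.ker → p ^ D.q = 1 := fun p hp => by
    obtain ⟨i, hi⟩ := mem_zpowers_iff.mp (ker_eq ok hv ▸ (hkk p hp).1)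
    obtain ⟨j, hj⟩ := mem_zpowers_iff.mp (ker_eq ok' hv ▸ (hkk p hp).2)
    refine Subtype.ext (Prod.ext ?_ ?_)
    · show p.1.1 ^ D.q = 1
      rw [← hi, ← zpow_natCast, ← zpow_mul, mul_comm, zpow_mul, zpow_natCast, hzA, one_zpow]
    · show p.1.2 ^ D.q = 1
      rw [← hj, ← zpow_natCast, ← zpow_mul, mul_comm, zpow_mul, zpow_natCast, hzB, one_zpow]
  have hpow : ∀ x : P, Abelianization.of x ^ D.q = 1 := fun x => by
    have hm : τ x ∈ (_root_.commutator P).map τ := by
      rw [_root_.commutator_def, map_commutator, map_top_of_surjective _ hsurj, ← _root_.commutator_def, hperf]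
      exact mem_top _
    obtain ⟨d, hd, he⟩ := hm
    have hk : (d⁻¹ * x) ^ D.q = 1 := hkpow _ (by simp [MonoidHom.mem_ker, he])
    rw [show x = d * (d⁻¹ * x) by group, map_mul,
      show Abelianization.of d = 1 by rw [← MonoidHom.mem_ker, Abelianization.ker_of]; exact hd, one_mul, ← map_pow,
      hk, map_one]
  have hw := ok.word
  have hw' := ok'.word
  simp only [Data.wordOK, Bool.and_eq_true, List.all_eq_true, Nat.blt_eq, List.mem_range] at hw hw'
  obtain ⟨⟨⟨⟨⟨hpts, -⟩, -⟩, h0⟩, h1⟩, hlt⟩ := hw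
  obtain ⟨⟨⟨⟨⟨hpts', -⟩, -⟩, h0'⟩, h1'⟩, hlt'⟩ := hw'
  rw [hq] at h0' h1'
  have hcoe : ∀ w, (wordVal g w).1 = (val ok hv w, val ok' hv w) := fun w => by
    rw [val_eq, val_eq]
    exact Prod.ext (map_wordVal ((MonoidHom.fst _ _).comp P.subtype) g w)
      (map_wordVal ((MonoidHom.snd _ _).comp P.subtype) g w)
  have z1 : (wordVal g D.word).1 = (val ok hv D.word, 1) := by
    rw [hcoe]
    refine Prod.ext rfl (Subtype.ext ?_)
    rw [val_of_run ok' hv D.word hlt (fun i hi => Nat.eq_of_beq_eq_true (hpts i hi)) hsep, Nat.cast_zero]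
    exact Prod.ext rfl (Equiv.ext fun x => by simp [mono_apply])
  have z2 : (wordVal g D'.word).1 = (1, val ok' hv D'.word) := by
    rw [hcoe]
    refine Prod.ext (Subtype.ext ?_) rfl
    rw [val_of_run ok hv D'.word hlt' (fun i hi => Nat.eq_of_beq_eq_true (hpts' i hi)) hsep', Nat.cast_zero]
    exact Prod.ext rfl (Equiv.ext fun x => by simp [mono_apply])
  refine ⟨P, inferInstance, inferInstance, τ, ⟨hsurj, fun p hp => mem_center_iff.mpr fun r => Subtype.ext (Prod.ext ?_ ?_),
    fun p hp => ?_⟩, ?_⟩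
  · exact mem_center_iff.mp (hsA.2.1 (hkk p hp).1) r.1.1
  · exact mem_center_iff.mp (hsB.2.1 (hkk p hp).2) r.1.2
  · obtain ⟨i, hi⟩ := mem_zpowers_iff.mp (ker_eq ok hv ▸ (hkk p hp).1)
    obtain ⟨j, hj⟩ := mem_zpowers_iff.mp (ker_eq ok' hv ▸ (hkk p hp).2)
    rw [show p = wordVal g D.word ^ i * wordVal g D'.word ^ j from Subtype.ext (by
      rw [Subgroup.coe_mul, SubgroupClass.coe_zpow, SubgroupClass.coe_zpow, z1, z2]
      refine Prod.ext ?_ ?_ <;> simp [hi, hj])]
    exact mul_mem
      (zpow_mem (wordVal_mem hpow g hlt (Nat.eq_of_beq_eq_true h0) (Nat.eq_of_beq_eq_true h1)) i)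
      (zpow_mem (wordVal_mem hpow g hlt' (Nat.eq_of_beq_eq_true h0') (Nat.eq_of_beq_eq_true h1')) j)
  · rw [PlaneFour.card_ker_fibre, hkA, hkB, hq]

end CfsgLib.StemSylow.LabelCover
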