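/-
The collector of `StemSylow/CollectP.lean` with unknowns of exponent `q`: a certificate that leaves one surviving
kernel element of exponent `r`.
-/
import Cfsg.Agent.Lib.StemSylow.CollectP

set_option autoImplicit false
set_option linter.style.haveILetI false
set_option linter.unusedSectionVars false

namespace CfsgLib.StemSylow.CollectPOne

open Subgroup
open CfsgLib.StemSylow.Collect (ev ev_nil ev_cons ev_append map_ev Eqn)
open CfsgLib.StemSylow.CollectMod (zz zz_comm zz_add zz_zero zz_neg zz_sub zz_smul zz_unit zz_congr)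
open CfsgLib.StemSylow.CollectP (FactAt rel_at comb_sound ev_twist card_mul_p)
open scoped commutatorElement

universe u v

/-- The certificate: a collector, the modulus, the exponent and form of the surviving element, and combinations. -/
structure Cert where
  base : CollectP.Cert
  q : ℕ
  r : ℕ
  phi : List ℤ
  combos : List (List (ℕ × ℤ) × ℤ)
  rphi : List (ℕ × ℤ)

namespace Cert

variable (C : Cert)

def ph : ℕ → ℤ := fun m => C.phi.getD m 0

/-- Congruence modulo `q` on all unknowns. -/
def same (f g : ℕ → ℤ) : Bool :=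
  (List.range C.base.facts.length).all fun m => decide ((f m - g m) % (C.q : ℤ) = 0)

def relOK (i j : ℕ) : Bool :=
  C.base.isRel i j (C.base.rel i j) && CollectP.Cert.shape C.base i j (C.base.fact (C.base.rel i j)).2.2 &&
    match C.base.comb (C.combos.getD (C.base.rel i j) ([], 0)).1 with
    | some f => C.same (C.base.target i j) fun m => f m + (C.combos.getD (C.base.rel i j) ([], 0)).2 * C.ph m
    | none => false

def check : Bool :=
  Nat.blt 0 C.base.p &&
    ((List.range C.base.n).all fun i => (List.range C.base.n).all fun j => Nat.blt j i || C.relOK i j) &&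
    match C.base.comb C.rphi with
    | some f => C.same f fun m => (C.r : ℤ) * C.ph m
    | none => false

end Cert

section Sound

variable (C : Cert) {Γ : Type*} [Group Γ] (Gl Tl : ℕ → Γ) {E : ℕ → Γ}

variable {Gl Tl} (hc : ∀ m g, Commute (E m) g) (hq : ∀ m, E m ^ C.q = 1) (hT : Tl 0 = 1)
  (hf : ∀ m, FactAt C.base Gl Tl (E := E) m)

include hc hq hT hf

/-- The surviving element has exponent `r`. -/
theorem phi_pow (h : C.check = true) : zz E C.base.facts.length C.ph ^ C.r = 1 := by
  simp only [Cert.check, Bool.and_eq_true] at h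
  obtain ⟨-, h⟩ := h
  split at h
  · rename_i f ef
    simp only [Cert.same, List.all_eq_true, List.mem_range, decide_eq_true_eq] at h
    rw [← zpow_natCast, ← zz_smul hc, ← zz_congr hq h, comb_sound C.base hc hT hf _ _ ef]
  · simp at h

/-- The corrected lifts satisfy the relations up to the surviving element. -/
theorem rel_sound {i j : ℕ} (h : C.relOK i j = true) : ∃ a : ℤ,
    ev (fun k => Gl k * zz E C.base.facts.length (C.base.sv k)) (C.base.lhs i j) =
      ev (fun k => Gl k * zz E C.base.facts.length (C.base.sv k)) (C.base.fact (C.base.rel i j)).2.2 *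
        zz E C.base.facts.length C.ph ^ a := by
  simp only [Cert.relOK, Bool.and_eq_true] at h
  obtain ⟨⟨hr, -⟩, hcb⟩ := h
  obtain ⟨hlt, hm⟩ := rel_at C.base hc hT hf hr
  split at hcb
  · rename_i f ef
    set a := (C.combos.getD (C.base.rel i j) ([], 0)).2
    simp only [Cert.same, List.all_eq_true, List.mem_range, decide_eq_true_eq] at hcb
    have ht : zz E C.base.facts.length (C.base.target i j) = zz E C.base.facts.length C.ph ^ a := by
      rw [zz_congr hq hcb, show (fun m => f m + a * C.ph m) = f + fun m => a * C.ph m from rfl, zz_add hc,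
        comb_sound C.base hc hT hf _ _ ef, one_mul, zz_smul hc]
    rw [CollectP.Cert.target, zz_sub hc, zz_add hc, zz_unit hlt] at ht
    refine ⟨a, ?_⟩
    rw [ev_twist C.base hc, ev_twist C.base hc, hm, ← ht, mul_assoc, mul_assoc]
    refine congrArg (ev Gl _ * ·) ?_
    rw [← (zz_comm hc C.base.facts.length (C.base.sx (C.base.fact (C.base.rel i j)).2.2) _).inv_left.eq,
      mul_inv_cancel_left]
  · simp at hcb

end Sound

/-- The corrected lifts and the surviving element generate a group of order at most `p ^ n` times its order. -/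
theorem card_lift (C : Cert) {Γ : Type*} [Group Γ] [Finite Γ] {Gl Tl : ℕ → Γ} {E : ℕ → Γ}
    (hc : ∀ m g, Commute (E m) g) (hq : ∀ m, E m ^ C.q = 1) (hT : Tl 0 = 1)
    (hf : ∀ m, FactAt C.base Gl Tl (E := E) m) (h : C.check = true) :
    Nat.card (closure ((fun k => Gl k * zz E C.base.facts.length (C.base.sv k)) '' {k | k < C.base.n} ∪
      {zz E C.base.facts.length C.ph})) ≤ C.base.p ^ C.base.n * orderOf (zz E C.base.facts.length C.ph) := by
  set G' := fun k => Gl k * zz E C.base.facts.length (C.base.sv k)
  set w := zz E C.base.facts.length C.ph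
  simp only [Cert.check, Bool.and_eq_true, List.all_eq_true, List.mem_range, Bool.or_eq_true, Nat.blt_eq] at h
  obtain ⟨⟨hp, h⟩, -⟩ := h
  have hk : ∀ d ≤ C.base.n, Nat.card (closure (G' '' {k | C.base.n - d ≤ k ∧ k < C.base.n} ∪ {w})) ≤
      C.base.p ^ d * orderOf w := by
    intro d hd
    induction d with
    | zero =>
      rw [show {k | C.base.n - 0 ≤ k ∧ k < C.base.n} = (∅ : Set ℕ) by ext k; simp, Set.image_empty, Set.empty_union,
        ← zpowers_eq_closure, Nat.card_zpowers, pow_zero, one_mul]
    | succ d ih =>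
      set i := C.base.n - (d + 1)
      set N := closure (G' '' {k | C.base.n - d ≤ k ∧ k < C.base.n} ∪ {w})
      have hrel : ∀ j, i ≤ j → j < C.base.n → C.relOK i j = true := fun j hij hj =>
        (h i (by omega) j hj).resolve_left (by omega)
      have hin : ∀ x, i < x → x < C.base.n → G' x ∈ N := fun x h1 h2 =>
        subset_closure (Or.inl ⟨x, ⟨by omega, h2⟩, rfl⟩)
      have hwN : w ∈ N := Subgroup.subset_closure (Set.mem_union_right _ rfl)
      have hw : ∀ a : ℤ, w ^ a ∈ N := fun a => zpow_mem hwN a
      have hev : ∀ l : List ℕ, (∀ x ∈ l, i < x ∧ x < C.base.n) → ev G' l ∈ N := fun l hl =>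
        list_prod_mem (fun y hy => by
          obtain ⟨x, hx, rfl⟩ := List.mem_map.mp hy
          exact hin x (hl x hx).1 (hl x hx).2)
      have hshape : ∀ j, i ≤ j → j < C.base.n → CollectP.Cert.shape C.base i j (C.base.fact (C.base.rel i j)).2.2 = true := fun j a b => by
        have := hrel j a b
        simp only [Cert.relOK, Bool.and_eq_true] at this
        exact this.1.2
      have hpow : G' i ^ C.base.p ∈ N := by
        obtain ⟨a₀, e⟩ := rel_sound C hc hq hT hf (hrel i le_rfl (by omega))
        rw [CollectP.Cert.lhs, if_pos (Nat.beq_refl i)] at e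
        rw [show G' i ^ C.base.p = ev G' (List.replicate C.base.p i) by simp [ev, List.map_replicate], e]
        refine mul_mem (hev _ fun x hx => ?_) (hw a₀)
        have := hshape i le_rfl (by omega)
        cases hp' : (C.base.fact (C.base.rel i i)).2.2 with
        | nil => simp [hp'] at hx
        | cons b l =>
          rw [hp'] at this hx
          simp only [CollectP.Cert.shape, Bool.and_eq_true, List.all_eq_true, Nat.blt_eq] at this
          rw [if_pos (Nat.beq_refl i)] at this
          simp only [Bool.and_eq_true, Nat.blt_eq] at this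
          rcases List.mem_cons.mp hx with rfl | hx
          exacts [this.2, this.1 x hx]
      have hconj : ∀ a ∈ N, (G' i)⁻¹ * a * G' i ∈ N := by
        intro a ha
        induction ha using closure_induction with
        | mem y hy =>
          rcases hy with ⟨j, ⟨hj1, hj2⟩, rfl⟩ | rfl
          rotate_left
          · rw [mul_assoc, (zz_comm hc _ _ (G' i)).eq, inv_mul_cancel_left]
            exact hwN
          have hne : Nat.beq j i = false := by
            rw [← Bool.not_eq_true]; intro hb; have := Nat.eq_of_beq_eq_true hb; omega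
          obtain ⟨a₀, e⟩ := rel_sound C hc hq hT hf (hrel j (by omega) hj2)
          rw [CollectP.Cert.lhs, if_neg (by simp [hne]), ev_cons, ev_cons, ev_nil, mul_one] at e
          have := hshape j (by omega) hj2
          cases hp' : (C.base.fact (C.base.rel i j)).2.2 with
          | nil => rw [hp'] at this; simp [CollectP.Cert.shape, hne] at this
          | cons b l =>
            rw [hp'] at this e
            simp only [CollectP.Cert.shape, Bool.and_eq_true, List.all_eq_true, Nat.blt_eq, hne] at this
            obtain ⟨hl, hb⟩ := this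
            obtain rfl : b = i := Nat.eq_of_beq_eq_true (by simpa using hb)
            rw [mul_assoc, show G' j * G' i = G' i * (ev G' l * w ^ a₀) from
              e.trans (by rw [ev_cons, mul_assoc]), inv_mul_cancel_left]
            exact mul_mem (hev l hl) (hw a₀)
        | one => simp
        | mul x y _ _ hx hy =>
          rw [show (G' i)⁻¹ * (x * y) * G' i = ((G' i)⁻¹ * x * G' i) * ((G' i)⁻¹ * y * G' i) by group]
          exact mul_mem hx hy
        | inv x _ hx =>
          rw [show (G' i)⁻¹ * x⁻¹ * G' i = ((G' i)⁻¹ * x * G' i)⁻¹ by group]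
          exact inv_mem hx
      have := card_mul_p N hp hconj hpow (S := G' '' {k | i ≤ k ∧ k < C.base.n} ∪ {w}) (by
        rintro _ (⟨k, ⟨hk1, hk2⟩, rfl⟩ | rfl)
        rotate_left
        · exact Or.inl hwN
        rcases Nat.lt_or_eq_of_le hk1 with hlt | heq
        · exact Or.inl (hin k hlt hk2)
        · exact Or.inr (by rw [heq]))
      calc _ ≤ C.base.p * Nat.card N := this
        _ ≤ C.base.p * (C.base.p ^ d * orderOf w) := Nat.mul_le_mul_left _ (ih (by omega))
        _ = C.base.p ^ (d + 1) * orderOf w := by ring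
  simpa using hk C.base.n le_rfl

/-- Transfer puts every kernel element into the group of the surviving element. -/
theorem pow_index_mem_zpowers {G : Type v} [Group G] {Γ : Type u} [Group Γ] [Finite Γ] {σ : Γ →* G}
    (hσ : Cfsg.IsStemExtension σ) (C : Cert) (hexp : ∀ z ∈ σ.ker, z ^ C.q = 1) (hC : C.check = true)
    (g t : ℕ → G) (ht : t 0 = 1)
    (hfacts : ∀ m < C.base.facts.length, t (C.base.fact m).1 * ev g (C.base.fact m).2.1 * (t (C.base.fact m).1)⁻¹ = ev g (C.base.fact m).2.2)
    (hcard : C.base.p ^ C.base.n ≤ Nat.card (closure (g '' {k | k < C.base.n}))) :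
    ∃ w ∈ σ.ker, w ^ C.r = 1 ∧ ∀ z ∈ σ.ker, z ^ (closure (g '' {k | k < C.base.n})).index ∈ zpowers w := by
  classical
  haveI : Finite G := Finite.of_surjective σ hσ.1
  let Gl : ℕ → Γ := fun k => Function.surjInv hσ.1 (g k)
  let Tl : ℕ → Γ := fun k => if k = 0 then 1 else Function.surjInv hσ.1 (t k)
  let E : ℕ → Γ := fun m => (ev Gl (C.base.fact m).2.2)⁻¹ *
    (Tl (C.base.fact m).1 * ev Gl (C.base.fact m).2.1 * (Tl (C.base.fact m).1)⁻¹)
  have hG : ∀ k, σ (Gl k) = g k := fun k => Function.surjInv_eq hσ.1 _
  have hTl : ∀ k, σ (Tl k) = t k := fun k => by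
    by_cases hk : k = 0
    · simp [Tl, hk, ht]
    · simp [Tl, hk, Function.surjInv_eq hσ.1]
  have hev : ∀ l, σ (ev Gl l) = ev g l := fun l => by rw [map_ev]; simp only [hG]
  have hE : ∀ m, E m ∈ σ.ker := by
    intro m
    rw [MonoidHom.mem_ker]
    simp only [E, map_mul, map_inv, hev, hTl]
    by_cases hm : m < C.base.facts.length
    · rw [hfacts m hm, inv_mul_cancel]
    · have hd : C.base.fact m = (0, [], []) := List.getD_eq_default _ _ (not_lt.mp hm)
      simp [hd, ev_nil, ht]
  have hc : ∀ m x, Commute (E m) x := fun m x => (mem_center_iff.mp (hσ.2.1 (hE m)) x).symm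
  have hq : ∀ m, E m ^ C.q = 1 := fun m => hexp _ (hE m)
  have hf : ∀ m, CollectP.FactAt C.base Gl Tl (E := E) m := fun m => (mul_inv_cancel_left _ _).symm
  set G' := fun k => Gl k * zz E C.base.facts.length (C.base.sv k)
  set w := zz E C.base.facts.length C.ph with hw
  have hle := card_lift C hc hq (by simp [Tl]) hf hC
  set L := closure (G' '' {k | k < C.base.n} ∪ {w}) with hL
  set P := closure (g '' {k | k < C.base.n}) with hP
  have hzk : ∀ N f, zz E N f ∈ σ.ker := by
    intro N f
    induction N with
    | zero => exact one_mem _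
    | succ N ih => exact mul_mem ih (zpow_mem (hE N) _)
  have hG' : ∀ k, σ (G' k) = g k := fun k => by simp [G', hG, MonoidHom.mem_ker.mp (hzk _ _)]
  have hmap : L.map σ = P := by
    rw [hL, hP, MonoidHom.map_closure, Set.image_union, Set.image_singleton, MonoidHom.mem_ker.mp (hzk _ _),
      Set.image_image, Subgroup.closure_union, closure_singleton_one, sup_bot_eq]
    simp only [hG']
  let f : L →* P := (σ.comp L.subtype).codRestrict P fun x => hmap ▸ mem_map_of_mem σ x.2
  have hfs : Function.Surjective f := by
    rintro ⟨y, hy⟩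
    rw [← hmap] at hy
    obtain ⟨x, hx, rfl⟩ := hy
    exact ⟨⟨x, hx⟩, rfl⟩
  have hker : f.ker = (zpowers w).subgroupOf L := by
    refine (eq_of_le_of_card_ge ?_ ?_).symm
    · intro x hx
      obtain ⟨k, hk⟩ := mem_zpowers_iff.mp (mem_subgroupOf.mp hx)
      refine MonoidHom.mem_ker.mpr (Subtype.ext ?_)
      show σ (x : Γ) = 1
      rw [← hk, map_zpow, MonoidHom.mem_ker.mp (hzk _ _), one_zpow]
    · have hwL : zpowers w ≤ L := zpowers_le.mpr (subset_closure (Or.inr rfl))
      rw [Nat.card_congr (subgroupOfEquivOfLe hwL).toEquiv, Nat.card_zpowers]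
      have h1 := f.ker.card_mul_index
      rw [index_ker, MonoidHom.range_eq_top.mpr hfs, card_top] at h1
      refine Nat.le_of_mul_le_mul_right ?_ (Nat.card_pos (α := P))
      rw [h1, mul_comm]
      exact hle.trans (Nat.mul_le_mul_right _ hcard)
  refine ⟨w, hzk _ _, phi_pow C hc hq (by simp [Tl]) hf hC, fun z hz => ?_⟩
  obtain ⟨hmem, hcm⟩ := CfsgLib.StSL.pow_index_mem hσ P hz
  have hcom : commutator (P.comap σ) ≤ L.subgroupOf (P.comap σ) := by
    rw [_root_.commutator_def, commutator_le]
    rintro ⟨a, ha⟩ - ⟨b, hb⟩ -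
    have hdec : ∀ a ∈ P.comap σ, ∃ l ∈ L, σ a = σ l := by
      intro a ha
      rw [mem_comap, ← hmap] at ha
      obtain ⟨l, hl, he⟩ := ha
      exact ⟨l, hl, he.symm⟩
    obtain ⟨la, hla, ea⟩ := hdec a ha
    obtain ⟨lb, hlb, eb⟩ := hdec b hb
    rw [mem_subgroupOf]
    show ⁅a, b⁆ ∈ L
    rw [CfsgLib.StSL.comm_congr hσ.2.1 ea eb]
    exact mul_mem (mul_mem (mul_mem hla hlb) (inv_mem hla)) (inv_mem hlb)
  have hzL : z ^ P.index ∈ L := mem_subgroupOf.mp (hcom hcm)
  have : (⟨_, hzL⟩ : L) ∈ f.ker := MonoidHom.mem_ker.mpr (Subtype.ext (MonoidHom.mem_ker.mp (pow_mem hz _)))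
  rw [hker] at this
  exact mem_subgroupOf.mp this

end CfsgLib.StemSylow.CollectPOne
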