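/-
The multipliers of M23 and M24 are trivial.
-/
import Mathlib
import Cfsg.Agent.Lib.Golay.Mathieu
import Cfsg.Agent.Lib.StemSylow.Basic
import Cfsg.Agent.Lib.StemSylow.CollectGolay
import Cfsg.Agent.Lib.StemSylow.MathieuBigData

set_option autoImplicit false
set_option maxHeartbeats 1000000
set_option maxRecDepth 8000
set_option linter.style.haveILetI false

namespace CfsgLib.StemSylow.MathieuBig

open CfsgGolay Cfsg Subgroup Collect MathieuBigData
open scoped commutatorElement

universe u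

def codes23 : List ℕ := [o5_23, o7_23, o11_23, o23_23, ox_23, oy_23, ot_23]

def codes24 : List ℕ := [o5_24, o7_24, o11_24, o23_24, oa_24, ob_24, oc_24, ot_24]

theorem mem_ok : ((gc23 ++ tc23 ++ codes23).all fun c => permOK c && gensKept c && Nat.beq (papp c 23) 23) = true ∧
    ((gc24 ++ tc24 ++ codes24).all fun c => permOK c && gensKept c) = true ∧
    ((codes23 ++ codes24).all fun c => Nat.blt c (2 ^ 120) && !Nat.beq c pid) = true := by
  decide +kernel

theorem cert23_ok : cert23.check = true ∧ factsOK cert23 gc23 tc23 = true := by decide +kernel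

theorem dist23 : distinctB (prods gc23 cert23.n cert23.n) = true := by decide +kernel

theorem cert24_ok : cert24.check = true ∧ factsOK cert24 gc24 tc24 = true := by decide +kernel

theorem dist24 : distinctB (prods gc24 cert24.n cert24.n) = true := by decide +kernel

theorem odd23 : evC [o5_23] (List.replicate 5 0) = pid ∧ evC [o7_23] (List.replicate 7 0) = pid ∧
    evC [o11_23] (List.replicate 11 0) = pid ∧ evC [o23_23] (List.replicate 23 0) = pid ∧
    evC [ox_23] (List.replicate 3 0) = pid ∧ evC [oy_23] (List.replicate 3 0) = pid ∧ pcomp ox_23 oy_23 = pcomp oy_23 ox_23 ∧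
    pcomp ot_23 ox_23 = pcomp ox_23 ot_23 ∧ pcomp ot_23 oy_23 = pcomp (pcomp oy_23 oy_23) ot_23 ∧
    oy_23 ≠ pid ∧ oy_23 ≠ ox_23 ∧ oy_23 ≠ pcomp ox_23 ox_23 := by
  decide +kernel

theorem odd24 : evC [o5_24] (List.replicate 5 0) = pid ∧ evC [o7_24] (List.replicate 7 0) = pid ∧
    evC [o11_24] (List.replicate 11 0) = pid ∧ evC [o23_24] (List.replicate 23 0) = pid ∧
    evC [oa_24] (List.replicate 3 0) = pid ∧ evC [ob_24] (List.replicate 3 0) = pid ∧ evC [oc_24] (List.replicate 3 0) = pid ∧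
    pcomp oc_24 oa_24 = pcomp oa_24 oc_24 ∧ pcomp oc_24 ob_24 = pcomp ob_24 oc_24 ∧
    pcomp oa_24 ob_24 = pcomp (pcomp oc_24 ob_24) oa_24 ∧
    pcomp ot_24 oc_24 = pcomp oc_24 ot_24 ∧ pcomp ot_24 oa_24 = pcomp (pcomp oa_24 oa_24) ot_24 ∧
    pcomp ot_24 ob_24 = pcomp (pcomp ob_24 ob_24) ot_24 ∧
    oa_24 ≠ oc_24 ∧ oa_24 ≠ pcomp oc_24 oc_24 ∧
    ((evC [oc_24, oa_24] <$> [[], [0], [0, 0], [1], [0, 1], [0, 0, 1], [1, 1], [0, 1, 1], [0, 0, 1, 1]]).contains
      ob_24) = false := by
  decide +kernel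

attribute [local irreducible] evC pid pcomp papp gensKept permOK cert23 cert24

theorem exists23 {c : ℕ} (hc : c ∈ gc23 ++ tc23 ++ codes23) : ∃ g : Spor.M23, Repr c (g : Equiv.Perm GolayPt) := by
  have h := List.all_eq_true.mp mem_ok.1 c hc
  simp only [Bool.and_eq_true] at h
  obtain ⟨g, hg⟩ := exists_repr_of_permOK h.1.1
  refine ⟨⟨g, Subgroup.mem_inf.mpr ⟨mem_M24_of_gensKept hg h.1.2, ?_⟩⟩, hg⟩
  rw [MulAction.mem_stabilizer_iff, Equiv.Perm.smul_def]
  exact idx_injective (by rw [hg]; exact Nat.eq_of_beq_eq_true h.2)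

theorem exists24 {c : ℕ} (hc : c ∈ gc24 ++ tc24 ++ codes24) : ∃ g : M24, Repr c (g : Equiv.Perm GolayPt) := by
  have h := List.all_eq_true.mp mem_ok.2.1 c hc
  simp only [Bool.and_eq_true] at h
  obtain ⟨g, hg⟩ := exists_repr_of_permOK h.1
  exact ⟨⟨g, mem_M24_of_gensKept hg h.2⟩, hg⟩

variable {M : Subgroup (Equiv.Perm GolayPt)}

theorem repr_pow {c : ℕ} {g : M} (hg : Repr c (g : Equiv.Perm GolayPt)) : ∀ n : ℕ,
    Repr (evC [c] (List.replicate n 0)) ((g ^ n : M) : Equiv.Perm GolayPt)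
  | 0 => by simpa [evC] using repr_pid
  | n + 1 => by
    rw [pow_succ', Subgroup.coe_mul, List.replicate_succ, evC]; exact hg.comp (repr_pow hg n)

theorem eq_one_of_pid {g : M} (h : Repr pid (g : Equiv.Perm GolayPt)) : g = 1 :=
  Subtype.ext (h.unique repr_pid)

theorem ne_of {c d : ℕ} {g h : M} (hg : Repr c (g : Equiv.Perm GolayPt)) (hh : Repr d (h : Equiv.Perm GolayPt))
    (hc : c < 2 ^ 120) (hd : d < 2 ^ 120) (hne : c ≠ d) : g ≠ h := by
  rintro rfl
  exact hne (code_eq hc hd hg hh)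

theorem orderOf_code {c : ℕ} {g : M} (hg : Repr c (g : Equiv.Perm GolayPt)) {p : ℕ} [Fact p.Prime]
    (hp : evC [c] (List.replicate p 0) = pid) (hne : c ≠ pid) (hlt : c < 2 ^ 120) : orderOf g = p :=
  orderOf_eq_prime (eq_one_of_pid (hp ▸ repr_pow hg p))
    (ne_of hg (by simpa using repr_pid) hlt pid_lt hne)

theorem index_dvd {G : Type*} [Group G] [Finite G] (P : Subgroup G) {m i : ℕ} (hm : m ∣ Nat.card P) (hpos : 0 < m)
    (hG : Nat.card G = m * i) : P.index ∣ i := by
  obtain ⟨c, hc⟩ := hm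
  exact ⟨c, Nat.eq_of_mul_eq_mul_left hpos (by rw [← hG, ← P.card_mul_index, hc]; ring)⟩

theorem small (c : ℕ) (hc : c ∈ codes23 ++ codes24) : c < 2 ^ 120 ∧ c ≠ pid := by
  have h := List.all_eq_true.mp mem_ok.2.2 c hc
  simp only [Bool.and_eq_true, Nat.blt_eq, Bool.not_eq_true'] at h
  exact ⟨h.1, fun e => by simp [e] at h⟩

theorem eq_one_of_gcd {G : Type*} [Group G] {Γ : Type u} [Group Γ] [Finite Γ] {σ : Γ →* G}
    (hs : ∀ z ∈ σ.ker, ∃ y ∈ σ.ker, y * y = z) {z : Γ} (hz : z ∈ σ.ker) {l : List ℕ}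
    (hl : ∀ i ∈ l, orderOf z ∣ i) {k : ℕ} (hk : l.foldr Nat.gcd 0 = 2 ^ k) : z = 1 := by
  have : orderOf z ∣ l.foldr Nat.gcd 0 := by
    clear hk
    induction l with
    | nil => exact dvd_zero _
    | cons a l ih => exact Nat.dvd_gcd (hl a (by simp)) (ih fun i hi => hl i (List.mem_cons_of_mem _ hi))
  exact eq_one_of_sq_surjective hs k z hz (orderOf_dvd_iff_pow_eq_one.mp (hk ▸ this))

theorem card23 : Nat.card Spor.M23 = 10200960 := by
  rw [show Spor.M23 = (MulAction.stabilizer M24 (none : GolayPt)).map M24.subtype from ?_,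
    Nat.card_congr (liftEquiv _).symm.toEquiv, card_pointStab]
  ext g
  simp only [Spor.M23, Subgroup.mem_inf, MulAction.mem_stabilizer_iff, Subgroup.mem_map]
  exact ⟨fun h => ⟨⟨g, h.1⟩, h.2, rfl⟩, fun ⟨k, hk, e⟩ => e ▸ ⟨k.2, hk⟩⟩

theorem trivial23 : Cfsg.HasCyclicSchurMultiplier ↥Spor.M23 1 := by
  classical
  refine CfsgLib.SchurSmall.trivial_multiplier fun Γ _ _ σ hσ => ?_
  have hsq := sq_surjective_of_codes cert23 gc23 tc23 cert23_ok.1 cert23_ok.2 dist23
    (fun c hc => exists23 (List.mem_append_left _ hc)) (r := 79695) (by rw [card23]; norm_num [cert23])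
    (by decide) hσ
  obtain ⟨e5, e7, e11, e23, ex, ey, exy, etx, ety, ny1, ny2, ny3⟩ := odd23
  obtain ⟨a5, h5⟩ := exists23 (c := o5_23) (by simp [codes23])
  obtain ⟨a7, h7⟩ := exists23 (c := o7_23) (by simp [codes23])
  obtain ⟨a11, h11⟩ := exists23 (c := o11_23) (by simp [codes23])
  obtain ⟨a23, h23⟩ := exists23 (c := o23_23) (by simp [codes23])
  obtain ⟨x, hx⟩ := exists23 (c := ox_23) (by simp [codes23])
  obtain ⟨y, hy⟩ := exists23 (c := oy_23) (by simp [codes23])
  obtain ⟨t, ht⟩ := exists23 (c := ot_23) (by simp [codes23])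
  haveI : Fact (Nat.Prime 3) := ⟨Nat.prime_three⟩
  haveI : Fact (Nat.Prime 5) := ⟨Nat.prime_five⟩
  haveI : Fact (Nat.Prime 7) := ⟨by norm_num⟩
  haveI : Fact (Nat.Prime 11) := ⟨by norm_num⟩
  haveI : Fact (Nat.Prime 23) := ⟨by norm_num⟩
  have hs : ∀ c ∈ codes23, c < 2 ^ 120 ∧ c ≠ pid := fun c hc => small c (List.mem_append_left _ hc)
  have ox : orderOf x = 3 := orderOf_code hx ex (hs _ (by simp [codes23])).2 (hs _ (by simp [codes23])).1
  have oy : orderOf y = 3 := orderOf_code hy ey (hs _ (by simp [codes23])).2 (hs _ (by simp [codes23])).1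
  have hxy : Commute x y := Subtype.ext ((hx.comp hy).unique (exy ▸ hy.comp hx))
  have htx : t * x * t⁻¹ = x := mul_inv_eq_iff_eq_mul.mpr (Subtype.ext ((ht.comp hx).unique (etx ▸ hx.comp ht)))
  have hty : t * y * t⁻¹ = y⁻¹ := by
    rw [mul_inv_eq_iff_eq_mul, show y⁻¹ = y * y from inv_eq_of_mul_eq_one_left (by
      rw [← sq, ← pow_succ]; have := pow_orderOf_eq_one y; rwa [oy] at this)]
    exact Subtype.ext ((ht.comp hy).unique (ety ▸ (hy.comp hy).comp ht))
  have hout : y ∉ zpowers x := by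
    intro hmem
    obtain ⟨k, hk⟩ := (isOfFinOrder_of_finite x).mem_powers_iff_mem_zpowers.mpr hmem
    simp only at hk
    rw [← pow_mod_orderOf, ox] at hk
    have h3 := Nat.mod_lt k (show 3 > 0 by norm_num)
    interval_cases k % 3
    · exact ne_of hy (h := 1) (by simpa using repr_pid) (hs _ (by simp [codes23])).1 pid_lt ny1 (by simpa using hk.symm)
    · exact ne_of hy hx (hs _ (by simp [codes23])).1 (hs _ (by simp [codes23])).1 ny2 (by simpa using hk.symm)
    · exact ne_of hy (h := x * x) (hx.comp hx) (hs _ (by simp [codes23])).1 (pcomp_lt _ _) ny3 (by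
        rw [pow_two] at hk; exact hk.symm)
  have h9 : 3 ^ 2 ∣ Nat.card (closure ({x, y} : Set Spor.M23)) :=
    pow_succ_dvd_card (i := 1) (j := 1) (by rw [pow_one, ox]) (by rw [pow_one, oy])
      (by rw [← hxy.eq, mul_inv_cancel_right]; exact mem_zpowers x) hout
  rw [eq_bot_iff]
  intro z hz
  rw [Subgroup.mem_bot]
  have dcyc : ∀ (g : Spor.M23) (p i : ℕ), orderOf g = p → 0 < p → 10200960 = p * i → orderOf z ∣ i :=
    fun g p i hg hp hi => (orderOf_dvd_of_pow_eq_one (CfsgLib.StSL.pow_index_eq_one_of_cyclic hσ g hz)).trans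
      (index_dvd _ (by rw [Nat.card_zpowers, hg]) hp (card23.trans hi))
  refine eq_one_of_gcd hsq hz (l := [2040192, 1457280, 927360, 443520, 1133440]) (k := 7) ?_ (by norm_num)
  intro i hi
  simp only [List.mem_cons, List.not_mem_nil, or_false] at hi
  rcases hi with rfl | rfl | rfl | rfl | rfl
  · exact dcyc a5 5 _ (orderOf_code h5 e5 (hs _ (by simp [codes23])).2 (hs _ (by simp [codes23])).1) (by norm_num) (by norm_num)
  · exact dcyc a7 7 _ (orderOf_code h7 e7 (hs _ (by simp [codes23])).2 (hs _ (by simp [codes23])).1) (by norm_num) (by norm_num)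
  · exact dcyc a11 11 _ (orderOf_code h11 e11 (hs _ (by simp [codes23])).2 (hs _ (by simp [codes23])).1) (by norm_num) (by norm_num)
  · exact dcyc a23 23 _ (orderOf_code h23 e23 (hs _ (by simp [codes23])).2 (hs _ (by simp [codes23])).1) (by norm_num) (by norm_num)
  · exact (orderOf_dvd_of_pow_eq_one (pow_index_eq_one_of_twist hσ rfl (ox ▸ pow_orderOf_eq_one x) hxy htx hty hz)).trans
      (index_dvd _ h9 (by norm_num) (card23.trans (by norm_num)))

theorem trivial24 : Cfsg.HasCyclicSchurMultiplier ↥M24 1 := by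
  classical
  refine CfsgLib.SchurSmall.trivial_multiplier fun Γ _ _ σ hσ => ?_
  have hsq := sq_surjective_of_codes cert24 gc24 tc24 cert24_ok.1 cert24_ok.2 dist24
    (fun c hc => exists24 (List.mem_append_left _ hc)) (r := 239085) (by rw [card_M24]; norm_num [cert24])
    (by decide) hσ
  obtain ⟨e5, e7, e11, e23, ea, eb, ec, eca, ecb, eab, etc, eta, etb, na1, na2, nb⟩ := odd24
  obtain ⟨a5, h5⟩ := exists24 (c := o5_24) (by simp [codes24])
  obtain ⟨a7, h7⟩ := exists24 (c := o7_24) (by simp [codes24])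
  obtain ⟨a11, h11⟩ := exists24 (c := o11_24) (by simp [codes24])
  obtain ⟨a23, h23⟩ := exists24 (c := o23_24) (by simp [codes24])
  obtain ⟨a, ha⟩ := exists24 (c := oa_24) (by simp [codes24])
  obtain ⟨b, hb⟩ := exists24 (c := ob_24) (by simp [codes24])
  obtain ⟨c, hc⟩ := exists24 (c := oc_24) (by simp [codes24])
  obtain ⟨t, ht⟩ := exists24 (c := ot_24) (by simp [codes24])
  haveI : Fact (Nat.Prime 3) := ⟨Nat.prime_three⟩
  haveI : Fact (Nat.Prime 5) := ⟨Nat.prime_five⟩
  haveI : Fact (Nat.Prime 7) := ⟨by norm_num⟩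
  haveI : Fact (Nat.Prime 11) := ⟨by norm_num⟩
  haveI : Fact (Nat.Prime 23) := ⟨by norm_num⟩
  have hs : ∀ c ∈ codes24, c < 2 ^ 120 ∧ c ≠ pid := fun c hc => small c (List.mem_append_right _ hc)
  have oA : orderOf a = 3 := orderOf_code ha ea (hs _ (by simp [codes24])).2 (hs _ (by simp [codes24])).1
  have oB : orderOf b = 3 := orderOf_code hb eb (hs _ (by simp [codes24])).2 (hs _ (by simp [codes24])).1
  have oC : orderOf c = 3 := orderOf_code hc ec (hs _ (by simp [codes24])).2 (hs _ (by simp [codes24])).1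
  have ha3 : a ^ 3 = 1 := oA ▸ pow_orderOf_eq_one a
  have hb3 : b ^ 3 = 1 := oB ▸ pow_orderOf_eq_one b
  have hc3 : c ^ 3 = 1 := oC ▸ pow_orderOf_eq_one c
  have hca : Commute c a := Subtype.ext ((hc.comp ha).unique (eca ▸ ha.comp hc))
  have hcb : Commute c b := Subtype.ext ((hc.comp hb).unique (ecb ▸ hb.comp hc))
  have hab : a * b = c * b * a := Subtype.ext ((ha.comp hb).unique (eab ▸ (hc.comp hb).comp ha))
  have hcd : ⁅a, b⁆ = c := by rw [commutatorElement_def, hab]; group
  have htc : t * c * t⁻¹ = c := mul_inv_eq_iff_eq_mul.mpr (Subtype.ext ((ht.comp hc).unique (etc ▸ hc.comp ht)))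
  have hta : t * a * t⁻¹ = a⁻¹ := by
    rw [mul_inv_eq_iff_eq_mul, show a⁻¹ = a * a from inv_eq_of_mul_eq_one_left (by rw [← sq, ← pow_succ, ha3])]
    exact Subtype.ext ((ht.comp ha).unique (eta ▸ (ha.comp ha).comp ht))
  have htb : t * b * t⁻¹ = b⁻¹ := by
    rw [mul_inv_eq_iff_eq_mul, show b⁻¹ = b * b from inv_eq_of_mul_eq_one_left (by rw [← sq, ← pow_succ, hb3])]
    exact Subtype.ext ((ht.comp hb).unique (etb ▸ (hb.comp hb).comp ht))
  have hout : a ∉ zpowers c := by
    intro hmem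
    obtain ⟨k, hk⟩ := (isOfFinOrder_of_finite c).mem_powers_iff_mem_zpowers.mpr hmem
    simp only at hk
    rw [← pow_mod_orderOf, oC] at hk
    have h3 := Nat.mod_lt k (show 3 > 0 by norm_num)
    interval_cases k % 3
    · exact ne_of ha (h := 1) (by simpa using repr_pid) (hs _ (by simp [codes24])).1 pid_lt (hs _ (by simp [codes24])).2
        (by simpa using hk.symm)
    · exact ne_of ha hc (hs _ (by simp [codes24])).1 (hs _ (by simp [codes24])).1 na1 (by simpa using hk.symm)
    · exact ne_of ha (h := c * c) (hc.comp hc) (hs _ (by simp [codes24])).1 (pcomp_lt _ _) na2 (by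
        rw [pow_two] at hk; exact hk.symm)
  set N := closure ({c, a} : Set M24) with hN
  have h9 : 3 ^ 2 ∣ Nat.card N :=
    pow_succ_dvd_card (i := 1) (j := 1) (by rw [pow_one, oC]) (by rw [pow_one, oA])
      (by rw [← hca.eq, mul_inv_cancel_right]; exact mem_zpowers c) hout
  have hNa : ∀ x ∈ N, ∃ i < 3, ∃ j < 3, x = c ^ i * a ^ j := by
    intro x hx
    rw [hN] at hx
    induction hx using closure_induction with
    | mem y hy =>
      rcases hy with rfl | rfl
      · exact ⟨1, by norm_num, 0, by norm_num, by simp⟩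
      · exact ⟨0, by norm_num, 1, by norm_num, by simp⟩
    | one => exact ⟨0, by norm_num, 0, by norm_num, by simp⟩
    | mul u v _ _ hu hv =>
      obtain ⟨i, -, j, -, rfl⟩ := hu
      obtain ⟨k, -, l, -, rfl⟩ := hv
      refine ⟨(i + k) % 3, Nat.mod_lt _ (by norm_num), (j + l) % 3, Nat.mod_lt _ (by norm_num), ?_⟩
      rw [← oC, pow_mod_orderOf, oC, ← oA, pow_mod_orderOf, pow_add, pow_add,
        (hca.symm.pow_pow j k).mul_mul_mul_comm]
    | inv u _ hu =>
      obtain ⟨i, hi, j, hj, rfl⟩ := hu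
      refine ⟨(3 - i) % 3, Nat.mod_lt _ (by norm_num), (3 - j) % 3, Nat.mod_lt _ (by norm_num), ?_⟩
      rw [← oC, pow_mod_orderOf, oC, ← oA, pow_mod_orderOf, oA]
      refine inv_eq_of_mul_eq_one_right ?_
      rw [(hca.symm.pow_pow j (3 - i)).mul_mul_mul_comm, ← pow_add, ← pow_add, Nat.add_sub_cancel' hi.le,
        Nat.add_sub_cancel' hj.le, ha3, hc3, one_mul]
  have hbN : b ∉ N := by
    intro hmem
    obtain ⟨i, hi, j, hj, e⟩ := hNa b hmem
    have hr : ∀ i j : ℕ, Repr (evC [oc_24, oa_24] (List.replicate i 0 ++ List.replicate j 1))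
        ((c ^ i * a ^ j : M24) : Equiv.Perm GolayPt) := by
      intro i j
      induction i with
      | zero =>
        induction j with
        | zero => simpa [evC] using repr_pid
        | succ j ih =>
          rw [pow_zero, one_mul, pow_succ', Subgroup.coe_mul, List.replicate_zero, List.nil_append,
            List.replicate_succ, evC]
          rw [pow_zero, one_mul, List.replicate_zero, List.nil_append] at ih
          exact ha.comp ih
      | succ i ih =>
        rw [pow_succ', mul_assoc, Subgroup.coe_mul, List.replicate_succ, List.cons_append, evC]; exact hc.comp ih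
    have hlt : evC [oc_24, oa_24] (List.replicate i 0 ++ List.replicate j 1) < 2 ^ 120 := by
      cases (List.replicate i 0 ++ List.replicate j 1) with
      | nil => rw [evC]; exact pid_lt
      | cons => rw [evC]; exact pcomp_lt _ _
    have := code_eq (hs _ (by simp [codes24])).1 hlt hb (e ▸ hr i j)
    refine Bool.false_ne_true (nb.symm.trans (List.contains_iff_mem.mpr ?_))
    rw [this]
    refine List.mem_map_of_mem ?_
    interval_cases i <;> interval_cases j <;> decide
  have hP : IsPGroup 3 N := by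
    have hC : IsPGroup 3 (zpowers c) := IsPGroup.of_card (n := 1) (by rw [Nat.card_zpowers, oC, pow_one])
    have hA : IsPGroup 3 (zpowers a) := IsPGroup.of_card (n := 1) (by rw [Nat.card_zpowers, oA, pow_one])
    have hn : zpowers a ≤ normalizer (zpowers c : Set M24) := by
      rw [zpowers_le, mem_normalizer_iff_map_conj_eq, MonoidHom.map_zpowers]
      congr 1
      exact mul_inv_eq_iff_eq_mul.mpr hca.eq.symm
    rw [hN, Set.insert_eq, Subgroup.closure_union, ← zpowers_eq_closure, ← zpowers_eq_closure]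
    exact hC.to_sup_of_normal_left' hA hn
  have h27 : 3 ^ 3 ∣ Nat.card (closure ({a, b} : Set M24)) := by
    set P := closure ({a, b} : Set M24)
    have hA' : a ∈ P := subset_closure (Or.inl rfl)
    have hB' : b ∈ P := subset_closure (Or.inr rfl)
    have hC' : c ∈ P := hcd ▸ mul_mem (mul_mem (mul_mem hA' hB') (inv_mem hA')) (inv_mem hB')
    have hle : N ⊔ zpowers b ≤ P :=
      sup_le ((closure_le _).mpr (by rintro _ (rfl | rfl); exacts [hC', hA'])) ((zpowers_le).mpr hB')
    have hn : zpowers b ≤ normalizer (N : Set M24) := by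
      have e : N.map (MulAut.conj b).toMonoidHom ≤ N := by
        rw [hN, MonoidHom.map_closure, closure_le]
        rintro _ ⟨y, (e | e), rfl⟩
        · rw [e]; show b * c * b⁻¹ ∈ closure ({c, a} : Set M24)
          rw [← hcb.eq, mul_inv_cancel_right]
          exact subset_closure (Or.inl rfl)
        · rw [e]; show b * a * b⁻¹ ∈ closure ({c, a} : Set M24)
          rw [show b * a * b⁻¹ = c⁻¹ * a by
            rw [mul_inv_eq_iff_eq_mul, mul_assoc, hab, mul_assoc c, inv_mul_cancel_left]]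
          exact mul_mem (inv_mem (subset_closure (Or.inl rfl))) (subset_closure (Or.inr rfl))
      rw [zpowers_le, mem_normalizer_iff_map_conj_eq]
      exact eq_of_le_of_card_ge e (le_of_eq (card_map_of_injective (MulAut.conj b).injective).symm)
    have hQ := hP.to_sup_of_normal_left' (IsPGroup.of_card (n := 1) (by rw [Nat.card_zpowers, oB, pow_one]) : IsPGroup 3 (zpowers b)) hn
    obtain ⟨k, hk⟩ := IsPGroup.iff_card.mp hQ
    have h1 : Nat.card N < Nat.card (N ⊔ zpowers b : Subgroup M24) := by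
      by_contra hlt
      exact hbN ((eq_of_le_of_card_ge (le_sup_left : N ≤ N ⊔ zpowers b) (not_lt.mp hlt)) ▸
        mem_sup_right (mem_zpowers b))
    have h2 := Nat.le_of_dvd Nat.card_pos h9
    have h3 : 3 ≤ k := by
      by_contra hk3
      have : 3 ^ k ≤ 3 ^ 2 := Nat.pow_le_pow_right (by norm_num) (by omega)
      omega
    exact (pow_dvd_pow 3 h3).trans (hk ▸ card_dvd_of_le hle)
  rw [eq_bot_iff]
  intro z hz
  rw [Subgroup.mem_bot]
  have dcyc : ∀ (g : M24) (p i : ℕ), orderOf g = p → 0 < p → 244823040 = p * i → orderOf z ∣ i :=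
    fun g p i hg hp hi => (orderOf_dvd_of_pow_eq_one (CfsgLib.StSL.pow_index_eq_one_of_cyclic hσ g hz)).trans
      (index_dvd _ (by rw [Nat.card_zpowers, hg]) hp (card_M24.trans hi))
  refine eq_one_of_gcd hsq hz (l := [48964608, 34974720, 22256640, 10644480, 9067520]) (k := 10) ?_ (by norm_num)
  intro i hi
  simp only [List.mem_cons, List.not_mem_nil, or_false] at hi
  rcases hi with rfl | rfl | rfl | rfl | rfl
  · exact dcyc a5 5 _ (orderOf_code h5 e5 (hs _ (by simp [codes24])).2 (hs _ (by simp [codes24])).1) (by norm_num) (by norm_num)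
  · exact dcyc a7 7 _ (orderOf_code h7 e7 (hs _ (by simp [codes24])).2 (hs _ (by simp [codes24])).1) (by norm_num) (by norm_num)
  · exact dcyc a11 11 _ (orderOf_code h11 e11 (hs _ (by simp [codes24])).2 (hs _ (by simp [codes24])).1) (by norm_num) (by norm_num)
  · exact dcyc a23 23 _ (orderOf_code h23 e23 (hs _ (by simp [codes24])).2 (hs _ (by simp [codes24])).1) (by norm_num) (by norm_num)
  · exact (orderOf_dvd_of_pow_eq_one (pow_index_eq_one_of_heisenberg hσ ha3 hcd hca hcb oC htc hta htb hz)).trans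
      (index_dvd _ h27 (by norm_num) (card_M24.trans (by norm_num)))

end CfsgLib.StemSylow.MathieuBig
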