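/-
A certificate for the two-part of the multiplier of M12 (checked in `Lib/StemSylow/MathieuTwelve.lean`).
-/
import Cfsg.Agent.Lib.StemSylow.CollectMod

set_option autoImplicit false

namespace CfsgLib.StemSylow.MathieuTwelveData

def gc : List ℕ :=
  [464373968813160726540726377266033700,
    309394893636088018913975142009014307,
    464120453117036112015107206102452260,
    732588243999094229886711587426796611,
    879747377833504757950915806840960306,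
    641539405018055763068748494921016740]

def tc : List ℕ :=
  [984818244535754528103549039458486304,
    235669498392476619076543152132400525,
    612008639205258681266457277746252198,
    859946957563794988283433906888680002,
    715468893265941891121513062578798692,
    944003683170352588028471548308656130,
    305472778612194014989349205586428297]

def cert : CollectMod.Cert where
  n := 6
  q := 4
  r := 2
  fuel := 288
  facts := [
    (0, [0, 0], [1]),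
    (0, [1, 0], [0, 1]),
    (0, [2, 0], [0, 1, 2]),
    (0, [3, 0], [0, 1, 2, 3, 4]),
    (0, [4, 0], [0, 1, 3, 5]),
    (0, [5, 0], [0, 2, 3]),
    (0, [1, 1], [3, 4, 5]),
    (0, [2, 1], [1, 2, 3, 4, 5]),
    (0, [3, 1], [1, 4, 5]),
    (0, [4, 1], [1, 3, 5]),
    (0, [5, 1], [1, 5]),
    (0, [2, 2], [3, 4, 5]),
    (0, [3, 2], [2, 4, 5]),
    (0, [4, 2], [2, 4]),
    (0, [5, 2], [2, 3, 4]),
    (0, [3, 3], []),
    (0, [4, 3], [3, 4]),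
    (0, [5, 3], [3, 5]),
    (0, [4, 4], []),
    (0, [5, 4], [4, 5]),
    (0, [5, 5], []),
    (1, [0, 4], [3, 4, 5]),
    (1, [1, 2, 3, 5], [2, 3, 4]),
    (2, [1, 4, 5], [1, 2, 3, 5]),
    (2, [3, 4, 5], [0, 4]),
    (3, [0, 2], [1, 2, 3, 5]),
    (3, [1, 2, 4], [0, 3, 5]),
    (4, [3], [5]),
    (4, [5], [4]),
    (5, [3], [5]),
    (5, [5], [3, 5]),
    (6, [2, 5], [1, 4, 5]),
    (6, [3, 5], [5]),
    (6, [4], [1, 3, 5])
  ]
  eqs := [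
    .ins [0] [0, 0] [],
    .ins [1] [1, 0] [],
    .ins [1] [1, 1] [],
    .ins [2] [0, 0] [],
    .ins [2] [1, 0] [],
    .ins [2] [1, 1] [],
    .ins [2] [2, 0] [],
    .ins [2] [2, 1] [],
    .ins [3] [0, 0] [],
    .ins [3] [1, 0] [],
    .ins [3] [2, 0] [],
    .ins [3] [2, 1] [],
    .ins [3] [3, 0] [],
    .ins [3] [3, 1] [],
    .ins [4] [0, 0] [],
    .ins [4] [1, 0] [],
    .conj [21, 21] [],
    .conj [22, 21] [21, 22],
    .conj [22, 22] [],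
    .conj [23, 23] [],
    .conj [24, 24] [],
    .conj [25, 25] [],
    .conj [26, 26] [],
    .conj [27, 27] [],
    .conj [28, 28] [],
    .conj [29, 29] [],
    .conj [30, 30] [],
    .conj [31, 31] [],
    .conj [32, 32] [],
    .conj [33, 32] [32, 33],
    .conj [33, 33] []
  ]
  s := [
    [0, 0, 0, 0, 0, 0, 0, 0, 0, 0, 0, 0, 0, 0, 0, 0, 0, 0, 0, 0, 0, 3, 2, 0, 0, 0, 0, 3, 0, 0, 0, 0, 0, 0],
    [3, 0, 0, 1, 3, 3, 0, 0, 0, 0, 0, 0, 0, 0, 0, 0, 0, 0, 0, 0, 0, 2, 2, 0, 0, 0, 0, 0, 0, 0, 0, 0, 0, 0],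
    [2, 0, 2, 2, 2, 3, 0, 0, 0, 0, 0, 0, 0, 0, 0, 0, 0, 0, 0, 0, 0, 0, 0, 0, 0, 0, 0, 1, 0, 0, 0, 0, 0, 0],
    [2, 0, 2, 2, 3, 2, 0, 0, 0, 0, 0, 0, 0, 0, 0, 0, 0, 0, 0, 0, 0, 0, 1, 0, 0, 0, 0, 0, 0, 0, 0, 0, 0, 0],
    [1, 0, 0, 0, 1, 0, 0, 0, 0, 0, 0, 0, 0, 0, 0, 0, 0, 0, 0, 0, 0, 2, 2, 0, 0, 0, 0, 3, 0, 0, 0, 0, 0, 0],
    [0, 0, 0, 0, 1, 0, 0, 0, 0, 0, 0, 0, 0, 0, 0, 0, 0, 0, 0, 0, 0, 0, 1, 0, 0, 0, 0, 1, 0, 0, 0, 0, 0, 0]
  ]
  phi := [0, 0, 0, 0, 0, 0, 0, 0, 0, 0, 1, 0, 0, 0, 0, 0, 0, 0, 0, 0, 0, 0, 0, 0, 0, 0, 0, 0, 0, 0, 0, 0, 0, 0]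
  combos := [
    ([(0, 1), (1, 2), (4, 1), (5, 3), (6, 1), (7, 2), (8, 1), (9, 2), (11, 1), (13, 3), (14, 1), (15, 1), (16, 2), (17, 3), (18, 1), (23, 3), (29, 3)], 1),
    ([(0, 1)], 0),
    ([(0, 3), (1, 2), (2, 3), (4, 2), (6, 3), (7, 2), (8, 3), (9, 2), (11, 1), (12, 2), (13, 2), (14, 2), (15, 2), (16, 3), (18, 3), (23, 2), (29, 2)], 1),
    ([(1, 1), (2, 1), (3, 3), (4, 1), (6, 3), (7, 2), (9, 3), (10, 3), (11, 3), (13, 3), (14, 1), (16, 2), (17, 2), (18, 2)], 0),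
    ([(0, 1), (1, 3), (2, 1), (3, 3), (4, 2), (5, 3), (8, 1), (9, 1), (10, 3), (13, 2), (14, 2), (15, 1), (17, 1), (18, 3), (23, 3), (29, 3)], 1),
    ([], 0),
    ([(0, 3), (1, 1), (2, 1), (3, 1), (5, 1), (6, 1), (7, 3), (10, 2), (11, 2), (12, 2), (13, 3), (15, 2), (16, 1), (17, 2), (23, 2), (29, 3)], 3),
    ([(0, 1), (1, 1), (2, 1), (4, 1), (5, 2), (6, 1), (7, 1), (9, 3), (10, 1), (11, 1), (12, 2), (13, 2), (14, 1), (15, 2), (16, 3), (18, 2), (23, 2), (29, 3)], 3),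
    ([(0, 1), (1, 1), (2, 2), (4, 1), (6, 3), (8, 3), (9, 3), (10, 2), (11, 3), (13, 2), (14, 1), (15, 2), (16, 3), (17, 3), (18, 3), (23, 2), (29, 3)], 1),
    ([(3, 1), (4, 1), (5, 3), (6, 1), (7, 1), (8, 2), (10, 2), (11, 3), (12, 2), (14, 1), (15, 1), (16, 1), (23, 1), (29, 3)], 1),
    ([], 1),
    ([(0, 2), (1, 3), (2, 2), (3, 2), (5, 2), (7, 1), (8, 1), (10, 1), (12, 3), (13, 2), (15, 3), (16, 3), (17, 3), (18, 2), (23, 3)], 3),
    ([(0, 1), (1, 3), (2, 1), (3, 3), (4, 2), (5, 3), (7, 2), (9, 1), (10, 1), (11, 3), (13, 2), (14, 2), (15, 1), (16, 3), (18, 3), (23, 2), (29, 2)], 0),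
    ([(0, 2), (1, 3), (2, 1), (5, 2), (7, 3), (9, 2), (10, 3), (11, 3), (12, 3)], 3),
    ([(4, 2), (5, 3), (7, 2), (8, 2), (9, 1), (10, 1), (11, 3), (12, 2), (13, 2), (14, 2), (16, 3), (18, 3), (23, 3), (29, 2)], 3),
    ([(2, 2), (3, 2), (6, 1), (7, 3), (8, 1), (9, 1), (11, 1), (15, 1), (17, 3), (18, 1)], 3),
    ([(2, 1), (3, 1), (4, 1), (5, 2), (8, 2), (9, 3), (12, 3), (14, 1), (15, 3), (29, 3)], 3),
    ([(0, 3), (1, 3), (4, 1), (5, 3), (6, 3), (7, 2), (9, 1), (11, 3), (12, 3), (14, 1), (15, 1), (17, 2), (29, 3)], 3),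
    ([(0, 1), (1, 2), (3, 2), (4, 1), (6, 2), (7, 3), (8, 2), (9, 1), (10, 1), (13, 2), (14, 1), (15, 2), (16, 2), (17, 2), (18, 2), (23, 3), (29, 3)], 1),
    ([(0, 1), (1, 2), (2, 2), (4, 3), (5, 3), (6, 2), (7, 1), (8, 2), (9, 3), (10, 1), (11, 3), (12, 2), (14, 3), (17, 2), (29, 1)], 1),
    ([(2, 2), (3, 2), (6, 1), (7, 3), (8, 1), (9, 1), (11, 1), (15, 1), (17, 3), (18, 1), (23, 1)], 3)
  ]
  rphi := [(0, 2), (1, 1), (2, 3), (3, 1), (4, 3), (5, 2), (6, 1), (7, 1), (9, 1), (10, 3), (14, 3), (29, 2)]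

def o11 : ℕ := 652422028638584926704230614133377320

def o5 : ℕ := 980871474760835060384145411707806226

def oa : ℕ := 440949291908440325757369650558542214

def ob : ℕ := 983338726875792731546107439464171565

def oc : ℕ := 962343976776499607049640796047558752

def ot : ℕ := 429890168524560591739234203161866342

end CfsgLib.StemSylow.MathieuTwelveData
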