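/-
Stem extensions of M12 have kernel of order at most two.
-/
import Mathlib
import Cfsg.Agent.Lib.Golay.Mathieu
import Cfsg.Agent.Lib.Golay.Elems
import Cfsg.Agent.Lib.StemSylow.Basic
import Cfsg.Agent.Lib.StemSylow.CollectGolay
import Cfsg.Agent.Lib.StemSylow.MathieuTwelveData

set_option autoImplicit false
set_option maxRecDepth 8000
set_option linter.style.haveILetI false

namespace CfsgLib.StemSylow.MathieuTwelve

open CfsgGolay Cfsg Subgroup MathieuTwelveData
open CfsgLib.StemSylow.Collect (evC prods distinctB nodup_of_distinctB length_prods pid_lt code_eq repr_ev ev ev_nil)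
open scoped commutatorElement

universe u

/-- All facts hold on codes. -/
def factsOK : Bool :=
  Nat.beq (tc.getD 0 pid) pid && (List.range cert.facts.length).all fun m =>
    Nat.beq (pcomp (tc.getD (cert.fact m).1 pid) (evC gc (cert.fact m).2.1))
      (pcomp (evC gc (cert.fact m).2.2) (tc.getD (cert.fact m).1 pid))

def oddCodes : List ℕ := [o5, o11, oa, ob, oc, ot]

theorem mem_ok : ((gc ++ tc ++ oddCodes).all fun c => permOK c && gensKept c && inSub [] [340831] c) = true ∧
    (oddCodes.all fun c => Nat.blt c (2 ^ 120) && !Nat.beq c pid) = true := by decide +kernel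

theorem cert_ok : cert.check = true ∧ factsOK = true ∧ distinctB (prods gc cert.n cert.n) = true := by
  decide +kernel

theorem odd_ok : evC [o5] (List.replicate 5 0) = pid ∧ evC [o11] (List.replicate 11 0) = pid ∧
    evC [oa] (List.replicate 3 0) = pid ∧ evC [ob] (List.replicate 3 0) = pid ∧ evC [oc] (List.replicate 3 0) = pid ∧
    pcomp oc oa = pcomp oa oc ∧ pcomp oc ob = pcomp ob oc ∧ pcomp oa ob = pcomp (pcomp oc ob) oa ∧
    pcomp ot oc = pcomp oc ot ∧ pcomp ot oa = pcomp (pcomp oa oa) ot ∧ pcomp ot ob = pcomp (pcomp ob ob) ot := by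
  decide +kernel

theorem exists_elem {c : ℕ} (hc : c ∈ gc ++ tc ++ oddCodes) : ∃ g : Spor.M12, Repr c (g : Equiv.Perm GolayPt) := by
  have h := List.all_eq_true.mp mem_ok.1 c hc
  simp only [Bool.and_eq_true] at h
  obtain ⟨g, hg⟩ := exists_repr_of_permOK h.1.1
  exact ⟨⟨g, by rw [M12_eq]; exact mem_subG_of_inSub (mem_M24_of_gensKept hg h.1.2) hg h.2⟩, hg⟩

attribute [local irreducible] evC pid pcomp papp gensKept permOK cert

theorem repr_pow {c : ℕ} {g : Spor.M12} (hg : Repr c (g : Equiv.Perm GolayPt)) : ∀ n : ℕ,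
    Repr (evC [c] (List.replicate n 0)) ((g ^ n : Spor.M12) : Equiv.Perm GolayPt)
  | 0 => by rw [List.replicate_zero, evC]; simpa using repr_pid
  | n + 1 => by rw [pow_succ', Subgroup.coe_mul, List.replicate_succ, evC]; exact hg.comp (repr_pow hg n)

theorem orderOf_code {c : ℕ} {g : Spor.M12} (hg : Repr c (g : Equiv.Perm GolayPt)) (hc : c ∈ oddCodes) {p : ℕ}
    [Fact p.Prime] (hp : evC [c] (List.replicate p 0) = pid) : orderOf g = p := by
  have h := List.all_eq_true.mp mem_ok.2 c hc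
  simp only [Bool.and_eq_true, Nat.blt_eq, Bool.not_eq_true'] at h
  refine orderOf_eq_prime (Subtype.ext ((hp ▸ repr_pow hg p).unique repr_pid)) ?_
  rintro rfl
  have hbad : c = pid := code_eq (g := (1 : Spor.M12)) h.1 pid_lt hg (by simpa using repr_pid)
  exact Bool.false_ne_true ((hbad ▸ h.2 : Nat.beq pid pid = false).symm.trans (Nat.beq_refl pid))

/-- The two-part of the certificate, on any stem extension with kernel of exponent four. -/
theorem exp_four {Γ : Type u} [Group Γ] [Finite Γ] {σ : Γ →* Spor.M12} (hσ : Cfsg.IsStemExtension σ)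
    (hexp : ∀ z ∈ σ.ker, z ^ 4 = 1) : ∃ w ∈ σ.ker, w ^ 2 = 1 ∧ σ.ker ≤ zpowers w := by
  classical
  have hex : ∀ (l : List ℕ), (∀ c ∈ l, ∃ g : Spor.M12, Repr c (g : Equiv.Perm GolayPt)) →
      ∀ k, ∃ g : Spor.M12, Repr (l.getD k pid) (g : Equiv.Perm GolayPt) := by
    intro l hl k
    rcases Nat.lt_or_ge k l.length with h | h
    · exact hl _ (by rw [List.getD_eq_getElem _ _ h]; exact List.getElem_mem h)
    · exact ⟨1, by rw [List.getD_eq_default _ _ h]; simpa using repr_pid⟩
  choose g hg using hex gc fun c hc => exists_elem (List.mem_append_left _ (List.mem_append_left _ hc))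
  choose t ht using hex tc fun c hc => exists_elem (List.mem_append_left _ (List.mem_append_right _ hc))
  obtain ⟨hC, hf, hd⟩ := cert_ok
  simp only [factsOK, Bool.and_eq_true, List.all_eq_true, List.mem_range] at hf
  obtain ⟨hf0, hf⟩ := hf
  have ht0 : t 0 = 1 := Subtype.ext ((ht 0).unique (by rw [Nat.eq_of_beq_eq_true hf0]; simpa using repr_pid))
  have hfacts : ∀ m < cert.facts.length,
      t (cert.fact m).1 * ev g (cert.fact m).2.1 * (t (cert.fact m).1)⁻¹ = ev g (cert.fact m).2.2 := by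
    intro m hm
    rw [mul_inv_eq_iff_eq_mul]
    refine Subtype.ext (Repr.unique (c := pcomp (tc.getD (cert.fact m).1 pid) (evC gc (cert.fact m).2.1)) ?_ ?_)
    · rw [Subgroup.coe_mul]; exact (ht _).comp (repr_ev hg _)
    · rw [Nat.eq_of_beq_eq_true (hf m hm), Subgroup.coe_mul]; exact (repr_ev hg _).comp (ht _)
  set P := closure (g '' {k | k < cert.n}) with hP
  have hprods : ∀ d ≤ cert.n, ∀ c ∈ prods gc cert.n d, c < 2 ^ 120 ∧ ∃ x ∈ P, Repr c (x : Equiv.Perm GolayPt) := by
    intro d hd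
    induction d with
    | zero =>
      intro c hc
      simp only [prods, List.mem_singleton] at hc
      subst hc
      exact ⟨pid_lt, 1, one_mem _, by simpa using repr_pid⟩
    | succ d ih =>
      intro c hc
      rcases List.mem_append.mp hc with hc | hc
      · exact ih (by omega) c hc
      · obtain ⟨c', hc', rfl⟩ := List.mem_map.mp hc
        obtain ⟨-, x, hx, hr⟩ := ih (by omega) c' hc'
        refine ⟨pcomp_lt _ _, g (cert.n - (d + 1)) * x, mul_mem (subset_closure ⟨_, ?_, rfl⟩) hx, ?_⟩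
        · show cert.n - (d + 1) < cert.n
          omega
        · rw [Subgroup.coe_mul]; exact (hg _).comp hr
  have hlow : 2 ^ cert.n ≤ Nat.card P := by
    choose x hx hxr using fun c (hc : c ∈ prods gc cert.n cert.n) => (hprods cert.n le_rfl c hc).2
    let F : {c // c ∈ prods gc cert.n cert.n} → P := fun c => ⟨x c.1 c.2, hx c.1 c.2⟩
    have hF : Function.Injective F := fun a b h => Subtype.ext (code_eq (hprods cert.n le_rfl _ a.2).1
      (hprods cert.n le_rfl _ b.2).1 (hxr a.1 a.2) (by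
        have e : x a.1 a.2 = x b.1 b.2 := congrArg Subtype.val h
        rw [e]; exact hxr b.1 b.2))
    refine le_trans (le_of_eq ?_) (Nat.card_le_card_of_injective F hF)
    rw [Nat.subtype_card (prods gc cert.n cert.n).toFinset (fun c => List.mem_toFinset),
      List.toFinset_card_of_nodup (nodup_of_distinctB hd), length_prods]
  have hup : Nat.card P ≤ 2 ^ cert.n := by
    have h1 : ∀ m (y : Spor.M12), Commute ((fun _ => 1 : ℕ → Spor.M12) m) y := fun _ y => Commute.one_left y
    have hz : ∀ N f, CollectMod.zz (fun _ => (1 : Spor.M12)) N f = 1 := fun N f => by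
      induction N with
      | zero => rfl
      | succ N ih => simp [CollectMod.zz, ih]
    have := CollectMod.card_lift cert (Gl := g) (Tl := t) (E := fun _ => 1) h1 (fun _ => one_pow _) ht0 (fun m => by
      show _ = _ * (1 : Spor.M12)
      rw [mul_one]
      by_cases hm : m < cert.facts.length
      · exact hfacts m hm
      · have hd : cert.fact m = (0, [], []) := List.getD_eq_default _ _ (not_lt.mp hm)
        simp [hd, ev_nil, ht0]) hC
    simp only [hz, mul_one, orderOf_one] at this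
    refine le_trans (card_le_of_le ?_) this
    exact closure_mono Set.subset_union_left
  have hn : cert.n = 6 ∧ cert.q = 4 ∧ cert.r = 2 := by decide +kernel
  have hidx : P.index = 1485 := by
    have h := P.card_mul_index
    rw [card_sporM12, le_antisymm hup hlow, hn.1] at h
    omega
  obtain ⟨w, hw, hwr, hz⟩ := CollectMod.pow_index_mem_zpowers hσ cert (hn.2.1.symm ▸ hexp) hC g t ht0 hfacts hlow
  refine ⟨w, hw, hn.2.2 ▸ hwr, fun z hzk => ?_⟩
  have := hz z hzk
  rwa [← hP, hidx, show (1485 : ℕ) = 4 * 371 + 1 by norm_num, pow_succ, pow_mul, hexp z hzk, one_pow, one_mul] at this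

theorem three_cubed_dvd {G : Type*} [Group G] [Finite G] {a b c : G} (ha : orderOf a = 3) (hb : orderOf b = 3)
    (hc : orderOf c = 3) (hcd : ⁅a, b⁆ = c) (hca : Commute c a) (hcb : Commute c b) :
    3 ^ 3 ∣ Nat.card (closure ({a, b} : Set G)) := by
  haveI : Fact (Nat.Prime 3) := ⟨Nat.prime_three⟩
  have hp : ∀ {x : G}, orderOf x = 3 → IsPGroup 3 (zpowers x) := fun {x} hx =>
    IsPGroup.of_card (n := 1) (by rw [Nat.card_zpowers, hx, pow_one])
  have hnc : zpowers a ≤ normalizer (zpowers c : Set G) := by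
    rw [zpowers_le, mem_normalizer_iff_map_conj_eq, MonoidHom.map_zpowers]
    congr 1
    exact mul_inv_eq_iff_eq_mul.mpr hca.eq.symm
  have hN := (hp hc).to_sup_of_normal_left' (hp ha) hnc
  have hN' : zpowers b ≤ normalizer ((zpowers c ⊔ zpowers a : Subgroup G) : Set G) := by
    have e : (zpowers c ⊔ zpowers a).map (MulAut.conj b).toMonoidHom ≤ zpowers c ⊔ zpowers a := by
      rw [Subgroup.map_sup, MonoidHom.map_zpowers, MonoidHom.map_zpowers, sup_le_iff, zpowers_le, zpowers_le]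
      refine ⟨?_, ?_⟩
      · show b * c * b⁻¹ ∈ _
        rw [← hcb.eq, mul_inv_cancel_right]
        exact mem_sup_left (mem_zpowers c)
      · show b * a * b⁻¹ ∈ _
        have e : a * b = c * b * a := by rw [← hcd, commutatorElement_def]; group
        rw [show b * a * b⁻¹ = c⁻¹ * a by
          rw [mul_inv_eq_iff_eq_mul, mul_assoc, e, mul_assoc c, inv_mul_cancel_left]]
        exact mul_mem (inv_mem (mem_sup_left (mem_zpowers c))) (mem_sup_right (mem_zpowers a))
    rw [zpowers_le, mem_normalizer_iff_map_conj_eq]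
    exact eq_of_le_of_card_ge e (le_of_eq (card_map_of_injective (MulAut.conj b).injective).symm)
  have hQ := hN.to_sup_of_normal_left' (hp hb) hN'
  set P := closure ({a, b} : Set G)
  have hA : a ∈ P := subset_closure (Or.inl rfl)
  have hB : b ∈ P := subset_closure (Or.inr rfl)
  have hC : c ∈ P := hcd ▸ mul_mem (mul_mem (mul_mem hA hB) (inv_mem hA)) (inv_mem hB)
  have he : P = zpowers c ⊔ zpowers a ⊔ zpowers b := le_antisymm
    ((closure_le _).mpr (by
      rintro _ (rfl | rfl)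
      exacts [mem_sup_left (mem_sup_right (mem_zpowers _)), mem_sup_right (mem_zpowers _)]))
    (sup_le (sup_le (zpowers_le.mpr hC) (zpowers_le.mpr hA)) (zpowers_le.mpr hB))
  have hP : IsPGroup 3 P := he ▸ hQ
  obtain ⟨k, hk⟩ := IsPGroup.iff_card.mp hP
  rw [hk]
  refine pow_dvd_pow 3 ?_
  by_contra hlt
  have hne : (⟨a, hA⟩ : P) * ⟨b, hB⟩ ≠ ⟨b, hB⟩ * ⟨a, hA⟩ := fun h => by
    have : c = 1 := hcd ▸ commutatorElement_eq_one_iff_commute.mpr (congrArg Subtype.val h : a * b = b * a)
    rw [this, orderOf_one] at hc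
    norm_num at hc
  apply hne
  have h3 : k = 0 ∨ k = 1 ∨ k = 2 := by omega
  rcases h3 with rfl | rfl | rfl
  · haveI := (Nat.card_eq_one_iff_unique.mp (hk.trans (pow_zero 3))).1
    exact Subsingleton.elim _ _
  · haveI := isCyclic_of_prime_card (hk.trans (pow_one 3))
    exact (mul_comm' _ _)
  · exact (IsPGroup.isMulCommutative_of_card_eq_prime_sq hk).is_comm.comm _ _

theorem ker_small {Γ : Type u} [Group Γ] [Finite Γ] {σ : Γ →* Spor.M12} (hσ : Cfsg.IsStemExtension σ) :
    ∃ w ∈ σ.ker, w ^ 2 = 1 ∧ σ.ker ≤ zpowers w := by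
  classical
  obtain ⟨e5, e11, ea, eb, ec, eca, ecb, eab, etc, eta, etb⟩ := odd_ok
  have hex : ∀ c ∈ oddCodes, ∃ g : Spor.M12, Repr c (g : Equiv.Perm GolayPt) := fun c hc =>
    exists_elem (List.mem_append_right _ hc)
  obtain ⟨a5, h5⟩ := hex o5 (by simp [oddCodes])
  obtain ⟨a11, h11⟩ := hex o11 (by simp [oddCodes])
  obtain ⟨a, ha⟩ := hex oa (by simp [oddCodes])
  obtain ⟨b, hb⟩ := hex ob (by simp [oddCodes])
  obtain ⟨c, hc⟩ := hex oc (by simp [oddCodes])
  obtain ⟨t, ht⟩ := hex ot (by simp [oddCodes])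
  haveI : Fact (Nat.Prime 3) := ⟨Nat.prime_three⟩
  haveI : Fact (Nat.Prime 5) := ⟨Nat.prime_five⟩
  haveI : Fact (Nat.Prime 11) := ⟨by norm_num⟩
  have oA : orderOf a = 3 := orderOf_code ha (by simp [oddCodes]) ea
  have oB : orderOf b = 3 := orderOf_code hb (by simp [oddCodes]) eb
  have oC : orderOf c = 3 := orderOf_code hc (by simp [oddCodes]) ec
  have ha3 : a ^ 3 = 1 := oA ▸ pow_orderOf_eq_one a
  have hb3 : b ^ 3 = 1 := oB ▸ pow_orderOf_eq_one b
  have hca : Commute c a := Subtype.ext ((hc.comp ha).unique (eca ▸ ha.comp hc))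
  have hcb : Commute c b := Subtype.ext ((hc.comp hb).unique (ecb ▸ hb.comp hc))
  have hab : a * b = c * b * a := Subtype.ext ((ha.comp hb).unique (eab ▸ (hc.comp hb).comp ha))
  have hcd : ⁅a, b⁆ = c := by rw [commutatorElement_def, hab]; group
  have htc : t * c * t⁻¹ = c := mul_inv_eq_iff_eq_mul.mpr (Subtype.ext ((ht.comp hc).unique (etc ▸ hc.comp ht)))
  have hta : t * a * t⁻¹ = a⁻¹ := by
    rw [mul_inv_eq_iff_eq_mul, show a⁻¹ = a * a from inv_eq_of_mul_eq_one_left (by rw [← sq, ← pow_succ, ha3])]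
    exact Subtype.ext ((ht.comp ha).unique (eta ▸ (ha.comp ha).comp ht))
  have htb : t * b * t⁻¹ = b⁻¹ := by
    rw [mul_inv_eq_iff_eq_mul, show b⁻¹ = b * b from inv_eq_of_mul_eq_one_left (by rw [← sq, ← pow_succ, hb3])]
    exact Subtype.ext ((ht.comp hb).unique (etb ▸ (hb.comp hb).comp ht))
  have h64 : ∀ z ∈ σ.ker, z ^ 64 = 1 := by
    intro z hz
    have hidx : ∀ (P : Subgroup Spor.M12) (m i : ℕ), m ∣ Nat.card P → m * i = 95040 → 0 < m →
        z ^ P.index = 1 → orderOf z ∣ i := by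
      intro P m i hm hmi hpos hp
      obtain ⟨d, hd⟩ := hm
      refine (orderOf_dvd_of_pow_eq_one hp).trans ⟨d, Nat.eq_of_mul_eq_mul_left hpos ?_⟩
      rw [hmi, ← card_sporM12, ← P.card_mul_index, hd]; ring
    have d1 := hidx _ 5 19008 (by rw [Nat.card_zpowers, orderOf_code h5 (by simp [oddCodes]) e5]) (by norm_num)
      (by norm_num) (CfsgLib.StSL.pow_index_eq_one_of_cyclic hσ a5 hz)
    have d2 := hidx _ 11 8640 (by rw [Nat.card_zpowers, orderOf_code h11 (by simp [oddCodes]) e11]) (by norm_num)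
      (by norm_num) (CfsgLib.StSL.pow_index_eq_one_of_cyclic hσ a11 hz)
    have d3 := hidx _ (3 ^ 3) 3520 (three_cubed_dvd oA oB oC hcd hca hcb) (by norm_num) (by norm_num)
      (pow_index_eq_one_of_heisenberg hσ ha3 hcd hca hcb oC htc hta htb hz)
    exact orderOf_dvd_iff_pow_eq_one.mp ((Nat.dvd_gcd (Nat.dvd_gcd d1 d2) d3).trans (by norm_num))
  obtain ⟨z₀, hz₀, ⟨y₀, hy₀, he₀⟩, hall⟩ := CollectMod.mod_pow hσ 4 2 (fun Δ _ _ τ hτ hexp => exp_four hτ hexp)
  have hsq : ∀ z ∈ σ.ker, ∃ v ∈ σ.ker, z ^ 2 = v ^ 4 := by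
    intro z hz
    obtain ⟨k, y, hy, rfl⟩ := hall z hz
    refine ⟨y₀ ^ k * y ^ 2, mul_mem (zpow_mem hy₀ k) (pow_mem hy 2), ?_⟩
    have hc : ∀ x, x ∈ σ.ker → ∀ g, Commute x g := fun x hx g => (mem_center_iff.mp (hσ.2.1 hx) g).symm
    rw [(hc _ (zpow_mem hz₀ k) _).mul_pow, (hc _ (zpow_mem hy₀ k) _).mul_pow, ← pow_mul, ← pow_mul]
    congr 1
    rw [← zpow_natCast (z₀ ^ k), ← zpow_natCast (y₀ ^ k), ← zpow_mul, ← zpow_mul, mul_comm k, mul_comm k,
      zpow_mul, zpow_mul, zpow_natCast, zpow_natCast, he₀]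
  have hit : ∀ j : ℕ, ∀ z ∈ σ.ker, ∃ v ∈ σ.ker, z ^ 2 = v ^ 2 ^ (j + 2) := by
    intro j
    induction j with
    | zero => exact hsq
    | succ j ih =>
      intro z hz
      obtain ⟨v, hv, e⟩ := ih z hz
      obtain ⟨u, hu, e'⟩ := hsq v hv
      refine ⟨u, hu, ?_⟩
      rw [e, show 2 ^ (j + 2) = 2 * 2 ^ (j + 1) by ring, pow_mul, e', ← pow_mul]
      congr 1
      ring
  have h2 : ∀ z ∈ σ.ker, z ^ 2 = 1 := by
    intro z hz
    obtain ⟨v, hv, e⟩ := hit 4 z hz
    rw [e]; exact h64 v hv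
  refine ⟨z₀, hz₀, h2 _ hz₀, fun z hz => ?_⟩
  obtain ⟨k, y, hy, rfl⟩ := hall z hz
  rw [show (4 : ℕ) = 2 * 2 from rfl, pow_mul, h2 y hy, one_pow, mul_one]
  exact zpow_mem (mem_zpowers z₀) k

end CfsgLib.StemSylow.MathieuTwelve
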