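/-
A collector for kernels of exponent four: two extra forms of order two make every relation of the Sylow
group exact, so such a kernel is elementary abelian of order at most four.
-/
import Mathlib
import Cfsg.Agent.Lib.StemSylow.Collect

set_option autoImplicit false
set_option linter.style.haveILetI false
set_option linter.unusedSectionVars false

namespace CfsgLib.StemSylow.CollectFour

open Subgroup
open CfsgLib.StemSylow.Collect (Eqn ev ev_nil ev_cons ev_append map_ev)
open scoped commutatorElement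

universe u v

/-- The sum of two forms modulo four, each in two bit planes. -/
def add4 (a b : ℕ × ℕ) : ℕ × ℕ := (a.1 ^^^ b.1, a.2 ^^^ b.2 ^^^ (a.1 &&& b.1))

/-- The opposite form. -/
def neg4 (a : ℕ × ℕ) : ℕ × ℕ := add4 a (add4 a a)

/-- The form of one unknown. -/
def unit4 (m : ℕ) : ℕ × ℕ := (2 ^ m, 0)

/-- The certificate: facts `(t, q, p)` say that `t q t⁻¹ = p`. -/
structure Cert where
  n : ℕ
  fuel : ℕ
  facts : List (ℕ × List ℕ × List ℕ)
  eqs : List Eqn
  forms : List (ℕ × ℕ)
  s : List (ℕ × ℕ)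
  ex1 : ℕ × ℕ
  ex2 : ℕ × ℕ
  combos : List (List ℕ × List Bool)
  rex1 : List ℕ
  rex2 : List ℕ

namespace Cert

variable (C : Cert)

def fact (m : ℕ) : ℕ × List ℕ × List ℕ := C.facts.getD m (0, [], [])

/-- The position of the relation rewriting `j i`, for `i ≤ j`. -/
def rel (i j : ℕ) : ℕ := i * C.n - i * (i - 1) / 2 + (j - i)

/-- The fact is the relation rewriting `j i`. -/
def isRel (i j m : ℕ) : Bool :=
  Nat.blt m C.facts.length && Nat.beq (C.fact m).1 0 && decide ((C.fact m).2.1 = [j, i])

/-- Collection: the first argument is a reversed normal word. -/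
def collect : ℕ → List ℕ → List ℕ → Option (List ℕ × (ℕ × ℕ))
  | 0, _, _ => none
  | _ + 1, x, [] => some (x, (0, 0))
  | k + 1, [], i :: w => collect k [i] w
  | k + 1, j :: x, i :: w =>
    if Nat.blt j i then collect k (i :: j :: x) w
    else if C.isRel i j (C.rel i j) then
      (collect k x ((C.fact (C.rel i j)).2.2 ++ w)).map fun r => (r.1, add4 r.2 (unit4 (C.rel i j)))
    else none

def xs (l : List ℕ) : ℕ × ℕ := l.foldr (fun m a => add4 (unit4 m) a) (0, 0)

def qcat : List ℕ → List ℕ
  | [] => []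
  | m :: l => (C.fact m).2.1 ++ qcat l

def pcat : List ℕ → List ℕ
  | [] => []
  | m :: l => (C.fact m).2.2 ++ pcat l

/-- The facts all have the same conjugating element. -/
def sameT (t : ℕ) (l : List ℕ) : Bool :=
  l.all fun m => Nat.blt m C.facts.length && Nat.beq (C.fact m).1 t

/-- The form of an equation. -/
def form : Eqn → Option (ℕ × ℕ)
  | .conj v1 v2 =>
    match C.collect C.fuel [] (C.qcat v1), C.collect C.fuel [] (C.qcat v2), C.collect C.fuel [] (C.pcat v1),
      C.collect C.fuel [] (C.pcat v2) with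
    | some (y1, f1), some (y2, f2), some (z1, h1), some (z2, h2) =>
      if decide (y1 = y2) && decide (z1 = z2) && C.sameT (C.fact (v1.getD 0 0)).1 v1 &&
          C.sameT (C.fact (v1.getD 0 0)).1 v2 then
        some (add4 (add4 (add4 h1 (xs v1)) (neg4 f1)) (neg4 (add4 (add4 h2 (xs v2)) (neg4 f2))))
      else none
    | _, _, _, _ => none
  | .ins pre w post =>
    match C.collect C.fuel [] w with
    | some (y, f) =>
      match C.collect C.fuel [] (pre ++ w ++ post), C.collect C.fuel [] (pre ++ y.reverse ++ post) with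
      | some (a1, f1), some (a2, f2) => if a1 = a2 then some (add4 f1 (neg4 (add4 f2 f))) else none
      | _, _ => none
    | none => none

def eqn (k : ℕ) : Eqn := C.eqs.getD k (.ins [] [] [])

/-- The declared form of equation `k` is right. -/
def eqOK (k : ℕ) : Bool := decide (C.form (C.eqn k) = some (C.forms.getD k (0, 0)))

/-- The sum of the declared forms of some equations. -/
def comb : List ℕ → ℕ × ℕ
  | [] => (0, 0)
  | k :: l => add4 (C.forms.getD k (0, 0)) (comb l)

/-- A sum of the two extra forms. -/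
def exsum : List Bool → ℕ × ℕ
  | [] => (0, 0)
  | b :: l => add4 (if b then C.ex2 else C.ex1) (exsum l)

def sv (k : ℕ) : ℕ × ℕ := C.s.getD k (0, 0)

def sx (l : List ℕ) : ℕ × ℕ := l.foldr (fun k a => add4 (C.sv k) a) (0, 0)

/-- The form of a relation after correcting the lifts. -/
def target (i j : ℕ) : ℕ × ℕ :=
  add4 (unit4 (C.rel i j)) (add4 (C.sx [j, i]) (neg4 (C.sx (C.fact (C.rel i j)).2.2)))

/-- The right side has the polycyclic shape. -/
def shape (i j : ℕ) : List ℕ → Bool
  | [] => Nat.beq j i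
  | a :: l => l.all (fun x => Nat.blt i x && Nat.blt x C.n) &&
      if Nat.beq j i then Nat.blt i a && Nat.blt a C.n else Nat.beq a i

def relOK (i j : ℕ) : Bool :=
  C.isRel i j (C.rel i j) && shape C i j (C.fact (C.rel i j)).2.2 &&
    (C.combos.getD (C.rel i j) ([], [])).1.all (fun k => Nat.blt k C.eqs.length) &&
    decide (add4 (C.comb (C.combos.getD (C.rel i j) ([], [])).1) (C.exsum (C.combos.getD (C.rel i j) ([], [])).2) =
      C.target i j)

/-- The extra forms have order two. -/
def exOK : Bool :=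
  C.rex1.all (fun k => Nat.blt k C.eqs.length) && C.rex2.all (fun k => Nat.blt k C.eqs.length) &&
    decide (C.comb C.rex1 = add4 C.ex1 C.ex1) && decide (C.comb C.rex2 = add4 C.ex2 C.ex2)

end Cert

section Forms

variable {Γ : Type*} [Group Γ]

/-- The exponent of one unknown in a form. -/
def coef (f : ℕ × ℕ) (N : ℕ) : ℕ := (if f.1.testBit N then 1 else 0) + if f.2.testBit N then 2 else 0

/-- The product of powers of unknowns given by a form. -/
def zz (E : ℕ → Γ) : ℕ → ℕ × ℕ → Γ
  | 0, _ => 1
  | N + 1, f => zz E N f * E N ^ coef f N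

variable {E : ℕ → Γ} (hc : ∀ m g, Commute (E m) g) (h4 : ∀ m, E m ^ 4 = 1)

include hc in
theorem zz_comm (N : ℕ) (f : ℕ × ℕ) (g : Γ) : Commute (zz E N f) g := by
  induction N with
  | zero => exact Commute.one_left g
  | succ N ih => exact ih.mul_left ((hc N g).pow_left _)

include hc h4 in
theorem zz_add (N : ℕ) (a b : ℕ × ℕ) : zz E N (add4 a b) = zz E N a * zz E N b := by
  induction N with
  | zero => simp [zz]
  | succ N ih =>
    simp only [zz, ih]
    rw [(zz_comm hc N b _).symm.mul_mul_mul_comm, ← pow_add]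
    congr 1
    rw [pow_eq_pow_mod (coef a N + coef b N) (h4 N), pow_eq_pow_mod (coef (add4 a b) N) (h4 N)]
    congr 1
    simp only [coef, add4, Nat.testBit_xor, Nat.testBit_and]
    cases a.1.testBit N <;> cases a.2.testBit N <;> cases b.1.testBit N <;> cases b.2.testBit N <;> rfl

theorem zz_zero (N : ℕ) : zz E N (0, 0) = 1 := by
  induction N with
  | zero => rfl
  | succ N ih => simp [zz, ih, coef]

theorem zz_unit {N m : ℕ} (hm : m < N) : zz E N (unit4 m) = E m := by
  have hlow : ∀ K ≤ m, zz E K (unit4 m) = 1 := by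
    intro K hK
    induction K with
    | zero => rfl
    | succ K ih => rw [zz, ih (by omega)]; simp [coef, unit4, show ¬m = K by omega]
  induction N with
  | zero => omega
  | succ N ih =>
    rcases Nat.lt_succ_iff_lt_or_eq.mp hm with h | rfl
    · rw [zz, ih h]; simp [coef, unit4, show ¬m = N by omega]
    · rw [zz, hlow m le_rfl]; simp [coef, unit4]

include hc h4 in
theorem zz_four (N : ℕ) (a : ℕ × ℕ) : zz E N a ^ 4 = 1 := by
  induction N with
  | zero => exact one_pow 4
  | succ N ih => rw [zz, (zz_comm hc N a _).mul_pow, ih, ← pow_mul, mul_comm, pow_mul, h4, one_pow, one_mul]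

include hc h4 in
theorem zz_neg (N : ℕ) (a : ℕ × ℕ) : zz E N (neg4 a) = (zz E N a)⁻¹ := by
  rw [neg4, zz_add hc h4, zz_add hc h4]
  refine eq_inv_of_mul_eq_one_left ?_
  rw [← zz_four hc h4 N a]
  simp only [pow_succ, pow_zero, one_mul, mul_assoc]

end Forms

section Sound

variable (C : Cert) {Γ : Type*} [Group Γ] (Gl Tl : ℕ → Γ) {E : ℕ → Γ}

/-- A fact, lifted. -/
def FactAt (m : ℕ) : Prop :=
  Tl (C.fact m).1 * ev Gl (C.fact m).2.1 * (Tl (C.fact m).1)⁻¹ = ev Gl (C.fact m).2.2 * E m

variable {Gl Tl} (hc : ∀ m g, Commute (E m) g) (h4 : ∀ m, E m ^ 4 = 1) (hT : Tl 0 = 1)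
  (hf : ∀ m, FactAt C Gl Tl (E := E) m)

include hc h4 hT hf

theorem collect_sound : ∀ k x w y f, C.collect k x w = some (y, f) →
    ev Gl (x.reverse ++ w) = ev Gl y.reverse * zz E C.facts.length f := by
  intro k
  induction k with
  | zero => intro x w y f h; simp [Cert.collect] at h
  | succ k ih =>
    intro x w y f h
    match x, w with
    | x, [] =>
      simp [Cert.collect] at h
      obtain ⟨rfl, rfl⟩ := h
      simp [zz_zero]
    | [], i :: w =>
      simp only [Cert.collect] at h
      simpa using ih _ _ _ _ h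
    | j :: x, i :: w =>
      simp only [Cert.collect] at h
      split at h
      · simpa using ih _ _ _ _ h
      · split at h
        · rename_i hr
          simp only [Option.map_eq_some_iff, Prod.mk.injEq] at h
          obtain ⟨⟨y', f'⟩, hy, rfl, rfl⟩ := h
          simp only [Cert.isRel, Bool.and_eq_true, decide_eq_true_eq, Nat.blt_eq] at hr
          obtain ⟨⟨hlt, h0⟩, hq⟩ := hr
          have h0' := Nat.eq_of_beq_eq_true h0
          have hm := hf (C.rel i j)
          rw [FactAt, h0', hT, inv_one, mul_one, one_mul, hq] at hm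
          have hy' := ih _ _ _ _ hy
          rw [ev_append, ev_append] at hy'
          calc ev Gl ((j :: x).reverse ++ i :: w)
              = ev Gl x.reverse * ev Gl [j, i] * ev Gl w := by
                rw [List.reverse_cons, List.append_assoc, ev_append, List.singleton_append, ev_cons, ev_cons, ev_cons,
                  ev_cons, ev_nil]
                simp only [mul_one, mul_assoc]
            _ = ev Gl x.reverse * (ev Gl (C.fact (C.rel i j)).2.2 * ev Gl w) * E (C.rel i j) := by
                rw [hm]; simp only [mul_assoc]; rw [(hc _ (ev Gl w)).eq]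
            _ = _ := by
                rw [hy', zz_add hc h4, zz_unit hlt, mul_assoc]
        · simp at h

theorem conj_sound (t : ℕ) : ∀ l, C.sameT t l = true →
    Tl t * ev Gl (C.qcat l) * (Tl t)⁻¹ = ev Gl (C.pcat l) * zz E C.facts.length (Cert.xs l) := by
  intro l
  induction l with
  | nil => intro _; simp [Cert.qcat, Cert.pcat, Cert.xs, ev_nil, zz_zero]
  | cons m l ih =>
    intro h
    simp only [Cert.sameT, List.all_cons, Bool.and_eq_true, Nat.blt_eq] at h
    obtain ⟨⟨hlt, ht⟩, hl⟩ := h
    have hm := hf m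
    rw [FactAt, Nat.eq_of_beq_eq_true ht] at hm
    have := ih hl
    simp only [Cert.qcat, Cert.pcat, ev_append]
    rw [show Cert.xs (m :: l) = add4 (unit4 m) (Cert.xs l) from rfl, zz_add hc h4, zz_unit hlt]
    calc Tl t * (ev Gl (C.fact m).2.1 * ev Gl (C.qcat l)) * (Tl t)⁻¹
        = (Tl t * ev Gl (C.fact m).2.1 * (Tl t)⁻¹) * (Tl t * ev Gl (C.qcat l) * (Tl t)⁻¹) := by group
      _ = ev Gl (C.fact m).2.2 * (E m * ev Gl (C.pcat l)) * zz E C.facts.length (Cert.xs l) := by
        rw [hm, this]; simp only [mul_assoc]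
      _ = _ := by rw [(hc m _).eq]; simp only [mul_assoc]

theorem form_sound (e : Eqn) (a : ℕ × ℕ) (h : C.form e = some a) : zz E C.facts.length a = 1 := by
  have hs := collect_sound C hc h4 hT hf C.fuel []
  simp only [List.reverse_nil, List.nil_append] at hs
  set N := C.facts.length
  cases e with
  | conj v1 v2 =>
    simp only [Cert.form] at h
    split at h
    · rename_i y1 f1 y2 f2 z1 g1 z2 g2 e1 e2 e3 e4
      split at h
      · rename_i hh
        simp only [Bool.and_eq_true, decide_eq_true_eq] at hh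
        obtain ⟨⟨⟨rfl, rfl⟩, ht1⟩, ht2⟩ := hh
        obtain rfl : _ = a := by simpa using h
        set t := (C.fact (v1.getD 0 0)).1
        have key : ∀ v f g, C.collect C.fuel [] (C.qcat v) = some (y1, f) →
            C.collect C.fuel [] (C.pcat v) = some (z1, g) → C.sameT t v = true →
            Tl t * ev Gl y1.reverse * (Tl t)⁻¹ = ev Gl z1.reverse * zz E N (add4 (add4 g (Cert.xs v)) (neg4 f)) := by
          intro v f g hq hp hv
          have hh := conj_sound C hc h4 hT hf t v hv
          rw [hs _ _ _ hq, hs _ _ _ hp] at hh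
          have e : Tl t * (ev Gl y1.reverse * zz E N f) * (Tl t)⁻¹ =
              Tl t * ev Gl y1.reverse * (Tl t)⁻¹ * zz E N f := by
            rw [← mul_assoc, mul_assoc, (zz_comm hc N f _).eq, ← mul_assoc]
          rw [e, mul_assoc (ev Gl z1.reverse), ← zz_add hc h4] at hh
          rw [zz_add hc h4, zz_neg hc h4, ← mul_assoc, ← hh, mul_inv_cancel_right]
        have heq := (key v1 f1 g1 e1 e3 ht1).symm.trans (key v2 f2 g2 e2 e4 ht2)
        rw [zz_add hc h4, zz_neg hc h4, mul_left_cancel heq, mul_inv_cancel]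
      · simp at h
    · simp at h
  | ins pre w post =>
    simp only [Cert.form] at h
    split at h
    · rename_i y f ey
      split at h
      · rename_i a1 f1 a2 f2 e1 e2
        split at h
        · rename_i heq
          subst heq
          obtain rfl : _ = a := by simpa using h
          have k1 := hs _ _ _ e1
          have k2 := hs _ _ _ e2
          rw [ev_append, ev_append, hs _ _ _ ey, ← mul_assoc, mul_assoc _ (zz E N f),
            (zz_comm hc N f _).eq, ← mul_assoc] at k1
          rw [ev_append, ev_append] at k2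
          rw [k2, mul_assoc, ← zz_add hc h4] at k1
          rw [zz_add hc h4, zz_neg hc h4, ← mul_left_cancel k1, mul_inv_cancel]
        · simp at h
      · simp at h
    · simp at h

theorem comb_sound (heq : ∀ k < C.eqs.length, C.eqOK k = true) :
    ∀ l : List ℕ, l.all (fun k => Nat.blt k C.eqs.length) = true → zz E C.facts.length (C.comb l) = 1 := by
  intro l
  induction l with
  | nil => intro _; exact zz_zero _
  | cons k l ih =>
    intro h
    simp only [List.all_cons, Bool.and_eq_true, Nat.blt_eq] at h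
    have hk := heq k h.1
    simp only [Cert.eqOK, decide_eq_true_eq] at hk
    rw [Cert.comb, zz_add hc h4, form_sound C hc h4 hT hf _ _ hk, ih h.2, one_mul]

omit hT hf in
theorem ev_twist (l : List ℕ) :
    ev (fun k => Gl k * zz E C.facts.length (C.sv k)) l = ev Gl l * zz E C.facts.length (C.sx l) := by
  induction l with
  | nil => simp [ev_nil, Cert.sx, zz_zero]
  | cons k l ih =>
    rw [ev_cons, ev_cons, ih, show C.sx (k :: l) = add4 (C.sv k) (C.sx l) from rfl, zz_add hc h4,
      (zz_comm hc _ (C.sv k) _).mul_mul_mul_comm]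

variable (heq : ∀ k < C.eqs.length, C.eqOK k = true)
  (he1 : zz E C.facts.length C.ex1 = 1) (he2 : zz E C.facts.length C.ex2 = 1)

include heq he1 he2

/-- The corrected lifts satisfy the relations exactly. -/
theorem rel_sound {i j : ℕ} (h : C.relOK i j = true) :
    ev (fun k => Gl k * zz E C.facts.length (C.sv k)) [j, i] =
      ev (fun k => Gl k * zz E C.facts.length (C.sv k)) (C.fact (C.rel i j)).2.2 := by
  simp only [Cert.relOK, Cert.isRel, Bool.and_eq_true, decide_eq_true_eq, Nat.blt_eq] at h
  obtain ⟨⟨⟨⟨⟨hlt, h0⟩, hq⟩, -⟩, hall⟩, hcb⟩ := h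
  have hm := hf (C.rel i j)
  rw [FactAt, Nat.eq_of_beq_eq_true h0, hT, inv_one, mul_one, one_mul, hq] at hm
  have hex : ∀ l, zz E C.facts.length (C.exsum l) = 1 := by
    intro l
    induction l with
    | nil => exact zz_zero _
    | cons b l ih => rw [Cert.exsum, zz_add hc h4, ih]; cases b <;> simp [he1, he2]
  have ht : zz E C.facts.length (C.target i j) = 1 := by
    rw [← hcb, zz_add hc h4, comb_sound C hc h4 hT hf heq _ hall, hex, one_mul]
  rw [Cert.target, zz_add hc h4, zz_add hc h4, zz_unit hlt, zz_neg hc h4, ← mul_assoc, mul_inv_eq_one] at ht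
  rw [ev_twist C hc h4, ev_twist C hc h4, hm, mul_assoc, ht]

/-- Corrected lifts modulo the two extra forms generate a group of order at most `2 ^ n`. -/
theorem card_lift [Finite Γ] (h : ∀ i < C.n, ∀ j < C.n, i ≤ j → C.relOK i j = true) :
    Nat.card (closure ((fun k => Gl k * zz E C.facts.length (C.sv k)) '' {k | k < C.n})) ≤ 2 ^ C.n := by
  set G' := fun k => Gl k * zz E C.facts.length (C.sv k)
  have hk : ∀ d ≤ C.n, Nat.card (closure (G' '' {k | C.n - d ≤ k ∧ k < C.n})) ≤ 2 ^ d := by
    intro d hd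
    induction d with
    | zero =>
      rw [show {k | C.n - 0 ≤ k ∧ k < C.n} = (∅ : Set ℕ) by ext k; simp, Set.image_empty, Subgroup.closure_empty,
        Subgroup.card_bot, pow_zero]
    | succ d ih =>
      set i := C.n - (d + 1)
      set N := closure (G' '' {k | C.n - d ≤ k ∧ k < C.n})
      have hrel : ∀ j, i ≤ j → j < C.n → C.relOK i j = true := fun j hij hj => h i (by omega) j hj hij
      have hin : ∀ x, i < x → x < C.n → G' x ∈ N := fun x h1 h2 =>
        subset_closure ⟨x, ⟨by omega, h2⟩, rfl⟩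
      have hev : ∀ l : List ℕ, (∀ x ∈ l, i < x ∧ x < C.n) → ev G' l ∈ N := fun l hl =>
        list_prod_mem (fun y hy => by
          obtain ⟨x, hx, rfl⟩ := List.mem_map.mp hy
          exact hin x (hl x hx).1 (hl x hx).2)
      have hshape : ∀ j, i ≤ j → j < C.n → C.shape i j (C.fact (C.rel i j)).2.2 = true := fun j a b => by
        have := hrel j a b
        simp only [Cert.relOK, Bool.and_eq_true] at this
        exact this.1.1.2
      have hsq : G' i * G' i ∈ N := by
        have e := rel_sound C hc h4 hT hf heq he1 he2 (hrel i le_rfl (by omega))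
        rw [ev_cons, ev_cons, ev_nil, mul_one] at e
        show G' i * G' i ∈ N
        rw [e]
        refine hev _ fun x hx => ?_
        have := hshape i le_rfl (by omega)
        cases hp : (C.fact (C.rel i i)).2.2 with
        | nil => simp [hp] at hx
        | cons a l =>
          rw [hp] at this hx
          simp only [Cert.shape, Bool.and_eq_true, List.all_eq_true, Nat.blt_eq] at this
          rw [if_pos (Nat.beq_refl i)] at this
          simp only [Bool.and_eq_true, Nat.blt_eq] at this
          rcases List.mem_cons.mp hx with rfl | hx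
          exacts [this.2, this.1 x hx]
      have hconj : ∀ a ∈ N, (G' i)⁻¹ * a * G' i ∈ N := by
        intro a ha
        induction ha using closure_induction with
        | mem y hy =>
          obtain ⟨j, ⟨hj1, hj2⟩, rfl⟩ := hy
          have e := rel_sound C hc h4 hT hf heq he1 he2 (hrel j (by omega) hj2)
          rw [ev_cons, ev_cons, ev_nil, mul_one] at e
          have := hshape j (by omega) hj2
          have hne : Nat.beq j i = false := by
            rw [← Bool.not_eq_true]; intro hb; have := Nat.eq_of_beq_eq_true hb; omega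
          cases hp : (C.fact (C.rel i j)).2.2 with
          | nil => rw [hp] at this; simp [Cert.shape, hne] at this
          | cons a l =>
            rw [hp] at this e
            simp only [Cert.shape, Bool.and_eq_true, List.all_eq_true, Nat.blt_eq, hne] at this
            obtain ⟨hl, ha⟩ := this
            obtain rfl : a = i := Nat.eq_of_beq_eq_true (by simpa using ha)
            rw [mul_assoc, show G' j * G' i = G' i * ev G' l from e.trans (ev_cons _ _ _), inv_mul_cancel_left]
            exact hev l hl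
        | one => simp
        | mul x y _ _ hx hy =>
          rw [show (G' i)⁻¹ * (x * y) * G' i = ((G' i)⁻¹ * x * G' i) * ((G' i)⁻¹ * y * G' i) by group]
          exact mul_mem hx hy
        | inv x _ hx =>
          rw [show (G' i)⁻¹ * x⁻¹ * G' i = ((G' i)⁻¹ * x * G' i)⁻¹ by group]
          exact inv_mem hx
      have := Collect.card_double N hconj hsq (S := G' '' {k | i ≤ k ∧ k < C.n}) (by
        rintro _ ⟨k, ⟨hk1, hk2⟩, rfl⟩
        rcases Nat.lt_or_eq_of_le hk1 with hlt | heq
        · exact Or.inl (hin k hlt hk2)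
        · exact Or.inr (by rw [heq]))
      calc _ ≤ 2 * Nat.card N := this
        _ ≤ 2 * 2 ^ d := Nat.mul_le_mul_left _ (ih (by omega))
        _ = 2 ^ (d + 1) := by ring
  simpa using hk C.n le_rfl

end Sound

/-- Transfer, once the corrected lifts split the preimage of `P`. -/
theorem pow_of_lifts {G : Type v} [Group G] {Γ : Type u} [Group Γ] [Finite Γ] {σ : Γ →* G}
    (hσ : Cfsg.IsStemExtension σ) {P : Subgroup G} (L : Subgroup Γ) (hmap : L.map σ = P)
    (hle : Nat.card L ≤ Nat.card P) {z : Γ} (hz : z ∈ σ.ker) : z ^ P.index = 1 := by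
  haveI : Finite G := Finite.of_surjective σ hσ.1
  have hinj : ∀ x ∈ L, σ x = 1 → x = 1 := by
    have hsurj : Function.Surjective fun x : L => (⟨σ x, hmap ▸ mem_map_of_mem σ x.2⟩ : P) := by
      rintro ⟨y, hy⟩
      rw [← hmap] at hy
      obtain ⟨x, hx, rfl⟩ := hy
      exact ⟨⟨x, hx⟩, rfl⟩
    have hb := (Nat.bijective_iff_surjective_and_card _).mpr
      ⟨hsurj, le_antisymm hle (Nat.card_le_card_of_surjective _ hsurj)⟩
    intro x hx h1
    have := @hb.1 ⟨x, hx⟩ ⟨1, one_mem L⟩ (Subtype.ext (by simp [h1]))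
    exact congrArg Subtype.val this
  obtain ⟨hmem, hcm⟩ := CfsgLib.StSL.pow_index_mem hσ P hz
  have hcom : commutator (P.comap σ) ≤ L.subgroupOf (P.comap σ) := by
    rw [_root_.commutator_def, commutator_le]
    rintro ⟨a, ha⟩ - ⟨b, hb⟩ -
    have hdec : ∀ a ∈ P.comap σ, ∃ l ∈ L, σ a = σ l := by
      intro a ha
      rw [mem_comap, ← hmap] at ha
      obtain ⟨l, hl, he⟩ := ha
      exact ⟨l, hl, he.symm⟩
    obtain ⟨la, hla, ea⟩ := hdec a ha
    obtain ⟨lb, hlb, eb⟩ := hdec b hb
    rw [mem_subgroupOf]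
    show ⁅a, b⁆ ∈ L
    rw [CfsgLib.StSL.comm_congr hσ.2.1 ea eb]
    exact mul_mem (mul_mem (mul_mem hla hlb) (inv_mem hla)) (inv_mem hlb)
  exact hinj _ (mem_subgroupOf.mp (hcom hcm)) (MonoidHom.mem_ker.mp (pow_mem hz _))

/-- A kernel of exponent four is elementary abelian of order at most four. -/
theorem ker_le_four {G : Type v} [Group G] {Γ : Type u} [Group Γ] [Finite Γ] {σ : Γ →* G}
    (hσ : Cfsg.IsStemExtension σ) (hexp : ∀ z ∈ σ.ker, z ^ 4 = 1) (C : Cert)
    (heq : ∀ k < C.eqs.length, C.eqOK k = true) (hrel : ∀ i < C.n, ∀ j < C.n, i ≤ j → C.relOK i j = true)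
    (hex : C.exOK = true) (g t : ℕ → G) (ht : t 0 = 1)
    (hfacts : ∀ m < C.facts.length, t (C.fact m).1 * ev g (C.fact m).2.1 * (t (C.fact m).1)⁻¹ = ev g (C.fact m).2.2)
    (hcard : 2 ^ C.n ≤ Nat.card (closure (g '' {k | k < C.n})))
    (hdiv : ¬ 2 * 2 ^ C.n ∣ Nat.card G) : Nat.card σ.ker ≤ 4 ∧ ∀ z ∈ σ.ker, z * z = 1 := by
  classical
  haveI : Finite G := Finite.of_surjective σ hσ.1
  have hup : Nat.card (closure (g '' {k | k < C.n})) ≤ 2 ^ C.n := by
    have hz : ∀ N f, zz (fun _ => (1 : G)) N f = 1 := fun N f => by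
      induction N with
      | zero => rfl
      | succ N ih => simp [zz, ih]
    have := card_lift C (Gl := g) (Tl := t) (E := fun _ => 1) (fun _ _ => Commute.one_left _) (fun _ => one_pow _) ht
      (fun m => by
        show _ = _ * (1 : G)
        rw [mul_one]
        by_cases hm : m < C.facts.length
        · exact hfacts m hm
        · rw [show C.fact m = (0, [], []) from List.getD_eq_default _ _ (not_lt.mp hm)]
          simp [ev_nil, ht]) heq (hz _ _) (hz _ _) hrel
    simpa only [hz, mul_one] using this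
  have hodd : Odd (closure (g '' {k | k < C.n})).index := by
    rw [← Nat.not_even_iff_odd, even_iff_two_dvd]
    intro h
    refine hdiv ?_
    rw [← (closure (g '' {k | k < C.n})).card_mul_index, le_antisymm hup hcard, mul_comm 2]
    exact Nat.mul_dvd_mul_left _ h
  let Gl : ℕ → Γ := fun k => Function.surjInv hσ.1 (g k)
  let Tl : ℕ → Γ := fun k => if k = 0 then 1 else Function.surjInv hσ.1 (t k)
  let E : ℕ → Γ := fun m => (ev Gl (C.fact m).2.2)⁻¹ *
    (Tl (C.fact m).1 * ev Gl (C.fact m).2.1 * (Tl (C.fact m).1)⁻¹)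
  have hG : ∀ k, σ (Gl k) = g k := fun k => Function.surjInv_eq hσ.1 _
  have hTl : ∀ k, σ (Tl k) = t k := fun k => by
    by_cases hk : k = 0
    · simp [Tl, hk, ht]
    · simp [Tl, hk, Function.surjInv_eq hσ.1]
  have hev : ∀ l, σ (ev Gl l) = ev g l := fun l => by rw [map_ev]; simp only [hG]
  have hE : ∀ m, E m ∈ σ.ker := by
    intro m
    rw [MonoidHom.mem_ker]
    simp only [E, map_mul, map_inv, hev, hTl]
    by_cases hm : m < C.facts.length
    · rw [hfacts m hm, inv_mul_cancel]
    · have hd : C.fact m = (0, [], []) := List.getD_eq_default _ _ (not_lt.mp hm)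
      simp [hd, ev_nil, ht]
  have hc : ∀ m x, Commute (E m) x := fun m x => (mem_center_iff.mp (hσ.2.1 (hE m)) x).symm
  have h4 : ∀ m, E m ^ 4 = 1 := fun m => hexp _ (hE m)
  have hf : ∀ m, FactAt C Gl Tl (E := E) m := fun m => (mul_inv_cancel_left _ _).symm
  have hT : Tl 0 = 1 := by simp [Tl]
  have hzk : ∀ N f, zz E N f ∈ σ.ker := by
    intro N f
    induction N with
    | zero => exact one_mem _
    | succ N ih => exact mul_mem ih (pow_mem (hE N) _)
  set w1 := zz E C.facts.length C.ex1
  set w2 := zz E C.facts.length C.ex2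
  simp only [Cert.exOK, Bool.and_eq_true, decide_eq_true_eq] at hex
  obtain ⟨⟨⟨hl1, hl2⟩, hr1⟩, hr2⟩ := hex
  have hw1 : w1 * w1 = 1 := by rw [← zz_add hc h4, ← hr1, comb_sound C hc h4 hT hf heq _ hl1]
  have hw2 : w2 * w2 = 1 := by rw [← zz_add hc h4, ← hr2, comb_sound C hc h4 hT hf heq _ hl2]
  let F : Bool × Bool → Γ := fun p => (if p.1 then w1 else 1) * (if p.2 then w2 else 1)
  have hF : ∀ p q, F p * F q = F (xor p.1 q.1, xor p.2 q.2) := by
    intro p q
    have c12 : ∀ a b : Bool, Commute (if a then w2 else (1 : Γ)) (if b then w1 else 1) := fun a b => by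
      cases a
      · exact Commute.one_left _
      · cases b
        · exact Commute.one_right _
        · exact zz_comm hc _ _ _
    simp only [F]
    rw [(c12 p.2 q.1).mul_mul_mul_comm]
    congr 1
    · cases p.1 <;> cases q.1 <;> simp [hw1]
    · cases p.2 <;> cases q.2 <;> simp [hw2]
  let W : Subgroup Γ :=
    { carrier := Set.range F
      one_mem' := ⟨(false, false), by simp [F]⟩
      mul_mem' := by rintro _ _ ⟨p, rfl⟩ ⟨q, rfl⟩; exact ⟨_, (hF p q).symm⟩
      inv_mem' := by
        rintro _ ⟨p, rfl⟩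
        exact ⟨p, eq_inv_of_mul_eq_one_left (by rw [hF]; simp [F])⟩ }
  have hWk : W ≤ σ.ker := by
    rintro _ ⟨p, rfl⟩
    refine mul_mem ?_ ?_ <;> split
    exacts [hzk _ _, one_mem _, hzk _ _, one_mem _]
  suffices hker : σ.ker ≤ W by
    refine ⟨(card_le_of_le hker).trans (le_trans ?_ (le_of_eq (by simp : Nat.card (Bool × Bool) = 4))), fun z hz => ?_⟩
    · exact Nat.card_le_card_of_surjective (fun p => (⟨F p, p, rfl⟩ : W)) (by rintro ⟨_, p, rfl⟩; exact ⟨p, rfl⟩)
    · obtain ⟨p, rfl⟩ := hker hz
      rw [hF]; simp [F]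
  haveI : W.Normal := ⟨fun x hx a => by
    rw [mem_center_iff.mp (hσ.2.1 (hWk hx)) a, mul_inv_cancel_right]; exact hx⟩
  set π := QuotientGroup.mk' W with hπ
  set τ := QuotientGroup.lift W σ hWk with hτ
  have hmk : ∀ x, τ (π x) = σ x := fun x => QuotientGroup.lift_mk' W hWk x
  have hsurj := QuotientGroup.mk'_surjective W
  have hlift : ∀ d ∈ τ.ker, ∃ x ∈ σ.ker, π x = d := by
    intro d hd
    obtain ⟨x, rfl⟩ := hsurj d
    exact ⟨x, by rwa [MonoidHom.mem_ker, hmk] at hd, rfl⟩
  have hst : Cfsg.IsStemExtension τ := by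
    refine ⟨fun y => ?_, fun d hd => ?_, fun d hd => ?_⟩
    · obtain ⟨x, rfl⟩ := hσ.1 y
      exact ⟨π x, hmk x⟩
    · obtain ⟨x, hx, rfl⟩ := hlift d hd
      rw [mem_center_iff]
      intro a
      obtain ⟨a, rfl⟩ := hsurj a
      rw [← map_mul, ← map_mul, mem_center_iff.mp (hσ.2.1 hx) a]
    · obtain ⟨x, hx, rfl⟩ := hlift d hd
      have hm := mem_map_of_mem π (hσ.2.2 hx)
      rw [_root_.commutator_def, map_commutator, map_top_of_surjective _ hsurj] at hm
      exact hm
  have hπzz : ∀ N f, π (zz E N f) = zz (fun m => π (E m)) N f := by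
    intro N f
    induction N with
    | zero => exact map_one π
    | succ N ih => simp only [zz, map_mul, map_pow, ih]
  have hc' : ∀ m (x : Γ ⧸ W), Commute (π (E m)) x := by
    intro m x
    obtain ⟨x, rfl⟩ := hsurj x
    exact (hc m x).map π
  have hle := card_lift C (Gl := fun k => π (Gl k)) (Tl := fun k => π (Tl k)) (E := fun m => π (E m))
    hc' (fun m => by rw [← map_pow, h4, map_one]) (by simp [Tl]) (fun m => by
      show _ = _
      rw [← map_ev π, ← map_ev π, ← map_mul, ← map_inv, ← map_mul, ← map_mul]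
      exact congrArg π (mul_inv_cancel_left _ _).symm) heq
    (by rw [← hπzz, hπ, QuotientGroup.mk'_apply, QuotientGroup.eq_one_iff]; exact ⟨(true, false), by simp [F, w1]⟩)
    (by rw [← hπzz, hπ, QuotientGroup.mk'_apply, QuotientGroup.eq_one_iff]; exact ⟨(false, true), by simp [F, w2]⟩)
    hrel
  intro z hz
  have h1 : π z ^ (closure (g '' {k | k < C.n})).index = 1 := by
    refine CfsgLib.StemSylow.CollectFour.pow_of_lifts hst _ ?_ (hle.trans hcard) (MonoidHom.mem_ker.mpr ((hmk z).trans hz))
    rw [MonoidHom.map_closure, Set.image_image]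
    congr 1
    refine Set.image_congr fun k _ => ?_
    rw [map_mul, ← hπzz, hmk, hmk, MonoidHom.mem_ker.mp (hzk _ _), mul_one, hG]
  have hg := pow_gcd_eq_one.mpr ⟨(show π z ^ 4 = 1 by rw [← map_pow, hexp z hz, map_one]), h1⟩
  rw [show Nat.gcd 4 (closure (g '' {k | k < C.n})).index = 1 from
    (Nat.Coprime.pow_left 2 (Nat.coprime_two_left.mpr hodd) : Nat.Coprime (2 ^ 2) _), pow_one] at hg
  rwa [hπ, QuotientGroup.mk'_apply, QuotientGroup.eq_one_iff] at hg

/-- Squares of kernel elements are fourth powers. -/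
theorem sq_mem_fourth {G : Type v} [Group G] {Γ : Type u} [Group Γ] [Finite Γ] {σ : Γ →* G}
    (hσ : Cfsg.IsStemExtension σ)
    (h : ∀ (Δ : Type u) [Group Δ] [Finite Δ] (τ : Δ →* G), Cfsg.IsStemExtension τ →
      (∀ z ∈ τ.ker, z ^ 4 = 1) → ∀ z ∈ τ.ker, z * z = 1) {z : Γ} (hz : z ∈ σ.ker) :
    ∃ y ∈ σ.ker, z * z = y ^ 4 := by
  let S : Subgroup Γ :=
    { carrier := {x | ∃ y ∈ σ.ker, y ^ 4 = x}
      one_mem' := ⟨1, one_mem _, one_pow 4⟩
      mul_mem' := by
        rintro _ _ ⟨a, ha, rfl⟩ ⟨b, hb, rfl⟩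
        exact ⟨a * b, mul_mem ha hb, (show Commute a b from mem_center_iff.mp (hσ.2.1 hb) a).mul_pow 4⟩
      inv_mem' := by
        rintro _ ⟨a, ha, rfl⟩
        exact ⟨a⁻¹, inv_mem ha, inv_pow a 4⟩ }
  have hSk : S ≤ σ.ker := by rintro _ ⟨a, ha, rfl⟩; exact pow_mem ha 4
  haveI : S.Normal := ⟨fun x hx g => by
    rw [mem_center_iff.mp (hσ.2.1 (hSk hx)) g, mul_inv_cancel_right]; exact hx⟩
  set τ := QuotientGroup.lift S σ hSk with hτ
  have hmk : ∀ x, τ (QuotientGroup.mk' S x) = σ x := fun x => QuotientGroup.lift_mk' S hSk x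
  have hlift : ∀ d ∈ τ.ker, ∃ x ∈ σ.ker, QuotientGroup.mk' S x = d := by
    intro d hd
    obtain ⟨x, rfl⟩ := QuotientGroup.mk'_surjective S d
    exact ⟨x, by rwa [MonoidHom.mem_ker, hmk] at hd, rfl⟩
  have hst : Cfsg.IsStemExtension τ := by
    refine ⟨fun y => ?_, fun d hd => ?_, fun d hd => ?_⟩
    · obtain ⟨x, rfl⟩ := hσ.1 y
      exact ⟨QuotientGroup.mk' S x, hmk x⟩
    · obtain ⟨x, hx, rfl⟩ := hlift d hd
      rw [mem_center_iff]
      intro g
      obtain ⟨g, rfl⟩ := QuotientGroup.mk'_surjective S g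
      rw [← map_mul, ← map_mul, mem_center_iff.mp (hσ.2.1 hx) g]
    · obtain ⟨x, hx, rfl⟩ := hlift d hd
      have hm := mem_map_of_mem (QuotientGroup.mk' S) (hσ.2.2 hx)
      rw [_root_.commutator_def, map_commutator, map_top_of_surjective _ (QuotientGroup.mk'_surjective S)] at hm
      exact hm
  have h1 := h _ τ hst (fun d hd => by
    obtain ⟨x, hx, rfl⟩ := hlift d hd
    rw [← map_pow, QuotientGroup.mk'_apply, QuotientGroup.eq_one_iff]
    exact ⟨x, hx, rfl⟩) (QuotientGroup.mk' S z) (by rw [MonoidHom.mem_ker, hmk]; exact hz)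
  rw [← map_mul, QuotientGroup.mk'_apply, QuotientGroup.eq_one_iff] at h1
  obtain ⟨y, hy, e⟩ := h1
  exact ⟨y, hy, e.symm⟩

end CfsgLib.StemSylow.CollectFour
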