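/-
The double cover of M12 as the monomial group of the ternary code, and the multiplier of M12.
-/
import Mathlib
import Cfsg.Agent.Lib.Ternary.Auto
import Cfsg.Agent.Lib.Golay.Mathieu
import Cfsg.Agent.Lib.Golay.Classes
import Cfsg.Agent.Lib.StemSylow.MathieuTwelve

set_option autoImplicit false
set_option maxRecDepth 100000
set_option linter.style.haveILetI false

namespace CfsgLib.StemSylow.TwelveCover

open Cfsg CfsgGolay
open CfsgTernary (fromM hexL posMap sgn lifts_iff blocks_eq diag_const)
open scoped commutatorElement Pointwise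

attribute [local irreducible] codeL octadL dodecadL slpCodes

/-- The images of the twelve positions in the dodecad. -/
def bL : List ℕ := [0, 1, 2, 3, 4, 12, 13, 8, 9, 18, 6, 16]

/-- The position map into the dodecad. -/
def posT (p : ArrayPt) : GolayPt := pt (bL.getD (CfsgTernary.idx p) 0)

/-- Its inverse on the dodecad. -/
def invT (x : GolayPt) : ArrayPt := CfsgTernary.pts.getD (bL.idxOf (CfsgGolay.idx x)) (0, 0)

theorem posT_spec : ∀ p : ArrayPt, invT (posT p) = p ∧ posT p ∈ toSet 340831 := by decide +kernel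

theorem invT_spec : ∀ x : GolayPt, x ∈ toSet 340831 → posT (invT x) = x := by decide +kernel

/-- The image of a mask. -/
def bm (h : ℕ) : ℕ := orBits (((List.range 12).filter fun i => h.testBit i).map fun i => bL.getD i 0)

theorem bm_ok : (hexL.all fun h => octadL.any fun o => Nat.beq (o &&& 340831) (bm h)) = true ∧
    (octadL.all fun o => !(Nat.beq (pc (o &&& 340831)) 6) || hexL.any fun h => Nat.beq (o &&& 340831) (bm h)) = true ∧
    (hexL.all fun h => Nat.beq (pc (bm h)) 6) = true := by
  decide +kernel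

theorem pos_facts : (∀ p : ArrayPt, CfsgTernary.idx p < 12 ∧ CfsgTernary.pts.getD (CfsgTernary.idx p) (0, 0) = p) ∧
    (∀ i < 12, CfsgTernary.idx (CfsgTernary.pts.getD i (0, 0)) = i) ∧ (∀ i < 12, bL.getD i 0 < 24) := by
  decide +kernel

theorem toSet_bm (h : ℕ) : toSet (bm h) = (fromM h).image posT := by
  obtain ⟨h1, h2, h3⟩ := pos_facts
  ext x
  simp only [bm, mem_toSet, testBit_orBits, List.mem_map, List.mem_filter, List.mem_range, Finset.mem_image, fromM,
    Finset.mem_filter, Finset.mem_univ, true_and]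
  constructor
  · rintro ⟨i, ⟨hi, hb⟩, he⟩
    refine ⟨CfsgTernary.pts.getD i (0, 0), by rw [h2 i hi]; exact hb, ?_⟩
    apply idx_injective
    rw [posT, h2 i hi, idx_pt (h3 i hi), he]
  · rintro ⟨p, hp, rfl⟩
    exact ⟨CfsgTernary.idx p, ⟨(h1 p).1, hp⟩, by rw [posT, idx_pt (h3 _ (h1 p).1)]⟩

/-- The blocks of the ternary system. -/
def Bl : Set (Finset ArrayPt) := {h : Finset ArrayPt | ∃ x ∈ ternaryGolayCode, ternarySupport x = h ∧ h.card = 6}

theorem g_mem {g : Equiv.Perm GolayPt} (hg : g ∈ Spor.M12) :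
    g ∈ M24 ∧ g • toSet 340831 = toSet 340831 ∧ ∀ x ∈ toSet 340831, g x ∈ toSet 340831 := by
  rw [M12_eq] at hg
  obtain ⟨h1, -, h3⟩ := mem_subG.mp hg
  have h := h3 340831 (by simp)
  have hs : g • toSet 340831 = toSet 340831 := h
  exact ⟨h1, hs, fun x hx => by rw [← hs]; exact pt_mem_smul.mpr hx⟩

/-- The induced permutation of the positions. -/
noncomputable def theta (g : Spor.M12) : Equiv.Perm ArrayPt where
  toFun p := invT ((g : Equiv.Perm GolayPt) (posT p))
  invFun p := invT ((g : Equiv.Perm GolayPt)⁻¹ (posT p))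
  left_inv p := by
    show invT ((g : Equiv.Perm GolayPt)⁻¹ (posT (invT ((g : Equiv.Perm GolayPt) (posT p))))) = p
    rw [invT_spec _ ((g_mem g.2).2.2 _ (posT_spec p).2), show (g : Equiv.Perm GolayPt)⁻¹ ((g : Equiv.Perm GolayPt) (posT p)) = posT p from Equiv.symm_apply_apply _ _]
    exact (posT_spec p).1
  right_inv p := by
    show invT ((g : Equiv.Perm GolayPt) (posT (invT ((g : Equiv.Perm GolayPt)⁻¹ (posT p))))) = p
    rw [invT_spec _ ((g_mem (inv_mem g.2)).2.2 _ (posT_spec p).2), show (g : Equiv.Perm GolayPt) ((g : Equiv.Perm GolayPt)⁻¹ (posT p)) = posT p from Equiv.apply_symm_apply _ _]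
    exact (posT_spec p).1

theorem posT_theta (g : Spor.M12) (p : ArrayPt) : posT (theta g p) = (g : Equiv.Perm GolayPt) (posT p) :=
  invT_spec _ ((g_mem g.2).2.2 _ (posT_spec p).2)

theorem posT_injective : Function.Injective posT := fun p q h => by
  rw [← (posT_spec p).1, h, (posT_spec q).1]

theorem theta_mem (g : Spor.M12) : theta g ∈ setSystemAut Bl := by
  obtain ⟨hM, hD, -⟩ := g_mem g.2
  rw [CfsgTwelve.mem_aut]
  have hsub : (fun b => b.image (theta g)) '' Bl ⊆ Bl := by
    rintro _ ⟨b, hb, rfl⟩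
    rw [Bl, blocks_eq] at hb ⊢
    obtain ⟨h, hh, rfl⟩ := hb
    obtain ⟨o, ho, hoe⟩ := List.any_eq_true.mp (List.all_eq_true.mp bm_ok.1 h hh)
    have e1 : ((fromM h).image (theta g)).image posT = ((toSet o).image (g : Equiv.Perm GolayPt)) ∩ toSet 340831 := by
      rw [Finset.image_image, show posT ∘ theta g = (g : Equiv.Perm GolayPt) ∘ posT from funext (posT_theta g),
        ← Finset.image_image, ← toSet_bm, ← Nat.eq_of_beq_eq_true hoe, toSet_and,
        Finset.image_inter _ _ (g : Equiv.Perm GolayPt).injective, ← smul_set_pts _ (toSet 340831), hD]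
    obtain ⟨o', ho', hoo⟩ : ∃ o' ∈ octadL, (toSet o).image (g : Equiv.Perm GolayPt) = toSet o' := by
      have h1 := image_mem_octads hM (toSet_mem_octads ho)
      refine ⟨_, mem_octads.mp h1, ?_⟩
      ext x
      rw [mem_toSet, testBit_toMask]
    rw [hoo, ← toSet_and] at e1
    have hc : pc (o' &&& 340831) = 6 := by
      rw [← card_toSet, ← e1, Finset.card_image_of_injective _ posT_injective,
        Finset.card_image_of_injective _ (theta g).injective, ← Finset.card_image_of_injective _ posT_injective,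
        ← toSet_bm, card_toSet]
      exact Nat.eq_of_beq_eq_true (List.all_eq_true.mp bm_ok.2.2 h hh)
    have h2 := List.all_eq_true.mp bm_ok.2.1 o' ho'
    rw [hc] at h2
    simp only [Bool.or_eq_true, List.any_eq_true, Nat.beq_refl, Bool.not_true, Bool.false_eq_true, false_or] at h2
    obtain ⟨h', hh', he'⟩ := h2
    refine ⟨h', hh', Finset.image_injective posT_injective ?_⟩
    show (fromM h').image posT = ((fromM h).image (theta g)).image posT
    rw [e1, ← toSet_bm, Nat.eq_of_beq_eq_true he']
  exact Set.eq_of_subset_of_ncard_le hsub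
    (le_of_eq (Set.ncard_image_of_injective _ (Finset.image_injective (theta g).injective)).symm) (Set.toFinite _)

/-- M12 acting on the positions. -/
noncomputable def thetaHom : Spor.M12 →* setSystemAut Bl where
  toFun g := ⟨theta g, theta_mem g⟩
  map_one' := Subtype.ext (Equiv.ext fun p => posT_injective (by rw [posT_theta]; rfl))
  map_mul' g h := Subtype.ext (Equiv.ext fun p => posT_injective (by
    show posT (theta (g * h) p) = posT (theta g (theta h p))
    rw [posT_theta, posT_theta, posT_theta]; rfl))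

theorem thetaHom_injective : Function.Injective thetaHom := by
  rw [injective_iff_map_eq_one]
  intro g hg
  refine Subtype.ext (twoTrans_M12.faithful (g : Equiv.Perm GolayPt) (M12_eq ▸ g.2) fun x hx => ?_)
  rw [levelPts_M12] at hx
  have h := posT_theta g (invT x)
  rw [show theta g = (1 : Equiv.Perm ArrayPt) from congrArg Subtype.val hg, Equiv.Perm.one_apply,
    invT_spec x hx] at h
  exact h.symm

/-- The isomorphism of M12 with the automorphism group of the ternary system. -/
noncomputable def isoAut : Spor.M12 ≃* setSystemAut Bl :=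
  MulEquiv.ofBijective thetaHom ((Nat.bijective_iff_injective_and_card _).mpr ⟨thetaHom_injective, by
    rw [card_sporM12]
    exact ((CfsgTwelve.aut12 (by decide +kernel : Fintype.card ArrayPt = 12) CfsgTernary.steiner.1).1.2).symm⟩)

/-- Permutations acting on sign vectors. -/
def twist : Equiv.Perm ArrayPt →* MulAut (ArrayPt → (ZMod 3)ˣ) where
  toFun σ :=
    { toFun := fun c p => c (σ.symm p)
      invFun := fun c p => c (σ p)
      left_inv := fun c => funext fun p => by simp
      right_inv := fun c => funext fun p => by simp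
      map_mul' := fun _ _ => rfl }
  map_one' := rfl
  map_mul' _ _ := rfl

/-- Signed permutations of the positions. -/
abbrev Mono : Type := (ArrayPt → (ZMod 3)ˣ) ⋊[twist] Equiv.Perm ArrayPt

instance : Finite Mono := Finite.of_equiv _ SemidirectProduct.equivProd.symm

/-- The code is preserved. -/
def Keeps (x : Mono) : Prop := ∀ v ∈ ternaryGolayCode, monomialMap x.right x.left v ∈ ternaryGolayCode

/-- The monomial group of the code. -/
def Cover : Subgroup Mono :=
  let S : Submonoid Mono :=
    { carrier := {x | Keeps x}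
      one_mem' := fun v hv => by
        convert hv using 1
        funext p
        show ((1 : (ZMod 3)ˣ) : ZMod 3) * v ((1 : Equiv.Perm ArrayPt).symm p) = v p
        rw [Units.val_one, one_mul]; rfl
      mul_mem' := fun {x y} hx hy v hv => by
        convert hx _ (hy v hv) using 1
        funext p
        simp only [monomialMap, SemidirectProduct.mul_left, SemidirectProduct.mul_right, Pi.mul_apply, Units.val_mul,
          mul_assoc]
        rfl }
  { S with
    inv_mem' := fun {x} hx => by
      have h : x⁻¹ = x ^ (orderOf x - 1) :=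
        inv_eq_of_mul_eq_one_right (by rw [← pow_succ', Nat.sub_add_cancel (orderOf_pos x), pow_orderOf_eq_one])
      show x⁻¹ ∈ S
      exact h ▸ Submonoid.pow_mem S hx _ }

/-- The projection onto the system's automorphisms. -/
noncomputable def proj : Cover →* setSystemAut Bl where
  toFun x := ⟨(x : Mono).right, lifts_iff.mp ⟨(x : Mono).left, x.2⟩⟩
  map_one' := rfl
  map_mul' _ _ := rfl

/-- The central sign. -/
def negOne : Mono := ⟨fun _ => -1, 1⟩

theorem negOne_mem : negOne ∈ Cover := fun v hv => by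
  show monomialMap (1 : Equiv.Perm ArrayPt) (fun _ => (-1 : (ZMod 3)ˣ)) v ∈ _
  convert neg_mem hv using 1
  funext p
  simp [monomialMap, show Equiv.symm (1 : Equiv.Perm ArrayPt) = 1 from rfl]

theorem mem_ker {x : Cover} : x ∈ proj.ker ↔ x = 1 ∨ x = ⟨negOne, negOne_mem⟩ := by
  constructor
  · intro hx
    have hr : (x : Mono).right = 1 := congrArg Subtype.val (MonoidHom.mem_ker.mp hx)
    rcases diag_const (x : Mono).left (fun v hv => hr ▸ x.2 v hv) with h | h
    · exact Or.inl (Subtype.ext (SemidirectProduct.ext (funext h) hr))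
    · exact Or.inr (Subtype.ext (SemidirectProduct.ext (funext h) hr))
  · rintro (rfl | rfl)
    · exact one_mem _
    · rfl

def gList : List ℕ := [11, 2, 1, 9, 8, 6, 5, 10, 4, 3, 7, 0]

def hList : List ℕ := [8, 9, 3, 2, 11, 10, 7, 6, 0, 1, 5, 4]

theorem list_facts : (∀ p : ArrayPt, posMap gList (posMap gList p) = p) ∧
    (∀ p : ArrayPt, posMap hList (posMap hList p) = p) := by decide +kernel

def gPerm : Equiv.Perm ArrayPt := ⟨posMap gList, posMap gList, list_facts.1, list_facts.1⟩

def hPerm : Equiv.Perm ArrayPt := ⟨posMap hList, posMap hList, list_facts.2, list_facts.2⟩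

def gSign : List ℕ := [1, 1, 0, 1, 1, 0, 1, 1, 0, 0, 0, 0]

def hSign : List ℕ := [0, 0, 0, 1, 1, 0, 1, 0, 1, 1, 1, 0]

def gMono : Mono := ⟨sgn gSign, gPerm⟩

def hMono : Mono := ⟨sgn hSign, hPerm⟩

theorem gen_images : ∀ k : Fin 6, (∃ s : ZMod 3,
      (∀ i : Fin 4, ∑ r : ZMod 3, monomialMap gPerm (sgn gSign) (CfsgTernary.gen k) (i, r) = -s) ∧
      ∀ a b : ZMod 3, ∑ i : Fin 4, monomialMap gPerm (sgn gSign) (CfsgTernary.gen k)
        (i, a * ![0, 1, 1, 1] i + b * ![1, 0, 1, 2] i) = s) ∧ ∃ s : ZMod 3,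
      (∀ i : Fin 4, ∑ r : ZMod 3, monomialMap hPerm (sgn hSign) (CfsgTernary.gen k) (i, r) = -s) ∧
      ∀ a b : ZMod 3, ∑ i : Fin 4, monomialMap hPerm (sgn hSign) (CfsgTernary.gen k)
        (i, a * ![0, 1, 1, 1] i + b * ![1, 0, 1, 2] i) = s := by
  decide +kernel

theorem comm_eq : gMono * hMono = negOne * (hMono * gMono) := by
  refine SemidirectProduct.ext (funext ?_) (Equiv.ext ?_) <;> decide +kernel

theorem keeps_of_gens {σ : Equiv.Perm ArrayPt} {c : ArrayPt → (ZMod 3)ˣ}
    (h : ∀ k, monomialMap σ c (CfsgTernary.gen k) ∈ ternaryGolayCode) : (⟨c, σ⟩ : Mono) ∈ Cover := fun v hv => by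
  obtain ⟨a, rfl⟩ := CfsgTernary.exists_word hv
  have hlin : monomialMap σ c (CfsgTernary.word a) = ∑ l, a l • monomialMap σ c (CfsgTernary.gen l) := by
    funext p
    simp [monomialMap, CfsgTernary.word, Fin.sum_univ_six]
    ring
  show monomialMap σ c (CfsgTernary.word a) ∈ ternaryGolayCode
  rw [hlin]
  exact sum_mem fun l _ => ternaryGolayCode.smul_mem _ (h l)

theorem negOne_comm : (⟨negOne, negOne_mem⟩ : Cover) ∈ commutator Cover := by
  let g : Cover := ⟨gMono, keeps_of_gens fun k => (CfsgTernary.mem_code_iff _).mpr (gen_images k).1⟩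
  let h : Cover := ⟨hMono, keeps_of_gens fun k => (CfsgTernary.mem_code_iff _).mpr (gen_images k).2⟩
  have e : (⟨negOne, negOne_mem⟩ : Cover) = ⁅g, h⁆ := Subtype.ext (by
    show negOne = gMono * hMono * gMono⁻¹ * hMono⁻¹
    rw [comm_eq]; group)
  rw [e, commutator_def]
  exact Subgroup.commutator_mem_commutator (Subgroup.mem_top g) (Subgroup.mem_top h)

/-- The covering map. -/
noncomputable def cover : Cover →* Spor.M12 := isoAut.symm.toMonoidHom.comp proj

theorem cover_ker : cover.ker = proj.ker := by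
  ext x; simp [cover, MonoidHom.mem_ker]

theorem cover_stem : Cfsg.IsStemExtension cover := by
  refine ⟨isoAut.symm.surjective.comp ?_, fun x hx => ?_, fun x hx => ?_⟩
  · rintro ⟨σ, hσ⟩
    obtain ⟨c, hc⟩ := lifts_iff.mpr hσ
    exact ⟨⟨⟨c, σ⟩, hc⟩, rfl⟩
  · rw [cover_ker, mem_ker] at hx
    rcases hx with rfl | rfl
    · exact one_mem _
    · refine Subgroup.mem_center_iff.mpr fun y => Subtype.ext (SemidirectProduct.ext (funext fun p => ?_) ?_)
      · show (y : Mono).left p * (-1 : (ZMod 3)ˣ) = (-1 : (ZMod 3)ˣ) * (y : Mono).left p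
        exact mul_comm _ _
      · show (y : Mono).right * 1 = 1 * (y : Mono).right
        rw [mul_one, one_mul]
  · rw [cover_ker, mem_ker] at hx
    rcases hx with rfl | rfl
    · exact one_mem _
    · exact negOne_comm

theorem card_ker : Nat.card cover.ker = 2 := by
  have hne : (1 : Cover) ≠ ⟨negOne, negOne_mem⟩ := fun h => by
    have := congrFun (congrArg SemidirectProduct.left (congrArg Subtype.val h)) (0, 0)
    exact absurd this (by decide : (1 : (ZMod 3)ˣ) ≠ -1)
  rw [cover_ker, show (proj.ker : Subgroup Cover) = proj.ker from rfl]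
  rw [show Nat.card proj.ker = ({1, ⟨negOne, negOne_mem⟩} : Set Cover).ncard from ?_, Set.ncard_pair hne]
  rw [← Nat.card_coe_set_eq]
  exact Nat.card_congr (Equiv.setCongr (Set.ext fun x => by simpa using mem_ker (x := x)))

theorem multiplier : Cfsg.HasCyclicSchurMultiplier ↥Spor.M12 2 := by
  haveI : Fact (Nat.Prime 2) := ⟨Nat.prime_two⟩
  have hZ : Nat.card (Multiplicative (ZMod 2)) = 2 := by simp
  refine ⟨⟨Cover, inferInstance, inferInstance, cover, cover_stem, ⟨mulEquivOfPrimeCardEq card_ker hZ⟩⟩,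
    fun Γ _ _ σ hσ => ?_⟩
  obtain ⟨w, hw, hw2, hle⟩ := MathieuTwelve.ker_small hσ
  by_cases h1 : w = 1
  · refine ⟨1, fun x => ⟨1, ?_⟩⟩
    have := hle x.2
    rw [h1, Subgroup.zpowers_one_eq_bot, Subgroup.mem_bot] at this
    exact Subtype.ext this.symm
  · have hc : Nat.card σ.ker = 2 := by
      rw [le_antisymm hle (Subgroup.zpowers_le.mpr hw), Nat.card_zpowers, orderOf_eq_prime hw2 h1]
    exact ⟨(mulEquivOfPrimeCardEq hZ hc).toMonoidHom, (mulEquivOfPrimeCardEq hZ hc).surjective⟩

end CfsgLib.StemSylow.TwelveCover
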